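import Mathlib
import Cfsg.Agent.H58.OrthoAut
import Cfsg.Agent.H58.OrthoKlein
import Cfsg.Agent.H58.SimIso
import Cfsg.Agent.Orthogonal.AutPoints
import Cfsg.Agent.Orthogonal.POmega

/-!
# Semilinear similitudes between quadratic spaces and the maps they induce

A datum along a ring homomorphism `φ : F → F'` from `Q` to `Q'` is a linear bijection `E` of the
extended space with `Q'(E (φ v)) = k φ(Q v)`.
-/

set_option autoImplicit false
set_option linter.unusedSectionVars false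

namespace Cfsg.Agent.H58.OrthoField

open Matrix Module Cfsg.Agent.Orthogonal Cfsg.Agent.H58.OrthoAut Cfsg.Agent.H58.OrthoKlein
open QuadraticMap (polar)

variable {F F' F'' : Type*} [Field F] [Field F'] [Field F''] {ι κ μ : Type} [Fintype ι] [DecidableEq ι]
  [Fintype κ] [DecidableEq κ] [Fintype μ] [DecidableEq μ]
  {Q : QuadraticForm F (ι → F)} {Q' : QuadraticForm F' (κ → F')} {Q'' : QuadraticForm F'' (μ → F'')}

theorem comp_single (φ : F →+* F') (i : ι) (x : F) :
    φ ∘ (Pi.single i x : ι → F) = Pi.single i (φ x) := by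
  funext j
  rcases eq_or_ne j i with rfl | h
  · simp
  · simp [h]

theorem comp_add (φ : F →+* F') (v w : ι → F) : φ ∘ (v + w) = φ ∘ v + φ ∘ w := funext fun j => map_add φ _ _

theorem comp_smul' (φ : F →+* F') (c : F) (v : ι → F) : φ ∘ (c • v) = φ c • (φ ∘ v) :=
  funext fun j => _root_.map_mul φ _ _

/-- Two quadratic forms agreeing on the vectors with entries in the subfield are equal. -/
theorem eq_of_base (φ : F →+* F') {f g : QuadraticForm F' (ι → F')} (h : ∀ v : ι → F, f (φ ∘ v) = g (φ ∘ v)) :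
    f = g := by
  have hb : ∀ i, Pi.basisFun F' ι i = φ ∘ Pi.single i 1 := fun i => by
    rw [Pi.basisFun_apply, comp_single, map_one]
  exact qf_ext (Pi.basisFun F' ι) (fun i => by rw [hb]; exact h _)
    (fun i j _ => by rw [hb, hb, polar, polar, ← comp_add, h, h, h])

theorem linear_ext_base (φ : F →+* F') {f g : (ι → F') →ₗ[F'] (κ → F')} (h : ∀ v : ι → F, f (φ ∘ v) = g (φ ∘ v)) :
    f = g :=
  (Pi.basisFun F' ι).ext fun i => by
    rw [Pi.basisFun_apply, ← map_one φ, ← comp_single]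
    exact h _

/-- Extension of scalars of a linear map. -/
noncomputable def baseMap (φ : F →+* F') (f : (ι → F) →ₗ[F] (κ → F)) : (ι → F') →ₗ[F'] (κ → F') :=
  Matrix.toLin' ((LinearMap.toMatrix' f).map φ)

theorem baseMap_apply (φ : F →+* F') (f : (ι → F) →ₗ[F] (κ → F)) (v : ι → F) :
    baseMap φ f (φ ∘ v) = φ ∘ f v := by
  funext j
  rw [baseMap, Matrix.toLin'_apply]
  show _ = φ (f v j)
  rw [← LinearMap.toMatrix'_mulVec f v]
  exact (RingHom.map_mulVec φ _ v j).symm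

/-- Extension of scalars of a linear equivalence. -/
noncomputable def baseEquiv (φ : F →+* F') (f : (ι → F) ≃ₗ[F] (κ → F)) : (ι → F') ≃ₗ[F'] (κ → F') :=
  LinearEquiv.ofLinearMap (baseMap φ (f : (ι → F) →ₗ[F] (κ → F))) (baseMap φ (f.symm : (κ → F) →ₗ[F] (ι → F)))
    (linear_ext_base φ fun v => by simp [baseMap_apply])
    (linear_ext_base φ fun v => by simp [baseMap_apply])

theorem baseEquiv_apply (φ : F →+* F') (f : (ι → F) ≃ₗ[F] (κ → F)) (v : ι → F) :
    baseEquiv φ f (φ ∘ v) = φ ∘ f v := baseMap_apply φ _ v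

/-- A semilinear similitude from `Q` to `Q'` along `φ`. -/
structure Datum (φ : F →+* F') (Q : QuadraticForm F (ι → F)) (Q' : QuadraticForm F' (κ → F')) where
  /-- the linear bijection of the extended space -/
  E : (ι → F') ≃ₗ[F'] (κ → F')
  /-- the multiplier -/
  k : F'
  k_ne : k ≠ 0
  spec : ∀ v : ι → F, Q' (E (φ ∘ v)) = k * φ (Q v)

namespace Datum

variable {φ : F →+* F'} {ψ : F' →+* F''}

theorem polar_spec (D : Datum φ Q Q') (v w : ι → F) :
    polar Q' (D.E (φ ∘ v)) (D.E (φ ∘ w)) = D.k * φ (polar Q v w) := by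
  simp only [polar, ← map_add D.E, ← comp_add, D.spec, map_sub]
  ring

theorem nondeg (D : Datum φ Q Q') (hQ : Nondeg Q') : Nondeg Q := by
  intro x hx
  have h : D.E (φ ∘ x) = 0 := hQ _ fun y => by
    obtain ⟨z, rfl⟩ := D.E.surjective y
    have hlin : ((Q'.polarBilin (D.E (φ ∘ x))).comp (D.E : (ι → F') →ₗ[F'] (κ → F'))) = 0 :=
      (Pi.basisFun F' ι).ext fun i => by
        rw [Pi.basisFun_apply, ← map_one φ, ← comp_single]
        show polar Q' _ _ = 0
        rw [LinearEquiv.coe_coe, D.polar_spec, hx, map_zero, mul_zero]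
    exact LinearMap.congr_fun hlin z
  rw [LinearEquiv.map_eq_zero_iff] at h
  exact funext fun i => φ.injective ((congrFun h i).trans (map_zero φ).symm)

/-- The image of a matrix. -/
noncomputable def psiGL (D : Datum φ Q Q') : GL ι F →* GL κ F' :=
  (SimIso.phi D.E.symm).toMonoidHom.comp (GeneralLinearGroup.map φ)

theorem psiGL_mulVec (D : Datum φ Q Q') (g : GL ι F) (y : ι → F') :
    (D.psiGL g : Matrix κ κ F') *ᵥ D.E y = D.E ((g : Matrix ι ι F).map φ *ᵥ y) := by
  show ((SimIso.phi D.E.symm) (GeneralLinearGroup.map φ g) : Matrix κ κ F') *ᵥ D.E y = _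
  rw [SimIso.phi_mulVec]
  simp

theorem psiGL_base (D : Datum φ Q Q') (g : GL ι F) (v : ι → F) :
    (D.psiGL g : Matrix κ κ F') *ᵥ D.E (φ ∘ v) = D.E (φ ∘ ((g : Matrix ι ι F) *ᵥ v)) := by
  rw [psiGL_mulVec]
  congr 1
  exact funext fun j => (RingHom.map_mulVec φ _ v j).symm

theorem psiGL_scale (D : Datum φ Q Q') {g : GL ι F} {c : F} (hg : ∀ v, Q ((g : Matrix ι ι F) *ᵥ v) = c * Q v)
    (y : κ → F') : Q' ((D.psiGL g : Matrix κ κ F') *ᵥ y) = φ c * Q' y := by
  have h : (Q'.comp (Matrix.toLin' (D.psiGL g : Matrix κ κ F'))).comp (D.E : (ι → F') →ₗ[F'] (κ → F'))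
      = (φ c • Q').comp (D.E : (ι → F') →ₗ[F'] (κ → F')) := eq_of_base φ fun v => by
    simp only [QuadraticMap.comp_apply, LinearEquiv.coe_coe, Matrix.toLin'_apply, QuadraticMap.smul_apply,
      smul_eq_mul, psiGL_base, D.spec, hg, _root_.map_mul]
    ring
  have := DFunLike.congr_fun h (D.E.symm y)
  simpa using this

/-- The map on similitude groups. -/
noncomputable def psi (D : Datum φ Q Q') : sim Q →* sim Q' :=
  (D.psiGL.comp (sim Q).subtype).codRestrict _ fun g => by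
    obtain ⟨c, hc⟩ := g.2
    exact ⟨Units.map φ.toMonoidHom c, D.psiGL_scale hc⟩

theorem psi_coe (D : Datum φ Q Q') (g : sim Q) : ((D.psi g : sim Q') : GL κ F') = D.psiGL g := rfl

theorem psiGL_scalar (D : Datum φ Q Q') (c : Fˣ) :
    D.psiGL (GeneralLinearGroup.scalar ι c) = GeneralLinearGroup.scalar κ (Units.map φ.toMonoidHom c) := by
  refine Units.ext (Matrix.ext_iff_mulVec.2 fun y => ?_)
  obtain ⟨y, rfl⟩ := D.E.surjective y
  rw [psiGL_mulVec]
  rw [GeneralLinearGroup.coe_scalar, GeneralLinearGroup.coe_scalar, Matrix.scalar_apply, Matrix.scalar_apply,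
    Matrix.diagonal_map (map_zero φ), ← Matrix.smul_one_eq_diagonal, ← Matrix.smul_one_eq_diagonal, smul_mulVec,
    smul_mulVec, one_mulVec, one_mulVec, map_smul]
  rfl

theorem mu_psi (D : Datum φ Q Q') (hv : ∃ v, Q' v ≠ 0) (g : sim Q) :
    mu (D.psi g) = Units.map φ.toMonoidHom (mu g) :=
  mu_unique hv (D.psiGL_scale (mu_spec g))

theorem psiGL_injective (D : Datum φ Q Q') : Function.Injective D.psiGL := by
  intro g h e
  refine Units.ext (Matrix.ext_iff_mulVec.2 fun v => ?_)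
  have h1 := congrArg (fun X : GL κ F' => (X : Matrix κ κ F') *ᵥ D.E (φ ∘ v)) e
  rw [psiGL_base, psiGL_base] at h1
  exact funext fun i => φ.injective (congrFun (D.E.injective h1) i)

/-- The map on isometry groups. -/
noncomputable def psiI (D : Datum φ Q Q') : Cfsg.isometryGroup F ⇑Q →* Cfsg.isometryGroup F' ⇑Q' :=
  (D.psiGL.comp (Cfsg.isometryGroup F ⇑Q).subtype).codRestrict _ fun s =>
    (mem_isometryGroup_iff _ _).2 fun y => by
      have := D.psiGL_scale (g := s.1) (c := 1) (fun v => by rw [(mem_isometryGroup_iff _ _).1 s.2, one_mul]) y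
      rwa [map_one, one_mul] at this

theorem psiI_coe (D : Datum φ Q Q') (s : Cfsg.isometryGroup F ⇑Q) :
    ((D.psiI s : Cfsg.isometryGroup F' ⇑Q') : GL κ F') = D.psiGL s.1 := rfl

theorem psi_toSim (D : Datum φ Q Q') (s : Cfsg.isometryGroup F ⇑Q) :
    D.psi (⟨s.1, isometry_le_sim s.2⟩ : sim Q) = ⟨(D.psiI s).1, isometry_le_sim (D.psiI s).2⟩ := rfl

theorem map_omega_le (D : Datum φ Q Q') : (Cfsg.Omega F ⇑Q).map D.psiI ≤ Cfsg.Omega F' ⇑Q' := by
  simp only [Cfsg.Omega, commutator_def, Subgroup.map_commutator]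
  exact Subgroup.commutator_mono le_top le_top

/-- The map on `Ω`. -/
noncomputable def psiO (D : Datum φ Q Q') : Cfsg.Omega F ⇑Q →* Cfsg.Omega F' ⇑Q' :=
  (D.psiI.comp (Cfsg.Omega F ⇑Q).subtype).codRestrict _ fun s => D.map_omega_le ⟨s.1, s.2, rfl⟩

theorem psiO_coe (D : Datum φ Q Q') (s : Cfsg.Omega F ⇑Q) :
    ((D.psiO s).1.1 : GL κ F') = D.psiGL s.1.1 := rfl

theorem psiO_injective (D : Datum φ Q Q') : Function.Injective D.psiO := fun s t h =>
  Subtype.ext (Subtype.ext (D.psiGL_injective (congrArg (fun z : Cfsg.Omega F' ⇑Q' => z.1.1) h)))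

/-- The identity datum. -/
def refl (Q : QuadraticForm F (ι → F)) : Datum (RingHom.id F) Q Q :=
  ⟨LinearEquiv.refl F _, 1, one_ne_zero, fun v => (one_mul _).symm⟩

/-- Composition. -/
noncomputable def comp (D' : Datum ψ Q' Q'') (D : Datum φ Q Q') : Datum (ψ.comp φ) Q Q'' where
  E := (baseEquiv ψ D.E).trans D'.E
  k := D'.k * ψ D.k
  k_ne := mul_ne_zero D'.k_ne ((map_ne_zero ψ).2 D.k_ne)
  spec v := by
    rw [LinearEquiv.trans_apply, show (⇑(ψ.comp φ) ∘ v : ι → F'') = ψ ∘ (φ ∘ v) from rfl, baseEquiv_apply,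
      D'.spec, D.spec, _root_.map_mul, RingHom.comp_apply, mul_assoc]

theorem comp_psiGL (D' : Datum ψ Q' Q'') (D : Datum φ Q Q') (g : GL ι F) :
    (D'.comp D).psiGL g = D'.psiGL (D.psiGL g) := by
  refine Units.ext (Matrix.toLin'.injective ?_)
  let E₁ : (ι → F'') ≃ₗ[F''] (μ → F'') := (D'.comp D).E
  have h : (Matrix.toLin' ((D'.comp D).psiGL g : Matrix μ μ F'')).comp (E₁ : (ι → F'') →ₗ[F''] (μ → F''))
      = (Matrix.toLin' (D'.psiGL (D.psiGL g) : Matrix μ μ F'')).comp (E₁ : (ι → F'') →ₗ[F''] (μ → F'')) := by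
    refine linear_ext_base (ψ.comp φ) fun v => ?_
    simp only [LinearMap.comp_apply, LinearEquiv.coe_coe, Matrix.toLin'_apply, E₁]
    rw [psiGL_base]
    simp only [comp, LinearEquiv.trans_apply]
    rw [show (⇑(ψ.comp φ) ∘ ((g : Matrix ι ι F) *ᵥ v) : ι → F'') = ψ ∘ (φ ∘ ((g : Matrix ι ι F) *ᵥ v)) from rfl,
      show (⇑(ψ.comp φ) ∘ v : ι → F'') = ψ ∘ (φ ∘ v) from rfl, baseEquiv_apply, baseEquiv_apply, psiGL_base,
      psiGL_base]
  refine LinearMap.ext fun y => ?_
  obtain ⟨z, rfl⟩ := E₁.surjective y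
  exact LinearMap.congr_fun h z

end Datum

/-! ### Data along isomorphisms of fields -/

namespace Datum

variable {σ : F ≃+* F'} {τ : F' ≃+* F''}

/-- The semilinear map of a datum. -/
noncomputable def T (D : Datum (σ : F →+* F') Q Q') : (ι → F) ≃+ (κ → F') :=
  (AddEquiv.piCongrRight fun _ : ι => σ.toAddEquiv).trans D.E.toAddEquiv

theorem T_apply (D : Datum (σ : F →+* F') Q Q') (v : ι → F) : D.T v = D.E ((σ : F →+* F') ∘ v) := rfl

theorem T_smul (D : Datum (σ : F →+* F') Q Q') (c : F) (v : ι → F) : D.T (c • v) = σ c • D.T v := by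
  rw [T_apply, T_apply, comp_smul', map_smul]
  rfl

theorem T_spec (D : Datum (σ : F →+* F') Q Q') (v : ι → F) : Q' (D.T v) = D.k * σ (Q v) := D.spec v

theorem T_psiGL (D : Datum (σ : F →+* F') Q Q') (g : GL ι F) (v : ι → F) :
    (D.psiGL g : Matrix κ κ F') *ᵥ D.T v = D.T ((g : Matrix ι ι F) *ᵥ v) := D.psiGL_base g v

theorem eq_psiGL (D : Datum (σ : F →+* F') Q Q') (g : GL ι F) (X : GL κ F')
    (h : ∀ v, (X : Matrix κ κ F') *ᵥ D.T v = D.T ((g : Matrix ι ι F) *ᵥ v)) : X = D.psiGL g := by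
  refine Units.ext (Matrix.ext_iff_mulVec.2 fun y => ?_)
  obtain ⟨v, rfl⟩ := D.T.surjective y
  rw [h, T_psiGL]

/-- The inverse datum. -/
noncomputable def symm (D : Datum (σ : F →+* F') Q Q') : Datum (σ.symm : F' →+* F) Q' Q where
  E := baseEquiv (σ.symm : F' →+* F) D.E.symm
  k := σ.symm D.k⁻¹
  k_ne := by simpa using D.k_ne
  spec w := by
    rw [baseEquiv_apply]
    refine σ.injective ?_
    show σ (Q ((σ.symm : F' →+* F) ∘ D.E.symm w)) = σ (σ.symm D.k⁻¹ * σ.symm (Q' w))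
    rw [_root_.map_mul, σ.apply_symm_apply, σ.apply_symm_apply]
    have h := D.T_spec ((σ.symm : F' →+* F) ∘ D.E.symm w)
    rw [T_apply, show ((σ : F →+* F') ∘ ((σ.symm : F' →+* F) ∘ D.E.symm w) : ι → F') = D.E.symm w from
      funext fun i => σ.apply_symm_apply _, D.E.apply_symm_apply] at h
    rw [h, inv_mul_cancel_left₀ D.k_ne]

theorem symm_T (D : Datum (σ : F →+* F') Q Q') (v : ι → F) : D.symm.T (D.T v) = v := by
  show baseEquiv (σ.symm : F' →+* F) D.E.symm ((σ.symm : F' →+* F) ∘ D.T v) = v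
  rw [baseEquiv_apply, T_apply, D.E.symm_apply_apply]
  exact funext fun i => σ.symm_apply_apply _

theorem psiGL_symm (D : Datum (σ : F →+* F') Q Q') (g : GL ι F) : D.symm.psiGL (D.psiGL g) = g := by
  refine Units.ext (Matrix.ext_iff_mulVec.2 fun v => ?_)
  rw [← D.symm_T v, T_psiGL, T_psiGL, symm_T, symm_T]

theorem psiGL_surjective (D : Datum (σ : F →+* F') Q Q') : Function.Surjective D.psiGL := by
  intro X
  refine ⟨D.symm.psiGL X, (D.eq_psiGL _ _ fun v => ?_).symm⟩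
  refine D.symm.T.injective ?_
  rw [symm_T, ← T_psiGL D.symm, symm_T]

theorem psi_surjective (D : Datum (σ : F →+* F') Q Q') : Function.Surjective D.psi := by
  intro X
  refine ⟨D.symm.psi X, Subtype.ext ?_⟩
  obtain ⟨g, hg⟩ := D.psiGL_surjective X.1
  rw [psi_coe, psi_coe, ← hg, psiGL_symm]

theorem psiO_surjective (D : Datum (σ : F →+* F') Q Q') : Function.Surjective D.psiO := by
  intro X
  refine ⟨D.symm.psiO X, Subtype.ext (Subtype.ext ?_)⟩
  obtain ⟨g, hg⟩ := D.psiGL_surjective X.1.1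
  rw [psiO_coe, psiO_coe, ← hg, psiGL_symm]

/-- The isomorphism of projective groups. -/
noncomputable def iso (D : Datum (σ : F →+* F') Q Q') : Cfsg.POmega F ⇑Q ≃* Cfsg.POmega F' ⇑Q' :=
  QuotientGroup.congr _ _ (MulEquiv.ofBijective D.psiO ⟨D.psiO_injective, D.psiO_surjective⟩) (by
    ext x
    obtain ⟨y, rfl⟩ := (MulEquiv.ofBijective D.psiO ⟨D.psiO_injective, D.psiO_surjective⟩).surjective x
    rw [show (MulEquiv.ofBijective D.psiO ⟨D.psiO_injective, D.psiO_surjective⟩) y =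
      (MulEquiv.ofBijective D.psiO ⟨D.psiO_injective, D.psiO_surjective⟩).toMonoidHom y from rfl]
    refine (Subgroup.mem_map_iff_mem (f := (MulEquiv.ofBijective D.psiO ⟨D.psiO_injective, D.psiO_surjective⟩).toMonoidHom) (MulEquiv.injective _)).trans ?_
    rw [Subgroup.mem_center_iff, Subgroup.mem_center_iff]
    refine ⟨fun h z => ?_, fun h z => (MulEquiv.injective
      (MulEquiv.ofBijective D.psiO ⟨D.psiO_injective, D.psiO_surjective⟩)) ?_⟩
    · obtain ⟨z, rfl⟩ := (MulEquiv.ofBijective D.psiO ⟨D.psiO_injective, D.psiO_surjective⟩).surjective z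
      exact (_root_.map_mul _ z y).symm.trans ((congrArg _ (h z)).trans (_root_.map_mul _ y z))
    · exact (_root_.map_mul _ z y).trans ((h _).trans (_root_.map_mul _ y z).symm))

theorem iso_mk (D : Datum (σ : F →+* F') Q Q') (s : Cfsg.Omega F ⇑Q) :
    D.iso (QuotientGroup.mk s) = QuotientGroup.mk (D.psiO s) := rfl

/-- Transport of automorphisms. -/
noncomputable def autIso (D : Datum (σ : F →+* F') Q Q') :
    MulAut (Cfsg.POmega F ⇑Q) ≃* MulAut (Cfsg.POmega F' ⇑Q') := MulAut.congr D.iso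

theorem autIso_apply (D : Datum (σ : F →+* F') Q Q') (β : MulAut (Cfsg.POmega F ⇑Q)) (z : Cfsg.POmega F ⇑Q) :
    D.autIso β (D.iso z) = D.iso (β z) := by
  show D.iso (β (D.iso.symm (D.iso z))) = _
  rw [MulEquiv.symm_apply_apply]

theorem eq_autIso (D : Datum (σ : F →+* F') Q Q') {β : MulAut (Cfsg.POmega F ⇑Q)}
    {γ : MulAut (Cfsg.POmega F' ⇑Q')} (h : ∀ z, γ (D.iso z) = D.iso (β z)) : γ = D.autIso β :=
  MulEquiv.ext fun y => by
    obtain ⟨z, rfl⟩ := D.iso.surjective y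
    rw [h, autIso_apply]

theorem autIso_simAut (D : Datum (σ : F →+* F') Q Q') (g : sim Q) :
    D.autIso (simAut Q g) = simAut Q' (D.psi g) := by
  refine (D.eq_autIso fun z => ?_).symm
  induction z using QuotientGroup.induction_on with | _ s
  rw [iso_mk, simAut_mk, simAut_mk, iso_mk]
  refine congrArg QuotientGroup.mk (Subtype.ext (Subtype.ext ?_))
  rw [omegaConj_val, psiO_coe, psiO_coe, psi_coe, omegaConj_val, _root_.map_mul, _root_.map_mul, map_inv]

theorem autIso_conj (D : Datum (σ : F →+* F') Q Q') (z : Cfsg.POmega F ⇑Q) :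
    D.autIso (MulAut.conj z) = MulAut.conj (D.iso z) :=
  (D.eq_autIso fun y => by simp).symm

theorem map_Inn (D : Datum (σ : F →+* F') Q Q') :
    (Cfsg.Inn (Cfsg.POmega F ⇑Q)).map D.autIso.toMonoidHom = Cfsg.Inn (Cfsg.POmega F' ⇑Q') := by
  ext y
  constructor
  · rintro ⟨_, ⟨z, rfl⟩, rfl⟩
    exact ⟨D.iso z, (D.autIso_conj z).symm⟩
  · rintro ⟨z, rfl⟩
    obtain ⟨z, rfl⟩ := D.iso.surjective z
    exact ⟨_, ⟨z, rfl⟩, D.autIso_conj z⟩

theorem iso_comp (D' : Datum (τ : F' →+* F'') Q' Q'') (D : Datum (σ : F →+* F') Q Q')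
    (D'' : Datum ((σ.trans τ : F ≃+* F'') : F →+* F'') Q Q'')
    (h : ∀ v, D''.T v = D'.T (D.T v)) (z : Cfsg.POmega F ⇑Q) :
    D''.iso z = D'.iso (D.iso z) := by
  induction z using QuotientGroup.induction_on with | _ s
  rw [iso_mk, iso_mk, iso_mk]
  refine congrArg QuotientGroup.mk (Subtype.ext (Subtype.ext ?_))
  rw [psiO_coe, psiO_coe, psiO_coe]
  refine (D''.eq_psiGL _ _ fun v => ?_).symm
  rw [h, h, T_psiGL, T_psiGL]

end Datum

/-! ### Semilinear automorphisms -/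

section Semi

variable {σ τ : F ≃+* F}

/-- The datum of a semisimilarity pair. -/
noncomputable def semiDatum {g : GL ι F} (h : Cfsg.IsSemisimilarityPair ⇑Q g σ) : Datum (σ : F →+* F) Q Q where
  E := glEquiv g
  k := h.choose
  k_ne := h.choose.ne_zero
  spec v := h.choose_spec v

/-- The automorphism induced by a semisimilarity. -/
noncomputable def semiAut (g : GL ι F) (σ : F ≃+* F) (h : Cfsg.IsSemisimilarityPair ⇑Q g σ) :
    MulAut (Cfsg.POmega F ⇑Q) := (semiDatum h).iso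

theorem semiDatum_T {g : GL ι F} (h : Cfsg.IsSemisimilarityPair ⇑Q g σ) (v : ι → F) :
    (semiDatum h).T v = (g : Matrix ι ι F) *ᵥ (σ ∘ v) := rfl

theorem semiDatum_psiGL {g : GL ι F} (h : Cfsg.IsSemisimilarityPair ⇑Q g σ) (X : GL ι F) :
    (semiDatum h).psiGL X = g * GeneralLinearGroup.map (σ : F →+* F) X * g⁻¹ := by
  refine ((semiDatum h).eq_psiGL _ _ fun v => ?_).symm
  rw [semiDatum_T, semiDatum_T, Units.val_mul, Units.val_mul, mulVec_mulVec, mul_assoc, ← Units.val_mul g⁻¹,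
    inv_mul_cancel, Units.val_one, mul_one, ← mulVec_mulVec]
  congr 1
  exact funext fun j => (RingHom.map_mulVec (σ : F →+* F) _ v j).symm

theorem isInduced_semiAut {g : GL ι F} (h : Cfsg.IsSemisimilarityPair ⇑Q g σ) :
    Cfsg.IsInducedBySemilinearPOmega ⇑Q g σ (semiAut g σ h) := by
  intro s s' e
  show (semiDatum h).iso (QuotientGroup.mk s) = _
  rw [Datum.iso_mk]
  refine congrArg QuotientGroup.mk (Subtype.ext (Subtype.ext (Units.ext ?_)))
  rw [Datum.psiO_coe, semiDatum_psiGL, e]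
  rfl

theorem eq_semiAut {g : GL ι F} (h : Cfsg.IsSemisimilarityPair ⇑Q g σ) {β : MulAut (Cfsg.POmega F ⇑Q)}
    (hβ : Cfsg.IsInducedBySemilinearPOmega ⇑Q g σ β) : β = semiAut g σ h := by
  refine MulEquiv.ext fun z => ?_
  induction z using QuotientGroup.induction_on with | _ s
  refine hβ s ((semiDatum h).psiO s) ?_
  rw [Datum.psiO_coe, semiDatum_psiGL]
  rfl

theorem semi_mul {g g' : GL ι F} (h : Cfsg.IsSemisimilarityPair ⇑Q g σ)
    (h' : Cfsg.IsSemisimilarityPair ⇑Q g' τ) :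
    Cfsg.IsSemisimilarityPair ⇑Q (g * GeneralLinearGroup.map (σ : F →+* F) g') (τ.trans σ) := by
  obtain ⟨c, hc⟩ := h
  obtain ⟨c', hc'⟩ := h'
  refine ⟨c * Units.map (σ : F →+* F).toMonoidHom c', fun v => ?_⟩
  have e : (((GeneralLinearGroup.map (σ : F →+* F) g') : GL ι F) : Matrix ι ι F) *ᵥ (fun i => (τ.trans σ) (v i))
      = fun i => σ (((g' : Matrix ι ι F) *ᵥ fun i => τ (v i)) i) :=
    funext fun j => (RingHom.map_mulVec (σ : F →+* F) _ (fun i => τ (v i)) j).symm
  rw [Units.val_mul, ← mulVec_mulVec, e, hc, hc', _root_.map_mul, Units.val_mul, mul_assoc]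
  rfl

theorem semiAut_mul {g g' : GL ι F} (h : Cfsg.IsSemisimilarityPair ⇑Q g σ)
    (h' : Cfsg.IsSemisimilarityPair ⇑Q g' τ) :
    semiAut g σ h * semiAut g' τ h' =
      semiAut (g * GeneralLinearGroup.map (σ : F →+* F) g') (τ.trans σ) (semi_mul h h') := by
  refine MulEquiv.ext fun z => (Datum.iso_comp (semiDatum h) (semiDatum h') (semiDatum (semi_mul h h'))
    (fun v => ?_) z).symm
  rw [semiDatum_T, semiDatum_T, semiDatum_T, Units.val_mul, ← mulVec_mulVec]
  congr 1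
  exact funext fun j => (RingHom.map_mulVec (σ : F →+* F) _ (τ ∘ v) j).symm

theorem semi_congr {g g' : GL ι F} {σ σ' : F ≃+* F} (h : Cfsg.IsSemisimilarityPair ⇑Q g σ)
    (h' : Cfsg.IsSemisimilarityPair ⇑Q g' σ') (eg : g = g') (eσ : σ = σ') :
    semiAut g σ h = semiAut g' σ' h' := by
  subst eg eσ; rfl

theorem semi_sim {g : GL ι F} (hg : g ∈ sim Q) : Cfsg.IsSemisimilarityPair ⇑Q g (RingEquiv.refl F) := hg

theorem sim_of_semi {g : GL ι F} (h : Cfsg.IsSemisimilarityPair ⇑Q g (RingEquiv.refl F)) : g ∈ sim Q := h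

theorem simAut_eq (g : sim Q) : simAut Q g = semiAut g.1 (RingEquiv.refl F) (semi_sim g.2) :=
  eq_semiAut _ (isInduced_simAut g)

theorem semiAut_eq_simAut {g : GL ι F} (h : Cfsg.IsSemisimilarityPair ⇑Q g (RingEquiv.refl F)) :
    semiAut g (RingEquiv.refl F) h = simAut Q ⟨g, sim_of_semi h⟩ := (simAut_eq ⟨g, sim_of_semi h⟩).symm

theorem semiAut_one : semiAut (Q := Q) 1 (RingEquiv.refl F) (semi_sim (one_mem _)) = 1 := by
  rw [semiAut_eq_simAut]
  exact map_one (simAut Q)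

/-- `Q` has its coefficients fixed by `σ`. -/
def Fixed (Q : QuadraticForm F (ι → F)) (σ : F ≃+* F) : Prop := ∀ v : ι → F, Q (σ ∘ v) = σ (Q v)

theorem semi_fixed (hσ : Fixed Q σ) : Cfsg.IsSemisimilarityPair ⇑Q (1 : GL ι F) σ :=
  ⟨1, fun v => by rw [Units.val_one, one_mulVec, Units.val_one, one_mul]; exact hσ v⟩

/-- The standard field automorphism. -/
noncomputable def fld (σ : F ≃+* F) (hσ : Fixed Q σ) : MulAut (Cfsg.POmega F ⇑Q) := semiAut 1 σ (semi_fixed hσ)

theorem eq_fld (hσ : Fixed Q σ) {β : MulAut (Cfsg.POmega F ⇑Q)} (h : Cfsg.IsFieldAutPOmegaOf ⇑Q σ β) :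
    β = fld σ hσ :=
  eq_semiAut _ fun s s' e => h s s' (by rw [e]; simp)

theorem isFieldAut_fld (hσ : Fixed Q σ) : Cfsg.IsFieldAutPOmegaOf ⇑Q σ (fld σ hσ) := fun s s' e =>
  isInduced_semiAut (semi_fixed hσ) s s' (by rw [e]; simp)

/-- A semisimilarity with trivial matrix part. -/
theorem semiAut_split (hσ : Fixed Q σ) (g : sim Q) (h : Cfsg.IsSemisimilarityPair ⇑Q g.1 σ) :
    semiAut g.1 σ h = simAut Q g * fld σ hσ := by
  rw [simAut_eq, fld, semiAut_mul]
  exact semi_congr _ _ (by simp) (RingEquiv.ext fun x => rfl)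

theorem semi_of_sim (hσ : Fixed Q σ) (g : sim Q) : Cfsg.IsSemisimilarityPair ⇑Q g.1 σ := by
  obtain ⟨c, hc⟩ := g.2
  exact ⟨c, fun v => by rw [hc]; exact congrArg _ (hσ v)⟩

theorem sim_of_semi_fixed (hσ : Fixed Q σ) {g : GL ι F} (h : Cfsg.IsSemisimilarityPair ⇑Q g σ) : g ∈ sim Q := by
  obtain ⟨c, hc⟩ := h
  refine ⟨c, fun v => ?_⟩
  obtain ⟨w, rfl⟩ : ∃ w : ι → F, σ ∘ w = v := ⟨σ.symm ∘ v, funext fun i => σ.apply_symm_apply _⟩
  rw [hσ]; exact hc w

/-- The entrywise action of `σ` on similitudes. -/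
noncomputable def th (σ : F ≃+* F) (hσ : Fixed Q σ) : sim Q →* sim Q := (semiDatum (semi_fixed hσ)).psi

theorem th_coe (hσ : Fixed Q σ) (g : sim Q) :
    ((th σ hσ g : sim Q) : GL ι F) = GeneralLinearGroup.map (σ : F →+* F) g.1 := by
  rw [th, Datum.psi_coe, semiDatum_psiGL, one_mul, inv_one, mul_one]

theorem autIso_semiAut {g : GL ι F} (h : Cfsg.IsSemisimilarityPair ⇑Q g σ) (β : MulAut (Cfsg.POmega F ⇑Q)) :
    (semiDatum h).autIso β = semiAut g σ h * β * (semiAut g σ h)⁻¹ :=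
  MulEquiv.ext fun _ => rfl

theorem fld_conj (hσ : Fixed Q σ) (g : sim Q) :
    fld σ hσ * simAut Q g * (fld σ hσ)⁻¹ = simAut Q (th σ hσ g) := by
  rw [fld, ← autIso_semiAut, Datum.autIso_simAut]
  rfl

theorem semiAut_conj {g : GL ι F} (h : Cfsg.IsSemisimilarityPair ⇑Q g σ) (X : sim Q) :
    semiAut g σ h * simAut Q X * (semiAut g σ h)⁻¹ = simAut Q ((semiDatum h).psi X) := by
  rw [← autIso_semiAut, Datum.autIso_simAut]

end Semi

/-! ### The kernel -/

section Kernel

variable [Finite F]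

/-- Commuting with every Eichler transformation. -/
theorem eq_scalar_of_commute (hQ : Nondeg Q) (hn : 5 ≤ Fintype.card ι) (C : (ι → F) →+ (ι → F))
    (hC : ∀ u w (hu : Q u = 0) (hw : polar Q u w = 0) x,
      C ((sie u w hu hw : (ι → F) ≃ₗ[F] (ι → F)) x) = (sie u w hu hw : (ι → F) ≃ₗ[F] (ι → F)) (C x)) :
    ∃ c : F, ∀ x, C x = c • x := by
  refine exists_scalar_of_commute_ring (S := {L | ∃ u w, Q u = 0 ∧ polar Q u w = 0 ∧ L = sieLin Q u w}) ?_ C ?_
  · refine subring_eq_top_of_sie hQ (by rw [finrank_fintype_fun_eq_card]; omega) _ fun x y hx hy => ?_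
    exact Subring.subset_closure ⟨x, y, hx, hy, rfl⟩
  · rintro _ ⟨u, w, hu, hw, rfl⟩ x
    exact hC u w hu hw x

theorem sieLin_pow {p : ℕ} [CharP F p] (u w : ι → F) (hu : Q u = 0) (hw : polar Q u w = 0) :
    (toO Q).symm (sie u w hu hw) ^ p = 1 := by
  have hk : ∀ (k : ℕ) (x : ι → F),
      ((sie u w hu hw ^ k : O Q) : (ι → F) ≃ₗ[F] (ι → F)) x = sieLin Q u ((k : F) • w) x := by
    intro k x
    induction k generalizing x with
    | zero => simp [sieLin_apply]
    | succ k ih =>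
      rw [pow_succ', Subgroup.coe_mul, mul_app, ih]
      show sieLin Q u w _ = _
      rw [sieLin_comp hu hw (by rw [polar_smul_right', hw, mul_zero]), Nat.cast_succ, add_smul, one_smul,
        add_comm]
  rw [← map_pow, EmbeddingLike.map_eq_one_iff]
  refine O.ext_app fun x => ?_
  rw [hk, CharP.cast_eq_zero, zero_smul, sieLin_zero]
  rfl

theorem sie_mem_omega (hQ : Nondeg Q) (hn : 5 ≤ Fintype.card ι) (u w : ι → F) (hu : Q u = 0)
    (hw : polar Q u w = 0) : (toO Q).symm (sie u w hu hw) ∈ Cfsg.Omega F ⇑Q := by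
  rw [mem_omega_iff, MulEquiv.apply_symm_apply,
    ← sieGroup_eq_commutator hQ (by rw [finrank_fintype_fun_eq_card]; exact hn)]
  exact sie_mem hu hw

/-- A semilinear similitude whose induced map is the identity is a scalar. -/
theorem exists_scalar_of_iso_eq {σ : F ≃+* F} (D : Datum (σ : F →+* F) Q Q) (hQ : Nondeg Q)
    (hn : 5 ≤ Fintype.card ι) (hD : ∀ z, D.iso z = z) :
    σ = RingEquiv.refl F ∧ ∃ c : Fˣ, ∀ v, D.E v = (c : F) • v := by
  obtain ⟨p, hp⟩ := CharP.exists F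
  have : Fact p.Prime := ⟨(CharP.char_is_prime_or_zero F p).resolve_right (fun h0 => by
    subst h0
    have := CharP.charP_to_charZero F
    exact (not_finite F))⟩
  have hne : Nonempty ι := Fintype.card_pos_iff.1 (by omega)
  have hn' : 5 ≤ finrank F (ι → F) := by rwa [finrank_fintype_fun_eq_card]
  obtain ⟨c, hc⟩ := eq_scalar_of_commute hQ hn D.T.toAddMonoidHom fun u w hu hw x => by
    let s : Cfsg.Omega F ⇑Q := ⟨(toO Q).symm (sie u w hu hw), sie_mem_omega hQ hn u w hu hw⟩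
    have hs : s ^ p = 1 := Subtype.ext (sieLin_pow u w hu hw)
    have hz := hD (QuotientGroup.mk s)
    rw [Datum.iso_mk, eq_comm, QuotientGroup.eq] at hz
    set z := s⁻¹ * D.psiO s with hzdef
    have hzp : z ^ p = 1 := by
      have hcomm : Commute s z := Subgroup.mem_center_iff.1 hz s
      have h1 : D.psiO s ^ p = 1 := by rw [← map_pow, hs, map_one]
      rw [show D.psiO s = s * z by rw [hzdef]; group, hcomm.mul_pow, hs, one_mul] at h1
      exact h1
    have hz1 : z = 1 := by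
      have hz' : omegaEquiv Q z ∈ Subgroup.center (commutator (O Q)) :=
        Subgroup.mem_center_iff.2 fun y => by
          obtain ⟨y, rfl⟩ := (omegaEquiv Q).surjective y
          rw [← _root_.map_mul, ← _root_.map_mul, Subgroup.mem_center_iff.1 hz y]
      have := center_eq_one_of_pow hQ hn' hz' (k := 1) (by rw [pow_one, ← map_pow, hzp, map_one])
      exact (omegaEquiv Q).injective (this.trans (map_one _).symm)
    have hfix : D.psiO s = s := by
      rw [show D.psiO s = s * z by rw [hzdef]; group, hz1, mul_one]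
    have h2 := D.T_psiGL s.1.1 x
    rw [← Datum.psiO_coe, hfix] at h2
    simp only [s, toO_symm_apply] at h2
    exact h2.symm
  have hc' : ∀ x, D.T x = c • x := hc
  have hc0 : c ≠ 0 := fun h0 => by
    obtain ⟨i⟩ := hne
    have e : (Pi.single i 1 : ι → F) = 0 := D.T.injective (by rw [hc', h0, zero_smul, map_zero])
    simpa using congrFun e i
  have hσ : σ = RingEquiv.refl F := RingEquiv.ext fun a => by
    obtain ⟨i⟩ := hne
    have h := D.T_smul a (Pi.single i 1)
    rw [hc', hc', smul_smul, smul_smul] at h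
    have h2 := congrFun h i
    simp only [Pi.smul_apply, Pi.single_eq_same, smul_eq_mul, mul_one] at h2
    exact (mul_right_cancel₀ hc0 ((mul_comm a c).trans h2)).symm
  refine ⟨hσ, Units.mk0 c hc0, fun v => ?_⟩
  subst hσ
  exact hc' v

theorem eq_of_semiAut_eq_one {σ : F ≃+* F} {g : GL ι F} (h : Cfsg.IsSemisimilarityPair ⇑Q g σ) (hQ : Nondeg Q)
    (hn : 5 ≤ Fintype.card ι) (he : semiAut g σ h = 1) :
    σ = RingEquiv.refl F ∧ ∃ c : Fˣ, g = GeneralLinearGroup.scalar ι c := by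
  obtain ⟨hσ, c, hc⟩ := exists_scalar_of_iso_eq (semiDatum h) hQ hn fun z => DFunLike.congr_fun he z
  refine ⟨hσ, c, Units.ext (Matrix.ext_iff_mulVec.2 fun v => ?_)⟩
  rw [GeneralLinearGroup.coe_scalar, Matrix.scalar_apply, ← Matrix.smul_one_eq_diagonal, smul_mulVec, one_mulVec,
    ← hc v]
  rfl

theorem simAut_eq_one_iff (hQ : Nondeg Q) (hn : 5 ≤ Fintype.card ι) {g : sim Q} :
    simAut Q g = 1 ↔ ∃ c : Fˣ, (g : GL ι F) = GeneralLinearGroup.scalar ι c := by
  refine ⟨exists_scalar_of_simAut_eq_one hQ hn, ?_⟩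
  rintro ⟨c, hc⟩
  refine MulEquiv.ext fun z => ?_
  induction z using QuotientGroup.induction_on with | _ s
  rw [simAut_mk, MulAut.one_apply]
  refine congrArg QuotientGroup.mk (Subtype.ext (Subtype.ext ?_))
  rw [omegaConj_val, hc, GeneralLinearGroup.scalar_commute c s.1.1, mul_inv_cancel_right]

theorem conj_eq_simAut (s : Cfsg.Omega F ⇑Q) :
    MulAut.conj (QuotientGroup.mk s : Cfsg.POmega F ⇑Q) = simAut Q ⟨s.1.1, isometry_le_sim s.1.2⟩ := by
  refine MulEquiv.ext fun z => ?_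
  induction z using QuotientGroup.induction_on with | _ t
  rw [simAut_mk, MulAut.conj_apply, ← QuotientGroup.mk_inv, ← QuotientGroup.mk_mul, ← QuotientGroup.mk_mul]
  rfl

theorem conj_injective (hQ : Nondeg Q) (hn : 5 ≤ Fintype.card ι) :
    Function.Injective (MulAut.conj : Cfsg.POmega F ⇑Q →* MulAut (Cfsg.POmega F ⇑Q)) := by
  rw [injective_iff_map_eq_one]
  intro z hz
  induction z using QuotientGroup.induction_on with | _ s
  rw [conj_eq_simAut, simAut_eq_one_iff hQ hn] at hz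
  obtain ⟨c, hc⟩ := hz
  rw [QuotientGroup.eq_one_iff, Subgroup.mem_center_iff]
  intro t
  refine Subtype.ext (Subtype.ext ?_)
  show t.1.1 * s.1.1 = s.1.1 * t.1.1
  rw [show s.1.1 = GeneralLinearGroup.scalar ι c from hc]
  exact (GeneralLinearGroup.scalar_commute c t.1.1).symm

/-- Every automorphism is semilinear, when the semilinear ones generate. -/
theorem exists_semi (h : Cfsg.gammaPOmega F ⇑Q = ⊤) (β : MulAut (Cfsg.POmega F ⇑Q)) :
    ∃ g σ hg, β = semiAut (Q := Q) g σ hg := by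
  have : Finite (Cfsg.POmega F ⇑Q) := Finite.of_surjective _ (QuotientGroup.mk'_surjective _)
  have : Finite (MulAut (Cfsg.POmega F ⇑Q)) := Finite.of_injective (fun e => (e : _ → _)) DFunLike.coe_injective
  have hβ : β ∈ Cfsg.gammaPOmega F ⇑Q := h ▸ Subgroup.mem_top β
  rw [Cfsg.gammaPOmega, Cfsg.autSubgroupOf, ← Subgroup.mem_toSubmonoid,
    Subgroup.closure_toSubmonoid_of_finite] at hβ
  induction hβ using Submonoid.closure_induction with
  | mem x hx => obtain ⟨g, σ, hg, hi⟩ := hx; exact ⟨g, σ, hg, eq_semiAut hg hi⟩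
  | one => exact ⟨_, _, _, semiAut_one.symm⟩
  | mul x y _ _ hx hy =>
    obtain ⟨g, σ, hg, rfl⟩ := hx
    obtain ⟨g', σ', hg', rfl⟩ := hy
    exact ⟨_, _, _, semiAut_mul hg hg'⟩

end Kernel

end Cfsg.Agent.H58.OrthoField
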