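import Mathlib
import Cfsg.Agent.H58.OrthoField.Datum
import Cfsg.Agent.H58.OrthoClasses
import Cfsg.Agent.H51.ClassSplit

/-!
# The sign character of the similitude group in even dimension, in every characteristic
-/

set_option autoImplicit false
set_option linter.unusedSectionVars false

namespace Cfsg.Agent.H58.OrthoField

open Matrix Module Cfsg.Agent.Orthogonal Cfsg.Agent.H58.OrthoAut Cfsg.Agent.H58.OrthoKlein
open QuadraticMap (polar)

variable {F F' : Type*} [Field F] [Field F'] {ι κ : Type} [Fintype ι] [DecidableEq ι] [Fintype κ] [DecidableEq κ]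
  {Q : QuadraticForm F (ι → F)} {Q' : QuadraticForm F' (κ → F')} {φ : F →+* F'}

/-- The standing hypotheses in even dimension. -/
structure Space (Q : QuadraticForm F (ι → F)) (m : ℕ) : Prop where
  nondeg : Nondeg Q
  card : Fintype.card ι = 2 * m
  five : 5 ≤ Fintype.card ι

theorem Space.value {m : ℕ} (S : Space Q m) : ∃ v, Q v ≠ 0 :=
  exists_ne_zero_value S.nondeg (by have := S.five; omega)

theorem Datum.card_eq (D : Datum φ Q Q') : Fintype.card ι = Fintype.card κ := by
  have := LinearEquiv.finrank_eq D.E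
  rwa [finrank_fintype_fun_eq_card, finrank_fintype_fun_eq_card] at this

theorem Datum.nondeg' (D : Datum φ Q Q') (hQ : Nondeg Q) : Nondeg Q' := by
  set G : Matrix ι ι F := LinearMap.BilinForm.toMatrix' Q.polarBilin with hG
  have hG0 : G.det ≠ 0 :=
    (LinearMap.BilinForm.nondegenerate_toMatrix'_iff).2 hQ.polarBilin |> Matrix.nondegenerate_iff_det_ne_zero.1
  let B : LinearMap.BilinForm F' (ι → F') :=
    LinearMap.BilinForm.comp Q'.polarBilin (D.E : (ι → F') →ₗ[F'] (κ → F')) (D.E : (ι → F') →ₗ[F'] (κ → F'))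
  have hB : LinearMap.BilinForm.toMatrix' B = D.k • G.map φ := by
    ext i j
    rw [LinearMap.BilinForm.toMatrix'_apply, Matrix.smul_apply, Matrix.map_apply, hG,
      LinearMap.BilinForm.toMatrix'_apply, smul_eq_mul]
    show polar Q' (D.E (Pi.single i 1)) (D.E (Pi.single j 1)) = _
    rw [← map_one φ, ← comp_single, ← comp_single, D.polar_spec]
    rfl
  have hBn : B.Nondegenerate := by
    refine (LinearMap.BilinForm.nondegenerate_toMatrix'_iff).1 (Matrix.nondegenerate_iff_det_ne_zero.2 ?_)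
    rw [hB, Matrix.det_smul, ← RingHom.mapMatrix_apply, ← RingHom.map_det]
    exact mul_ne_zero (pow_ne_zero _ D.k_ne) ((map_ne_zero φ).2 hG0)
  intro y hy
  obtain ⟨z, rfl⟩ := D.E.surjective y
  rw [hBn.1 z fun w => hy (D.E w), map_zero]

theorem Space.transport {m : ℕ} (S : Space Q m) (D : Datum φ Q Q') : Space Q' m :=
  ⟨D.nondeg' S.nondeg, D.card_eq ▸ S.card, D.card_eq ▸ S.five⟩

theorem Space.transport' {m : ℕ} (S : Space Q' m) (D : Datum φ Q Q') : Space Q m :=
  ⟨D.nondeg S.nondeg, D.card_eq.symm ▸ S.card, D.card_eq.symm ▸ S.five⟩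

/-! ### Determinants -/

theorem Datum.det_psiGL (D : Datum φ Q Q') (g : GL ι F) :
    (D.psiGL g : Matrix κ κ F').det = φ (g : Matrix ι ι F).det := by
  have h : Matrix.toLin' (D.psiGL g : Matrix κ κ F') = (D.E : (ι → F') →ₗ[F'] (κ → F')) ∘ₗ
      Matrix.toLin' ((g : Matrix ι ι F).map φ) ∘ₗ (D.E.symm : (κ → F') →ₗ[F'] (ι → F')) :=
    LinearMap.ext fun y => by
      obtain ⟨z, rfl⟩ := D.E.surjective y
      simp [D.psiGL_mulVec]
  rw [← LinearMap.det_toLin', h, LinearMap.det_conj, LinearMap.det_toLin', ← RingHom.mapMatrix_apply,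
    ← RingHom.map_det]

variable [Finite F] [Finite F']

/-! ### Square roots in characteristic two -/

theorem sq_injective (h2 : (2 : F) = 0) {x y : F} (h : x * x = y * y) : x = y := by
  have h0 : (x - y) * (x - y) = 0 := by linear_combination h + (y * y - x * y) * h2
  exact sub_eq_zero.1 (mul_self_eq_zero.1 h0)

/-- The square root. -/
noncomputable def sqrt2 (h2 : (2 : F) = 0) (c : Fˣ) : Fˣ :=
  Units.mk0 (isSquare_of_two_eq_zero h2 (c : F)).choose fun h => c.ne_zero (by
    rw [(isSquare_of_two_eq_zero h2 (c : F)).choose_spec, h, mul_zero])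

theorem sqrt2_spec (h2 : (2 : F) = 0) (c : Fˣ) : (sqrt2 h2 c : F) * sqrt2 h2 c = c :=
  (isSquare_of_two_eq_zero h2 (c : F)).choose_spec.symm

/-- The isometry part of a similitude in characteristic two. -/
noncomputable def isoPart (h2 : (2 : F) = 0) (g : sim Q) : O Q :=
  toO Q ⟨GeneralLinearGroup.scalar ι (sqrt2 h2 (mu g))⁻¹ * g.1, (mem_isometryGroup_iff _ _).2 fun v => by
    rw [Units.val_mul, ← mulVec_mulVec, GeneralLinearGroup.coe_scalar, Matrix.scalar_apply,
      ← Matrix.smul_one_eq_diagonal, smul_mulVec, one_mulVec, qmap_smul, mu_spec, Units.val_inv_eq_inv_val,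
      ← mul_assoc, inv_pow, pow_two, sqrt2_spec, inv_mul_cancel₀ (mu g).ne_zero, one_mul]⟩

theorem isoPart_app (h2 : (2 : F) = 0) (g : sim Q) (v : ι → F) :
    (isoPart h2 g : (ι → F) ≃ₗ[F] (ι → F)) v
      = ((sqrt2 h2 (mu g))⁻¹ : Fˣ).val • (((g : GL ι F) : Matrix ι ι F) *ᵥ v) := by
  rw [isoPart, toO_apply, Units.val_mul, ← mulVec_mulVec, GeneralLinearGroup.coe_scalar, Matrix.scalar_apply,
    ← Matrix.smul_one_eq_diagonal, smul_mulVec, one_mulVec]

open Classical in
/-- The sign of a similitude: `det / μ^m` in odd characteristic, the Dickson invariant in characteristic two. -/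
noncomputable def chiFun (m : ℕ) (g : sim Q) : ℤˣ :=
  if h2 : (2 : F) = 0 then dicksonSign (isoPart h2 g) else dsign m g

theorem Space.gen {m : ℕ} (S : Space Q m) : reflGroup Q = ⊤ :=
  reflGroup_eq_top S.nondeg (Or.inr (by rw [finrank_fintype_fun_eq_card]; have := S.five; omega))

theorem isoPart_mul {m : ℕ} (S : Space Q m) (h2 : (2 : F) = 0) (g h : sim Q) :
    isoPart h2 (g * h) = isoPart h2 g * isoPart h2 h := by
  refine O.ext_app fun v => ?_
  rw [Subgroup.coe_mul, mul_app, isoPart_app, isoPart_app, isoPart_app, Subgroup.coe_mul, Units.val_mul,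
    ← mulVec_mulVec, mulVec_smul, smul_smul, ← Units.val_mul, ← mul_inv]
  congr 2
  rw [_root_.inv_inj, mul_comm (sqrt2 h2 (mu g))]
  refine Units.ext (sq_injective h2 ?_)
  rw [sqrt2_spec, mu_mul S.value, Units.val_mul, Units.val_mul, mul_mul_mul_comm, sqrt2_spec, sqrt2_spec, mul_comm]

theorem isoPart_toSim {m : ℕ} (S : Space Q m) (h2 : (2 : F) = 0) (s : Cfsg.isometryGroup F ⇑Q) :
    isoPart h2 (⟨s.1, isometry_le_sim s.2⟩ : sim Q) = toO Q s := by
  refine O.ext_app fun v => ?_
  have hmu : mu (⟨s.1, isometry_le_sim s.2⟩ : sim Q) = 1 := mu_unique S.value fun v => by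
    rw [Units.val_one, one_mul]; exact (mem_isometryGroup_iff _ _).1 s.2 v
  rw [isoPart_app, hmu, show sqrt2 h2 (1 : Fˣ) = 1 from Units.ext (sq_injective h2 (by
    rw [sqrt2_spec, Units.val_one, mul_one])), inv_one, Units.val_one, one_smul, toO_apply]

/-- The sign character. -/
noncomputable def chi {m : ℕ} (S : Space Q m) : sim Q →* ℤˣ :=
  MonoidHom.mk' (chiFun m) fun g h => by
    unfold chiFun
    split_ifs with h2
    · rw [isoPart_mul S, dicksonSign_mul S.nondeg S.gen]
    · exact dsign_mul h2 S.nondeg S.card S.value g h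

theorem chi_two {m : ℕ} (S : Space Q m) (h2 : (2 : F) = 0) (g : sim Q) :
    chi S g = dicksonSign (isoPart h2 g) := by
  show chiFun m g = _
  rw [chiFun, dif_pos h2]

theorem chi_odd {m : ℕ} (S : Space Q m) (h2 : (2 : F) ≠ 0) (g : sim Q) : chi S g = dsign m g := by
  show chiFun m g = _
  rw [chiFun, dif_neg h2]

theorem chi_scalar {m : ℕ} (S : Space Q m) (c : Fˣ) :
    chi S ⟨GeneralLinearGroup.scalar ι c, scalar_mem_sim c⟩ = 1 := by
  have hmu : mu (⟨GeneralLinearGroup.scalar ι c, scalar_mem_sim c⟩ : sim Q) = c ^ 2 := mu_unique S.value fun v => by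
    rw [GeneralLinearGroup.coe_scalar, Units.val_pow_eq_pow_val, Matrix.scalar_apply,
      ← Matrix.smul_one_eq_diagonal, smul_mulVec, one_mulVec, qmap_smul]
  by_cases h2 : (2 : F) = 0
  · rw [chi_two S h2, show isoPart h2 (⟨GeneralLinearGroup.scalar ι c, scalar_mem_sim c⟩ : sim Q) = 1 from
      O.ext_app fun v => by
        rw [isoPart_app, hmu, GeneralLinearGroup.coe_scalar, Matrix.scalar_apply, ← Matrix.smul_one_eq_diagonal,
          smul_mulVec, one_mulVec, smul_smul, ← Units.val_mul,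
          show sqrt2 h2 (c ^ 2) = c from Units.ext (sq_injective h2 (by
            rw [sqrt2_spec, Units.val_pow_eq_pow_val, pow_two])),
          inv_mul_cancel, Units.val_one, one_smul]
        rfl]
    exact dicksonSign_one
  · rw [chi_odd S h2]
    refine if_pos ?_
    rw [hmu, GeneralLinearGroup.coe_scalar, Matrix.scalar_apply, det_diagonal, Finset.prod_const, Finset.card_univ,
      S.card, Units.val_pow_eq_pow_val, ← pow_mul]

/-- The reflection as a similitude. -/
noncomputable def reflSim (Q : QuadraticForm F (ι → F)) (v : ι → F) : sim Q :=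
  ⟨(reflIso Q v).1, isometry_le_sim (reflIso Q v).2⟩

theorem chi_reflSim {m : ℕ} (S : Space Q m) {v : ι → F} (hv : Q v ≠ 0) : chi S (reflSim Q v) = -1 := by
  by_cases h2 : (2 : F) = 0
  · rw [chi_two S h2, reflSim, isoPart_toSim S h2, reflIso, MulEquiv.apply_symm_apply]
    exact dickson_rO S.nondeg S.gen hv
  · rw [chi_odd S h2]
    refine if_neg ?_
    have hd : (((reflSim Q v : sim Q) : GL ι F) : Matrix ι ι F).det = -1 := by
      show ((reflIso Q v).1 : Matrix ι ι F).det = -1
      rw [reflIso_val, det_reflectionMatrix hv]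
    have hmu : mu (reflSim Q v) = 1 := mu_unique S.value fun w => by
      rw [Units.val_one, one_mul]; exact (mem_isometryGroup_iff _ _).1 (reflIso Q v).2 w
    rw [hd, hmu, Units.val_one, one_pow]
    exact fun h => h2 (by linear_combination -h)

theorem Datum.psi_reflSim (D : Datum φ Q Q') {v : ι → F} (hv : Q v ≠ 0) :
    D.psi (reflSim Q v) = reflSim Q' (D.E (φ ∘ v)) := by
  refine Subtype.ext (Units.ext (Matrix.toLin'.injective ?_))
  let E : (ι → F') →ₗ[F'] (κ → F') := D.E
  have h : (Matrix.toLin' ((D.psi (reflSim Q v)).1 : Matrix κ κ F')).comp E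
      = (Matrix.toLin' ((reflSim Q' (D.E (φ ∘ v))).1 : Matrix κ κ F')).comp E := by
    refine linear_ext_base φ fun w => ?_
    simp only [LinearMap.comp_apply, Matrix.toLin'_apply, E, LinearEquiv.coe_coe, Datum.psi_coe]
    rw [D.psiGL_base]
    show D.E (φ ∘ (((reflIso Q v).1 : Matrix ι ι F) *ᵥ w)) = ((reflIso Q' _).1 : Matrix κ κ F') *ᵥ _
    rw [reflIso, reflIso, toO_symm_apply, toO_symm_apply, rO_app, rO_app, D.spec, D.polar_spec]
    rw [show (φ ∘ (w - ((Q v)⁻¹ * polar Q v w) • v) : ι → F') = φ ∘ w - φ ((Q v)⁻¹ * polar Q v w) • (φ ∘ v) from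
      funext fun i => by simp, map_sub, map_smul, _root_.map_mul, map_inv₀]
    congr 2
    have : φ (Q v) ≠ 0 := (map_ne_zero φ).2 hv
    have := D.k_ne
    field_simp
  refine LinearMap.ext fun y => ?_
  obtain ⟨z, rfl⟩ := D.E.surjective y
  exact LinearMap.congr_fun h z

theorem chi_natural {m : ℕ} (S : Space Q m) (S' : Space Q' m) (D : Datum φ Q Q') (g : sim Q) :
    chi S' (D.psi g) = chi S g := by
  by_cases h2 : (2 : F) = 0
  · -- a similitude is a scalar times a product of reflections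
    suffices h : ∀ o : O Q, chi S' (D.psi ⟨((toO Q).symm o).1, isometry_le_sim ((toO Q).symm o).2⟩)
        = chi S ⟨((toO Q).symm o).1, isometry_le_sim ((toO Q).symm o).2⟩ by
      have hg : g = ⟨GeneralLinearGroup.scalar ι (sqrt2 h2 (mu g)), scalar_mem_sim _⟩ *
          ⟨((toO Q).symm (isoPart h2 g)).1, isometry_le_sim ((toO Q).symm (isoPart h2 g)).2⟩ := by
        refine Subtype.ext ?_
        rw [Subgroup.coe_mul]
        show _ = GeneralLinearGroup.scalar ι (sqrt2 h2 (mu g)) * ((toO Q).symm (isoPart h2 g)).1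
        rw [isoPart, MulEquiv.symm_apply_apply]
        show _ = _ * (_ * _)
        rw [← mul_assoc, ← _root_.map_mul, mul_inv_cancel, map_one, one_mul]
      rw [hg, _root_.map_mul, _root_.map_mul, _root_.map_mul, h, chi_scalar,
        show D.psi ⟨GeneralLinearGroup.scalar ι (sqrt2 h2 (mu g)), scalar_mem_sim _⟩
          = ⟨GeneralLinearGroup.scalar κ (Units.map φ.toMonoidHom (sqrt2 h2 (mu g))), scalar_mem_sim _⟩ from
          Subtype.ext (D.psiGL_scalar _), chi_scalar]
    intro o
    let j : O Q →* sim Q := (Subgroup.inclusion (isometry_le_sim (Q := Q))).comp (toO Q).symm.toMonoidHom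
    have ho : o ∈ reflGroup Q := S.gen ▸ Subgroup.mem_top o
    show ((chi S').comp (D.psi.comp j)) o = ((chi S).comp j) o
    refine MonoidHom.eqOn_closure ?_ ho
    rintro _ ⟨v, rfl⟩
    by_cases hv : Q v = 0
    · rw [rO_of_singular hv, map_one, map_one]
    · show chi S' (D.psi (reflSim Q v)) = chi S (reflSim Q v)
      rw [D.psi_reflSim hv, chi_reflSim S hv, chi_reflSim S']
      rw [D.spec]
      exact mul_ne_zero D.k_ne ((map_ne_zero φ).2 hv)
  · have h2' : (2 : F') ≠ 0 := fun h => h2 (φ.injective (by rw [map_ofNat, map_zero, h]))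
    rw [chi_odd S h2, chi_odd S' h2', dsign, dsign, Datum.psi_coe, D.det_psiGL, D.mu_psi S'.value]
    have e : φ (((g : GL ι F) : Matrix ι ι F).det) = ((Units.map φ.toMonoidHom (mu g) : F'ˣ) : F') ^ m
        ↔ ((g : GL ι F) : Matrix ι ι F).det = (mu g : F) ^ m := by
      show φ _ = φ _ ^ m ↔ _
      rw [← map_pow, φ.injective.eq_iff]
    by_cases hd : ((g : GL ι F) : Matrix ι ι F).det = (mu g : F) ^ m
    · rw [if_pos hd, if_pos (e.2 hd)]
    · rw [if_neg hd, if_neg (e.not.2 hd)]

theorem chi_th {m : ℕ} (S : Space Q m) {σ : F ≃+* F} (hσ : Fixed Q σ) (g : sim Q) :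
    chi S (th σ hσ g) = chi S g :=
  chi_natural S S _ g

theorem exists_chi_neg {m : ℕ} (S : Space Q m) : ∃ g : sim Q, chi S g = -1 := by
  obtain ⟨v, hv⟩ := S.value
  exact ⟨reflSim Q v, chi_reflSim S hv⟩

/-! ### The two classes of maximal totally singular subspaces -/

/-- For a split space the sign is the action on the two classes. -/
theorem classes_iff_chi {K : Type*} [Field K] [Fintype K] {Q : QuadraticForm K (ι → K)} {m : ℕ} (S : Space Q m)
    (E : (ι → K) ≃ₗ[K] (Fin m ⊕ Fin m → K)) (hE : ∀ x, formPlus K m (E x) = Q x) (g : sim Q) :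
    Cfsg.PreservesSingularClasses ⇑Q ((g : GL ι K) : Matrix ι ι K) ↔ chi S g = 1 := by
  by_cases h2 : (2 : K) = 0
  · set o := isoPart h2 g with ho
    set c := sqrt2 h2 (mu g)
    have himg : ∀ U : Submodule K (ι → K), Cfsg.imageSubmodule ((g : GL ι K) : Matrix ι ι K) U
        = U.map ((o : (ι → K) ≃ₗ[K] (ι → K)) : (ι → K) →ₗ[K] (ι → K)) := by
      intro U
      ext y
      simp only [Cfsg.imageSubmodule, Submodule.mem_map, Matrix.toLin'_apply, LinearEquiv.coe_coe, ho, isoPart_app]
      constructor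
      · rintro ⟨x, hx, rfl⟩
        exact ⟨(c : K) • x, U.smul_mem _ hx, by rw [mulVec_smul, smul_smul, ← Units.val_mul, inv_mul_cancel,
          Units.val_one, one_smul]⟩
      · rintro ⟨x, hx, rfl⟩
        exact ⟨((c⁻¹ : Kˣ) : K) • x, U.smul_mem _ hx, by rw [mulVec_smul]⟩
    have hdim : finrank K (ι → K) = 2 * m := by rw [finrank_fintype_fun_eq_card, S.card]
    set W := (OrthoClasses.inlSpace K m).map (E.symm : (Fin m ⊕ Fin m → K) →ₗ[K] (ι → K)) with hWdef
    have hW : TotSing Q W := by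
      rintro _ ⟨x, hx, rfl⟩
      rw [LinearEquiv.coe_coe, ← hE, E.apply_symm_apply, formPlus_coe, Cfsg.quadFormPlus]
      exact Finset.sum_eq_zero fun i _ => by rw [OrthoClasses.mem_inlSpace.1 hx i, mul_zero]
    have dW : finrank K W = m := by rw [hWdef, LinearEquiv.finrank_map_eq, OrthoClasses.finrank_inlSpace]
    have hWmax : Cfsg.IsMaxTotallySingular ⇑Q W := by
      refine ⟨hW, fun U hU hle => (Submodule.eq_of_le_of_finrank_le hle ?_).symm⟩
      have := TotSing.two_mul_finrank_le S.nondeg (W := U) hU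
      omega
    have hmaxdim : ∀ U, Cfsg.IsMaxTotallySingular ⇑Q U → finrank K U = m := fun U hU => by
      rw [TotSing.finrank_eq_of_maximal S.nondeg hU.1 hW (fun T h h' => hU.2 T h' h)
        (fun T h h' => hWmax.2 T h' h), dW]
    have key : ∀ U, Cfsg.IsMaxTotallySingular ⇑Q U →
        (Cfsg.SameParityClass U (Cfsg.imageSubmodule ((g : GL ι K) : Matrix ι ι K) U) ↔ chi S g = 1) := by
      intro U hU
      rw [chi_two S h2, ← ho, himg, Cfsg.SameParityClass,
        H51.dicksonSign_eq_inf S.nondeg S.gen hdim hU.1 (hmaxdim U hU),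
        neg_one_pow_eq_one_iff_even (by decide), hmaxdim U hU]
      have hle := Submodule.finrank_mono
        (inf_le_left : U ⊓ U.map ((o : (ι → K) ≃ₗ[K] (ι → K)) : (ι → K) →ₗ[K] (ι → K)) ≤ U)
      rw [hmaxdim U hU] at hle
      rw [Nat.even_sub hle, Nat.even_add]
    exact ⟨fun h => (key W hWmax).1 (h W hWmax), fun h U hU => (key U hU).2 h⟩
  · rw [OrthoClasses.classes_iff h2 S.card E hE (mu g).ne_zero (mu_spec g), chi_odd S h2, dsign]
    by_cases hd : ((g : GL ι K) : Matrix ι ι K).det = (mu g : K) ^ m <;> simp [hd]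

/-- The inner-diagonal group in terms of the sign. -/
noncomputable def chiKer {m : ℕ} (S : Space Q m) : Subgroup (MulAut (Cfsg.POmega F ⇑Q)) :=
  (chi S).ker.map (simAut Q)

theorem space_plus {K : Type*} [Field K] {m : ℕ} (hm : 3 ≤ m) : Space (formPlus K m) m :=
  ⟨formPlus_nondeg K m, by simp; omega, by simp; omega⟩

theorem space_minus {K : Type*} [Field K] [Finite K] {m : ℕ} (hm : 2 ≤ m) {a b : K}
    (hab : ∀ z₁ z₂ : K, z₁ ^ 2 + a * z₁ * z₂ + b * z₂ ^ 2 = 0 → z₁ = 0 ∧ z₂ = 0) :
    Space (formMinus K m a b) (m + 1) :=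
  ⟨formMinus_nondeg m hab, by simp; omega, by simp; omega⟩

theorem inndiag_plus {K : Type*} [Field K] [Fintype K] {m : ℕ} (hm : 3 ≤ m) :
    Cfsg.inndiagPOmegaPlus m K = chiKer (space_plus (K := K) hm) := by
  refine le_antisymm ((Subgroup.closure_le _).2 fun β hβ => ?_) ?_
  · obtain ⟨g, hg, hp, h⟩ := hβ
    exact ⟨⟨g, hg⟩, MonoidHom.mem_ker.2
      ((classes_iff_chi (space_plus hm) (LinearEquiv.refl K _) (fun _ => rfl) ⟨g, hg⟩).1 hp),
      (eq_simAut (g := ⟨g, hg⟩) h).symm⟩
  · rintro _ ⟨g, hg, rfl⟩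
    exact Subgroup.subset_closure ⟨g, g.2,
      (classes_iff_chi (space_plus hm) (LinearEquiv.refl K _) (fun _ => rfl) g).2 hg, isInduced_simAut g⟩

end Cfsg.Agent.H58.OrthoField
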