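import Mathlib
import Cfsg.Agent.H58.OrthoField.Chi
import Cfsg.Agent.H58.Descent

/-!
# Semilinear automorphisms: powers, conjugation, order, descent
-/

set_option autoImplicit false
set_option linter.unusedSectionVars false

namespace Cfsg.Agent.H58.OrthoField

open Matrix Module Cfsg.Agent.Orthogonal Cfsg.Agent.H58.OrthoAut Cfsg.Agent.H58.OrthoKlein Cfsg.Agent.H58.Twist
  Cfsg.Agent.H56
open QuadraticMap (polar)

variable {F : Type*} [Field F] [Finite F] {ι : Type} [Fintype ι] [DecidableEq ι]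
  {Q : QuadraticForm F (ι → F)}

/-- The automorphisms of a finite field commute. -/
theorem field_aut_comm (σ τ : F ≃+* F) : σ * τ = τ * σ := by
  obtain ⟨p, _⟩ := CharP.exists F
  have : Fact p.Prime := ⟨(CharP.char_is_prime_or_zero F p).resolve_right (fun h0 => by
    subst h0
    have := CharP.charP_to_charZero F
    exact (not_finite F))⟩
  letI := ZMod.algebra F p
  have key : ∀ (α : F ≃+* F) (x : ZMod p), α (algebraMap (ZMod p) F x) = algebraMap (ZMod p) F x := fun α x =>
    RingHom.congr_fun (RingHom.ext_zmod ((α : F →+* F).comp (algebraMap (ZMod p) F)) (algebraMap (ZMod p) F)) x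
  let s : Gal(F/ZMod p) := AlgEquiv.ofRingEquiv (f := σ) (key σ)
  let t : Gal(F/ZMod p) := AlgEquiv.ofRingEquiv (f := τ) (key τ)
  obtain ⟨g, hg⟩ := (inferInstance : IsCyclic Gal(F/ZMod p))
  obtain ⟨i, hi⟩ := hg s
  obtain ⟨j, hj⟩ := hg t
  have h : s * t = t * s := by
    rw [← hi, ← hj]
    exact ((Commute.refl g).zpow_zpow i j).eq
  exact RingEquiv.ext fun x => DFunLike.congr_fun h x

/-- The entrywise action on matrices. -/
noncomputable abbrev gmap (σ : F ≃+* F) : GL ι F →* GL ι F := GeneralLinearGroup.map (σ : F →+* F)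

theorem gmap_scalar (σ : F ≃+* F) (c : Fˣ) :
    gmap σ (GeneralLinearGroup.scalar ι c) = GeneralLinearGroup.scalar ι (Descent.umap σ c) :=
  GeneralLinearGroup.map_scalar (σ : F →+* F) c

theorem gmap_iterate_coe (σ : F ≃+* F) (k : ℕ) (A : GL ι F) :
    (((gmap σ)^[k] A : GL ι F) : Matrix ι ι F) = (A : Matrix ι ι F).map (σ ^ k : F ≃+* F) := by
  induction k generalizing A with
  | zero => exact (Matrix.map_id _).symm
  | succ k ih =>
    rw [Function.iterate_succ_apply, ih]
    show ((A : Matrix ι ι F).map σ).map _ = _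
    rw [Matrix.map_map]; rfl

theorem scalar_central (c : Fˣ) : GeneralLinearGroup.scalar ι c ∈ Subgroup.center (GL ι F) :=
  Subgroup.mem_center_iff.2 fun g => (GeneralLinearGroup.scalar_commute c g).symm

theorem gmap_iterate_scalar (σ : F ≃+* F) (k : ℕ) (c : Fˣ) :
    (gmap σ)^[k] (GeneralLinearGroup.scalar ι c) = GeneralLinearGroup.scalar ι ((Descent.umap σ)^[k] c) := by
  induction k generalizing c with
  | zero => rfl
  | succ k ih => rw [Function.iterate_succ_apply, Function.iterate_succ_apply, gmap_scalar, ih]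

theorem normProd_scalar (σ : F ≃+* F) (k : ℕ) (c : Fˣ) :
    normProd (gmap σ) (GeneralLinearGroup.scalar ι c) k =
      GeneralLinearGroup.scalar ι (normProd (Descent.umap σ) c k) := by
  induction k with
  | zero => exact (map_one _).symm
  | succ k ih => rw [normProd_succ, normProd_succ, ih, gmap_scalar, map_mul]

theorem normProd_scalar_mul (σ : F ≃+* F) (c : Fˣ) (A : GL ι F) (k : ℕ) :
    normProd (gmap σ) (GeneralLinearGroup.scalar ι c * A) k =
      GeneralLinearGroup.scalar ι (normProd (Descent.umap σ) c k) * normProd (gmap σ) A k := by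
  rw [(normProd_mul_of_central (gmap σ) _ A
    (fun i => by rw [gmap_iterate_scalar]; exact scalar_central _) k).1, normProd_scalar]

theorem scalar_inj (hn : 0 < Fintype.card ι) {c d : Fˣ}
    (h : GeneralLinearGroup.scalar ι c = GeneralLinearGroup.scalar ι d) : c = d := by
  obtain ⟨i⟩ := Fintype.card_pos_iff.1 hn
  refine Units.ext ?_
  have := congrArg (fun A : GL ι F => (A : Matrix ι ι F) i i) h
  simpa [Matrix.scalar_apply] using this

/-! ### Powers -/

theorem semi_pow {g : GL ι F} {σ : F ≃+* F} (h : Cfsg.IsSemisimilarityPair ⇑Q g σ) :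
    ∀ k, ∃ hk, semiAut g σ h ^ k = semiAut (Q := Q) (normProd (gmap σ) g k) (σ ^ k) hk
  | 0 => ⟨semi_sim (one_mem _), by rw [pow_zero]; exact semiAut_one.symm⟩
  | k + 1 => by
    obtain ⟨hk, ek⟩ := semi_pow h k
    have hh : Cfsg.IsSemisimilarityPair ⇑Q (normProd (gmap σ) g (k + 1)) (σ ^ (k + 1)) := by
      rw [normProd_succ, pow_succ']
      exact semi_mul h hk
    refine ⟨hh, ?_⟩
    rw [pow_succ', ek, semiAut_mul]
    exact semi_congr _ _ (normProd_succ _ _ _).symm (pow_succ' σ k).symm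

theorem semiAut_scalar {g : GL ι F} {σ : F ≃+* F} (h : Cfsg.IsSemisimilarityPair ⇑Q g σ) (hQ : Nondeg Q)
    (hn : 5 ≤ Fintype.card ι) (c : Fˣ) :
    ∃ h', semiAut (Q := Q) (GeneralLinearGroup.scalar ι c * g) σ h' = semiAut g σ h := by
  have e : simAut Q ⟨GeneralLinearGroup.scalar ι c, scalar_mem_sim c⟩ = 1 :=
    (simAut_eq_one_iff hQ hn).2 ⟨c, rfl⟩
  have h1 := semiAut_mul (semi_sim (scalar_mem_sim (Q := Q) c)) h
  have eg : GeneralLinearGroup.scalar ι c * GeneralLinearGroup.map ((RingEquiv.refl F : F ≃+* F) : F →+* F) g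
      = GeneralLinearGroup.scalar ι c * g := congrArg _ (Units.ext (Matrix.map_id _))
  have eσ : σ.trans (RingEquiv.refl F) = σ := RingEquiv.ext fun _ => rfl
  have hh : Cfsg.IsSemisimilarityPair ⇑Q (GeneralLinearGroup.scalar ι c * g) σ := by
    have := semi_mul (semi_sim (scalar_mem_sim (Q := Q) c)) h
    rwa [eg, eσ] at this
  refine ⟨hh, ?_⟩
  rw [← semi_congr (semi_mul (semi_sim (scalar_mem_sim (Q := Q) c)) h) hh eg eσ, ← h1, semiAut_eq_simAut]
  exact (congrArg (· * semiAut g σ h) e).trans (one_mul _)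

theorem semiAut_field {g g' : GL ι F} {σ σ' : F ≃+* F} (h : Cfsg.IsSemisimilarityPair ⇑Q g σ)
    (h' : Cfsg.IsSemisimilarityPair ⇑Q g' σ') (hQ : Nondeg Q) (hn : 5 ≤ Fintype.card ι)
    (e : semiAut g σ h = semiAut g' σ' h') : σ = σ' := by
  have := Fintype.ofFinite F
  have := Descent.finite_ringEquiv (F := F)
  set n := orderOf (semiAut g σ h) with hn'
  have hfin : Finite (MulAut (Cfsg.POmega F ⇑Q)) := by
    have : Finite (Cfsg.POmega F ⇑Q) := Finite.of_surjective _ (QuotientGroup.mk'_surjective _)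
    exact Finite.of_injective (fun e => (e : _ → _)) DFunLike.coe_injective
  have hpos : 0 < n := orderOf_pos _
  obtain ⟨k, hk⟩ := semi_pow h n
  obtain ⟨l, hl⟩ := semi_pow h' (n - 1)
  have h1 : semiAut g σ h ^ n = 1 := pow_orderOf_eq_one _
  rw [hk] at h1
  have h2 : semiAut g σ h * semiAut _ _ l = 1 := by
    rw [← hl, ← e, ← pow_succ', Nat.sub_add_cancel hpos, pow_orderOf_eq_one]
  rw [semiAut_mul] at h2
  have e1 := (eq_of_semiAut_eq_one _ hQ hn h1).1
  have e2 := (eq_of_semiAut_eq_one _ hQ hn h2).1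
  change σ ^ n = 1 at e1
  change σ * σ' ^ (n - 1) = 1 at e2
  have e3 : σ' ^ n = 1 := by
    obtain ⟨k', hk'⟩ := semi_pow h' n
    have h3 : semiAut g' σ' h' ^ n = 1 := by rw [← e]; exact pow_orderOf_eq_one _
    rw [hk'] at h3
    exact (eq_of_semiAut_eq_one _ hQ hn h3).1
  calc σ = σ * (σ' ^ (n - 1) * σ') := by rw [← pow_succ, Nat.sub_add_cancel hpos, e3, mul_one]
    _ = σ' := by rw [← mul_assoc, e2, one_mul]

/-- Conjugation by a semilinear automorphism keeps the field automorphism. -/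
theorem semi_conj {g A : GL ι F} {τ σ : F ≃+* F} (hA : Cfsg.IsSemisimilarityPair ⇑Q A τ)
    (h : Cfsg.IsSemisimilarityPair ⇑Q g σ) (hQ : Nondeg Q) (hn : 5 ≤ Fintype.card ι) :
    ∃ g' hg', semiAut A τ hA * semiAut g σ h * (semiAut A τ hA)⁻¹ = semiAut (Q := Q) g' σ hg' := by
  have := Fintype.ofFinite F
  have := Descent.finite_ringEquiv (F := F)
  have hfin : Finite (MulAut (Cfsg.POmega F ⇑Q)) := by
    have : Finite (Cfsg.POmega F ⇑Q) := Finite.of_surjective _ (QuotientGroup.mk'_surjective _)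
    exact Finite.of_injective (fun e => (e : _ → _)) DFunLike.coe_injective
  set n := orderOf (semiAut A τ hA)
  have hpos : 0 < n := orderOf_pos _
  have hinv : (semiAut A τ hA)⁻¹ = semiAut A τ hA ^ (n - 1) :=
    inv_eq_of_mul_eq_one_right (by rw [← pow_succ', Nat.sub_add_cancel hpos, pow_orderOf_eq_one])
  obtain ⟨k, hk⟩ := semi_pow hA (n - 1)
  obtain ⟨k', hk'⟩ := semi_pow hA n
  have h1 : semiAut A τ hA ^ n = 1 := pow_orderOf_eq_one _
  rw [hk'] at h1
  have e1 : τ ^ n = 1 := (eq_of_semiAut_eq_one _ hQ hn h1).1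
  rw [hinv, hk, semiAut_mul hA h, semiAut_mul]
  have eσ : (τ ^ (n - 1)).trans (σ.trans τ) = σ := by
    show (τ * σ) * τ ^ (n - 1) = σ
    rw [field_aut_comm τ σ, mul_assoc, ← pow_succ', Nat.sub_add_cancel hpos, e1, mul_one]
  have hh := semi_mul (semi_mul hA h) k
  rw [eσ] at hh
  exact ⟨_, hh, semi_congr _ _ rfl eσ⟩

/-! ### Elements of prime order outside the inner-diagonal part -/

/-- After adjusting by a scalar the norm of a semilinear element of prime order is one. -/
theorem exists_normProd_one {g : GL ι F} {σ : F ≃+* F} (h : Cfsg.IsSemisimilarityPair ⇑Q g σ) (hQ : Nondeg Q)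
    (hn : 5 ≤ Fintype.card ι) (hσ : σ ≠ RingEquiv.refl F) {r : ℕ} (hr : r.Prime) (hpow : semiAut g σ h ^ r = 1) :
    orderOf σ = r ∧ ∃ g' h', semiAut (Q := Q) g' σ h' = semiAut g σ h ∧ normProd (gmap σ) g' r = 1 := by
  have := Fintype.ofFinite F
  have := Descent.finite_ringEquiv (F := F)
  obtain ⟨hk, ek⟩ := semi_pow h r
  rw [hpow] at ek
  obtain ⟨e1, c, hc⟩ := eq_of_semiAut_eq_one hk hQ hn ek.symm
  have hord : orderOf σ = r := by
    rcases (Nat.dvd_prime hr).1 (orderOf_dvd_of_pow_eq_one (show σ ^ r = 1 from e1)) with h0 | h0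
    · exact absurd (orderOf_eq_one_iff.1 h0) hσ
    · exact h0
  refine ⟨hord, ?_⟩
  have hfix : σ (c : F) = c := by
    have h1 := normProd_succ' (gmap σ) g r
    have e2 : (gmap σ)^[r] g = g := Units.ext (by
      rw [gmap_iterate_coe, ← hord, pow_orderOf_eq_one]; exact Matrix.map_id _)
    rw [normProd_succ, hc, e2, gmap_scalar, ← (GeneralLinearGroup.scalar_commute _ g), mul_left_inj] at h1
    exact congrArg Units.val (scalar_inj (by omega) h1)
  obtain ⟨d, hd⟩ := Descent.exists_normProd_eq σ (c := c⁻¹) (by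
    rw [Units.val_inv_eq_inv_val, map_inv₀, hfix])
  obtain ⟨h', e'⟩ := semiAut_scalar h hQ hn d
  refine ⟨_, h', e', ?_⟩
  rw [normProd_scalar_mul, ← hord, hd, hord, hc, ← map_mul, inv_mul_cancel, map_one]

/-- Semilinear descent for matrices indexed by any finite type. -/
theorem exists_descent {g : GL ι F} {σ : F ≃+* F} (hg : normProd (gmap σ) g (orderOf σ) = 1) :
    ∃ B : GL ι F, g * gmap σ B = B := by
  have := Fintype.ofFinite F
  set ρ := Cfsg.Geo.glReindex (F := F) (Fintype.equivFin ι) with hρ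
  have hcomm : ∀ A : GL ι F, ρ (gmap σ A) = glMap σ (ρ A) := fun A =>
    Units.ext (by rw [glMap_coe]; rfl)
  have hk : ∀ k, ρ (normProd (gmap σ) g k) = normProd (glMap σ) (ρ g) k := by
    intro k
    induction k with
    | zero => exact map_one ρ
    | succ k ih => rw [normProd_succ, normProd_succ, map_mul, hcomm, ih]
  obtain ⟨B', hB'⟩ := Descent.descent σ (A := ρ g) (by rw [← hk, hg]; exact map_one ρ)
  obtain ⟨B, rfl⟩ := ρ.surjective B'
  refine ⟨B, ρ.injective ?_⟩
  rw [map_mul, hcomm, hB', map_inv, inv_mul_cancel_right]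

/-! ### Normal subgroups of the automorphism group -/

theorem inn_eq_map : Cfsg.Inn (Cfsg.POmega F ⇑Q) =
    ((Cfsg.Omega F ⇑Q).map ((Subgroup.inclusion (isometry_le_sim (Q := Q))))).map (simAut Q) := by
  ext β
  constructor
  · rintro ⟨z, rfl⟩
    induction z using QuotientGroup.induction_on with | _ s
    exact ⟨_, ⟨s.1, s.2, rfl⟩, (conj_eq_simAut s).symm⟩
  · rintro ⟨_, ⟨s, hs, rfl⟩, rfl⟩
    exact ⟨QuotientGroup.mk ⟨s, hs⟩, conj_eq_simAut ⟨s, hs⟩⟩

theorem chi_omega {m : ℕ} (S : Space Q m) (s : Cfsg.isometryGroup F ⇑Q) (hs : s ∈ Cfsg.Omega F ⇑Q) :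
    chi S (Subgroup.inclusion (isometry_le_sim (Q := Q)) s) = 1 := by
  have h : Cfsg.Omega F ⇑Q ≤ ((chi S).comp (Subgroup.inclusion (isometry_le_sim (Q := Q)))).ker := by
    simp only [Cfsg.Omega, commutator_def, Subgroup.commutator_le]
    intro a _ b _
    simp [MonoidHom.mem_ker, commutatorElement_def, mul_comm, mul_left_comm]
  exact MonoidHom.mem_ker.1 (h hs)

theorem inn_le_chiKer {m : ℕ} (S : Space Q m) : Cfsg.Inn (Cfsg.POmega F ⇑Q) ≤ chiKer S := by
  rw [inn_eq_map]
  refine Subgroup.map_mono ?_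
  rintro _ ⟨s, hs, rfl⟩
  exact MonoidHom.mem_ker.2 (chi_omega S s hs)

theorem inn_le_range : Cfsg.Inn (Cfsg.POmega F ⇑Q) ≤ (simAut Q).range := by
  rw [inn_eq_map]
  exact Subgroup.map_le_range _ _

theorem range_normal (hgam : Cfsg.gammaPOmega F ⇑Q = ⊤) : (simAut Q).range.Normal := by
  refine ⟨fun β hβ α => ?_⟩
  obtain ⟨X, rfl⟩ := hβ
  obtain ⟨g, σ, h, rfl⟩ := exists_semi hgam α
  exact ⟨_, (semiAut_conj h X).symm⟩

theorem chiKer_normal {m : ℕ} (S : Space Q m) (hgam : Cfsg.gammaPOmega F ⇑Q = ⊤) : (chiKer S).Normal := by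
  refine ⟨fun β hβ α => ?_⟩
  obtain ⟨X, hX, rfl⟩ := hβ
  obtain ⟨g, σ, h, rfl⟩ := exists_semi hgam α
  exact ⟨(semiDatum h).psi X, (chi_natural S S (semiDatum h) X).trans hX, (semiAut_conj h X).symm⟩

end Cfsg.Agent.H58.OrthoField
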