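import Mathlib
import Cfsg.Agent.H58.OrthoField.Semi

/-!
# The structure over the fixed field of a semilinear automorphism with trivial norm

A datum `D` along `e : F₀ → F` descends `(g, σ)` if the semilinear map `v ↦ g σ(v)` fixes the image of `F₀^κ`.
-/

set_option autoImplicit false
set_option linter.unusedSectionVars false

namespace Cfsg.Agent.H58.OrthoField

open Matrix Module Cfsg.Agent.Orthogonal Cfsg.Agent.H58.OrthoAut Cfsg.Agent.H58.OrthoKlein Cfsg.Agent.H58.Twist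
open QuadraticMap (polar)

variable {F : Type*} [Field F] {F₀ : Type*} [Field F₀] {ι κ μ : Type} [Fintype ι] [DecidableEq ι]
  [Fintype κ] [DecidableEq κ] [Fintype μ] [DecidableEq μ] {e : F₀ →+* F} {σ : F ≃+* F}
  {Q : QuadraticForm F (ι → F)} {Q₁ : QuadraticForm F₀ (κ → F₀)} {Q₂ : QuadraticForm F₀ (μ → F₀)}

/-- The image of `e` is the fixed field of `σ`. -/
def FixedBy (e : F₀ →+* F) (σ : F ≃+* F) : Prop := ∀ a, σ a = a ↔ ∃ x, e x = a

theorem FixedBy.apply (hf : FixedBy e σ) (x : F₀) : σ (e x) = e x := (hf _).2 ⟨x, rfl⟩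

theorem exists_fixedBy [Fintype F] [Fintype F₀] {p f r : ℕ} [Fact p.Prime] (hF : Fintype.card F = p ^ f)
    (hord : orderOf σ = r) (hF₀ : Fintype.card F₀ = p ^ (f / r)) :
    r ∣ f ∧ ∃ e : F₀ →+* F, FixedBy e σ := by
  obtain ⟨hd, hc⟩ := Descent.orderOf_dvd_of_card σ hF
  rw [hord] at hd hc
  refine ⟨hd, ?_⟩
  letI : Fintype (Descent.fixedField σ) := Fintype.ofFinite _
  let j : F₀ ≃+* Descent.fixedField σ :=
    FiniteField.ringEquivOfCardEq (by rw [hF₀, ← hc, Nat.card_eq_fintype_card])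
  refine ⟨(Descent.fixedField σ).subtype.comp j.toRingHom, fun a => ⟨fun ha => ?_, ?_⟩⟩
  · obtain ⟨x, hx⟩ := j.surjective ⟨a, (Descent.mem_fixedField σ).2 ha⟩
    exact ⟨x, congrArg Subtype.val hx⟩
  · rintro ⟨x, rfl⟩
    exact (Descent.mem_fixedField σ).1 (j x).2

/-- The semilinear map of `(g, σ)` fixes the vectors of `D` with coordinates in the subfield. -/
def Datum.Descends (D : Datum e Q₁ Q) (g : GL ι F) (σ : F ≃+* F) : Prop :=
  ∀ v : κ → F₀, (g : Matrix ι ι F) *ᵥ (σ ∘ D.E (e ∘ v)) = D.E (e ∘ v)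

theorem exists_descends [Finite F] (hQ : Nondeg Q) (hι : 0 < Fintype.card ι) {g : GL ι F}
    (h : Cfsg.IsSemisimilarityPair ⇑Q g σ) (hg : normProd (gmap σ) g (orderOf σ) = 1) (hf : FixedBy e σ) :
    ∃ (Q₁ : QuadraticForm F₀ (ι → F₀)) (D : Datum e Q₁ Q), D.Descends g σ := by
  obtain ⟨B, hB⟩ := exists_descent hg
  obtain ⟨c, hc⟩ := h
  let f : (ι → F₀) → F := fun v => Q ((B : Matrix ι ι F) *ᵥ (e ∘ v))
  have hfix : ∀ v : ι → F₀, (g : Matrix ι ι F) *ᵥ (σ ∘ ((B : Matrix ι ι F) *ᵥ (e ∘ v)))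
      = (B : Matrix ι ι F) *ᵥ (e ∘ v) := by
    intro v
    have h1 : (σ ∘ ((B : Matrix ι ι F) *ᵥ (e ∘ v)) : ι → F) = (B : Matrix ι ι F).map σ *ᵥ (e ∘ v) := by
      funext i
      refine (RingHom.map_mulVec (σ : F →+* F) _ (e ∘ v) i).trans (congrFun ?_ i)
      refine congrArg _ (funext fun j => ?_)
      exact hf.apply (v j)
    rw [h1, mulVec_mulVec]
    conv_rhs => rw [← hB]
    rfl
  have hrel : ∀ v, f v = c * σ (f v) := fun v => by
    conv_lhs => rw [show f v = Q ((B : Matrix ι ι F) *ᵥ (e ∘ v)) from rfl, ← hfix]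
    exact hc _
  obtain ⟨v₀, hv₀⟩ : ∃ v, f v ≠ 0 := by
    by_contra hno
    push Not at hno
    obtain ⟨y, hy⟩ := exists_ne_zero_value hQ hι
    have h0 : Q.comp ((glEquiv B : (ι → F) ≃ₗ[F] (ι → F)) : (ι → F) →ₗ[F] (ι → F)) = 0 :=
      eq_of_base e fun v => by simpa [glEquiv_apply, f] using hno v
    have := DFunLike.congr_fun h0 ((glEquiv B).symm y)
    rw [QuadraticMap.comp_apply, LinearEquiv.coe_coe, LinearEquiv.apply_symm_apply] at this
    exact hy this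
  set k := f v₀
  have hdiv : ∀ v, ∃ x, e x = k⁻¹ * f v := fun v => (hf _).1 (by
    have h1 := hrel v
    have h2 : k = c * σ k := hrel v₀
    rw [_root_.map_mul, map_inv₀]
    have hσk : σ k ≠ 0 := (map_ne_zero σ).2 hv₀
    field_simp
    linear_combination (σ (f v)) * h2 - (σ k) * h1)
  choose q hq using hdiv
  let L : (ι → F₀) → (ι → F) := fun v => (B : Matrix ι ι F) *ᵥ (e ∘ v)
  have hLadd : ∀ v w, L (v + w) = L v + L w := fun v w => by simp only [L]; rw [comp_add, mulVec_add]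
  have hLsmul : ∀ (a : F₀) v, L (a • v) = e a • L v := fun a v => by simp only [L]; rw [comp_smul', mulVec_smul]
  have hp : ∀ v w, e (polar q v w) = k⁻¹ * polar Q (L v) (L w) := fun v w => by
    simp only [polar, map_sub, hq, ← hLadd]
    simp only [f, L]
    ring
  let Q₁ : QuadraticForm F₀ (ι → F₀) := QuadraticMap.ofPolar q
    (fun a v => e.injective (by
      rw [smul_eq_mul, _root_.map_mul, hq, hq]
      show k⁻¹ * Q (L (a • v)) = e (a * a) * (k⁻¹ * Q (L v))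
      rw [hLsmul, qmap_smul, _root_.map_mul]; ring))
    (fun v v' w => e.injective (by
      rw [map_add, hp, hp, hp, hLadd, QuadraticMap.polar_add_left]; ring))
    (fun a v w => e.injective (by
      rw [smul_eq_mul, _root_.map_mul, hp, hp, hLsmul, polar_smul_left']; ring))
  refine ⟨Q₁, ⟨glEquiv B, k, hv₀, fun v => ?_⟩, hfix⟩
  show f v = k * e (q v)
  rw [hq, mul_inv_cancel_left₀ hv₀]

namespace Datum

variable {g : GL ι F} {D : Datum e Q₁ Q}

theorem Descends.precomp (hD : D.Descends g σ) (D₀ : Datum ((RingEquiv.refl F₀ : F₀ ≃+* F₀) : F₀ →+* F₀) Q₂ Q₁) :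
    ∃ D' : Datum e Q₂ Q, D'.Descends g σ := by
  refine ⟨D.comp D₀, fun v => ?_⟩
  have h : (D.comp D₀).E (e ∘ v) = D.E (e ∘ D₀.E v) := by
    show D.E (baseEquiv e D₀.E (e ∘ v)) = _
    rw [baseEquiv_apply]
  show _ *ᵥ (σ ∘ (D.comp D₀).E (e ∘ v)) = (D.comp D₀).E (e ∘ v)
  rw [h]
  exact hD _

theorem Descends.semilinear (hf : FixedBy e σ) (hD : D.Descends g σ) (z : κ → F) :
    (g : Matrix ι ι F) *ᵥ (σ ∘ D.E z) = D.E (σ ∘ z) := by
  let T : (ι → F) → (ι → F) := fun y => (g : Matrix ι ι F) *ᵥ (σ ∘ y)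
  let f₁ : (κ → F) →+ (ι → F) :=
    AddMonoidHom.mk' (fun z => T (D.E z)) fun a b => by
      simp only [T, map_add]
      rw [show (σ ∘ (D.E a + D.E b) : ι → F) = σ ∘ D.E a + σ ∘ D.E b from funext fun i => map_add σ _ _, mulVec_add]
  let f₂ : (κ → F) →+ (ι → F) :=
    AddMonoidHom.mk' (fun z => D.E (σ ∘ z)) fun a b => by
      rw [show (σ ∘ (a + b) : κ → F) = σ ∘ a + σ ∘ b from funext fun i => map_add σ _ _, map_add]
  have key : f₁ = f₂ := AddMonoidHom.functions_ext' _ _ _ fun i => AddMonoidHom.ext fun x => by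
    show T (D.E (Pi.single i x)) = D.E (σ ∘ (Pi.single i x : κ → F))
    have e1 : (Pi.single i x : κ → F) = x • (e ∘ Pi.single i (1 : F₀)) := by
      rw [comp_single, map_one, ← Pi.single_smul, smul_eq_mul, mul_one]
    have e2 : (σ ∘ (Pi.single i x : κ → F)) = σ x • (e ∘ Pi.single i (1 : F₀)) := by
      rw [comp_single, map_one, ← Pi.single_smul, smul_eq_mul, mul_one]
      exact comp_single (σ : F →+* F) i x
    rw [e2, map_smul, ← hD (Pi.single i 1), e1, map_smul]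
    simp only [T]
    rw [← mulVec_smul]
    congr 1
    exact funext fun j => _root_.map_mul σ _ _
  exact DFunLike.congr_fun key z

theorem Descends.psi_fixed (hf : FixedBy e σ) (hD : D.Descends g σ) (X : GL κ F₀) :
    g * gmap σ (D.psiGL X) * g⁻¹ = D.psiGL X := by
  rw [mul_inv_eq_iff_eq_mul]
  refine Units.ext (Matrix.ext_iff_mulVec.2 fun y => ?_)
  obtain ⟨z, rfl⟩ : ∃ z, σ ∘ D.E z = y :=
    ⟨D.E.symm (σ.symm ∘ y), funext fun i => by simp⟩
  rw [Units.val_mul, Units.val_mul, ← mulVec_mulVec, ← mulVec_mulVec, hD.semilinear hf]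
  have h1 : (gmap σ (D.psiGL X) : Matrix ι ι F) *ᵥ (σ ∘ D.E z) = σ ∘ ((D.psiGL X : Matrix ι ι F) *ᵥ D.E z) :=
    funext fun j => (RingHom.map_mulVec (σ : F →+* F) _ (D.E z) j).symm
  rw [h1, D.psiGL_mulVec, D.psiGL_mulVec, hD.semilinear hf]
  congr 1
  funext j
  show σ ((((X : Matrix κ κ F₀).map e) *ᵥ z) j) = _
  refine (RingHom.map_mulVec (σ : F →+* F) _ z j).trans (congrArg (fun M => (M *ᵥ (σ ∘ z)) j) ?_)
  exact Matrix.ext fun a b => hf.apply _

theorem Descends.semiAut_psi (hf : FixedBy e σ) (hD : D.Descends g σ) (h : Cfsg.IsSemisimilarityPair ⇑Q g σ)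
    (X : sim Q₁) : semiAut g σ h * simAut Q (D.psi X) * (semiAut g σ h)⁻¹ = simAut Q (D.psi X) := by
  rw [semiAut_conj]
  refine congrArg _ (Subtype.ext ?_)
  rw [psi_coe, semiDatum_psiGL, psi_coe]
  exact hD.psi_fixed hf X.1

theorem Descends.exists_preimage (hf : FixedBy e σ) (hD : D.Descends g σ) {X : GL ι F}
    (hX : g * gmap σ X * g⁻¹ = X) : ∃ M : GL κ F₀, D.psiGL M = X := by
  set Y : GL κ F := SimIso.phi D.E X with hY
  have hYv : ∀ z, (Y : Matrix κ κ F) *ᵥ z = D.E.symm ((X : Matrix ι ι F) *ᵥ D.E z) := fun z =>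
    SimIso.phi_mulVec _ _ _
  have hXg : ∀ y : ι → F, (X : Matrix ι ι F) *ᵥ ((g : Matrix ι ι F) *ᵥ (σ ∘ y))
      = (g : Matrix ι ι F) *ᵥ (σ ∘ ((X : Matrix ι ι F) *ᵥ y)) := fun y => by
    rw [mul_inv_eq_iff_eq_mul] at hX
    have h1 : (σ ∘ ((X : Matrix ι ι F) *ᵥ y) : ι → F) = (gmap σ X : Matrix ι ι F) *ᵥ (σ ∘ y) :=
      funext fun j => RingHom.map_mulVec (σ : F →+* F) _ y j
    rw [h1, mulVec_mulVec, mulVec_mulVec, ← Units.val_mul, ← Units.val_mul, hX]
  have hcol : ∀ i j, σ ((Y : Matrix κ κ F) i j) = (Y : Matrix κ κ F) i j := by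
    intro i j
    have hz : ∀ z : κ → F₀, σ ∘ ((Y : Matrix κ κ F) *ᵥ (e ∘ z)) = (Y : Matrix κ κ F) *ᵥ (e ∘ z) := by
      intro z
      refine D.E.injective ?_
      rw [← hD.semilinear hf, hYv, D.E.apply_symm_apply, ← hXg, hD]
    have h1 := congrFun (hz (Pi.single j 1)) i
    rw [comp_single, map_one, Function.comp_apply, Matrix.mulVec_single_one] at h1
    exact h1
  choose M hM using fun i j => (hf _).1 (hcol i j)
  have hmap : (Matrix.of M).map e = (Y : Matrix κ κ F) := Matrix.ext hM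
  have hdet : (Matrix.of M).det ≠ 0 := fun h0 => by
    have h1 := e.map_det (Matrix.of M)
    rw [h0, map_zero, RingHom.mapMatrix_apply, hmap] at h1
    exact GeneralLinearGroup.det_ne_zero Y h1.symm
  refine ⟨GeneralLinearGroup.mkOfDetNeZero _ hdet, Units.ext (Matrix.ext_iff_mulVec.2 fun y => ?_)⟩
  obtain ⟨z, rfl⟩ := D.E.surjective y
  rw [D.psiGL_mulVec]
  show D.E ((Matrix.of M).map e *ᵥ z) = _
  rw [hmap, hYv, D.E.apply_symm_apply]

theorem mem_range_psi (hv : ∃ v, Q₁ v ≠ 0) {X : sim Q} {M : GL κ F₀} (hM : D.psiGL M = X.1) :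
    ∃ X₁ : sim Q₁, D.psi X₁ = X := by
  obtain ⟨c, hc⟩ := X.2
  obtain ⟨v₀, hv₀⟩ := hv
  have hrel : ∀ v, e (Q₁ ((M : Matrix κ κ F₀) *ᵥ v)) = c * e (Q₁ v) := fun v => by
    refine mul_left_cancel₀ D.k_ne ?_
    rw [← D.spec, ← D.psiGL_base, hM, hc, D.spec]
    ring
  set c₁ := Q₁ ((M : Matrix κ κ F₀) *ᵥ v₀) / Q₁ v₀
  have hec : e c₁ = c := by
    rw [map_div₀, hrel, mul_div_cancel_right₀ _ ((map_ne_zero e).2 hv₀)]
  have hc₁ : c₁ ≠ 0 := fun h0 => c.ne_zero (by rw [← hec, h0, map_zero])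
  exact ⟨⟨M, Units.mk0 c₁ hc₁, fun v => e.injective (by
    rw [hrel, _root_.map_mul, Units.val_mk0, hec])⟩, Subtype.ext hM⟩

theorem simAut_psi_eq_one_iff [Finite F] [Finite F₀] (hQ : Nondeg Q) (hn : 5 ≤ Fintype.card ι) (D : Datum e Q₁ Q)
    (X : sim Q₁) : simAut Q (D.psi X) = 1 ↔ simAut Q₁ X = 1 := by
  rw [simAut_eq_one_iff hQ hn, simAut_eq_one_iff (D.nondeg hQ) (D.card_eq ▸ hn)]
  constructor
  · rintro ⟨c, hc⟩
    rw [psi_coe] at hc
    have hv : ∀ v, (c : F) • (e ∘ v : κ → F) = e ∘ ((X.1 : Matrix κ κ F₀) *ᵥ v) := fun v => D.E.injective (by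
      rw [← D.psiGL_base, hc, GeneralLinearGroup.coe_scalar, Matrix.scalar_apply, ← Matrix.smul_one_eq_diagonal,
        smul_mulVec, one_mulVec, map_smul])
    obtain ⟨i₀⟩ : Nonempty κ := Fintype.card_pos_iff.1 (by rw [D.card_eq]; omega)
    set d := ((X.1 : Matrix κ κ F₀) *ᵥ Pi.single i₀ 1) i₀
    have hd : e d = c := by
      have := congrFun (hv (Pi.single i₀ 1)) i₀
      simpa [d] using this.symm
    have hd0 : d ≠ 0 := fun h0 => c.ne_zero (by rw [← hd, h0, map_zero])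
    refine ⟨Units.mk0 d hd0, Units.ext (Matrix.ext_iff_mulVec.2 fun v => ?_)⟩
    rw [GeneralLinearGroup.coe_scalar, Matrix.scalar_apply, ← Matrix.smul_one_eq_diagonal, smul_mulVec, one_mulVec]
    refine funext fun i => e.injective ?_
    have := congrFun (hv v) i
    simp only [Pi.smul_apply, Function.comp_apply, smul_eq_mul] at this
    rw [← this, Pi.smul_apply, smul_eq_mul, _root_.map_mul, Units.val_mk0, hd]
  · rintro ⟨c, hc⟩
    exact ⟨Units.map e.toMonoidHom c, by rw [psi_coe, hc, D.psiGL_scalar]⟩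

end Datum

end Cfsg.Agent.H58.OrthoField
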