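import Mathlib
import Cfsg.Agent.H58.OrthoField.Frame

/-!
# Centralisers and conjugacy for descended semilinear automorphisms
-/

set_option autoImplicit false
set_option linter.unusedSectionVars false

namespace Cfsg.Agent.H58.OrthoField

open Matrix Module Cfsg.Agent.Orthogonal Cfsg.Agent.H58.OrthoAut Cfsg.Agent.H58.OrthoKlein Cfsg.Agent.H58.Twist
open QuadraticMap (polar)

variable {F : Type*} [Field F] [Finite F] {F₀ : Type*} [Field F₀] [Finite F₀] {ι κ : Type} [Fintype ι]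
  [DecidableEq ι] [Fintype κ] [DecidableEq κ] {e : F₀ →+* F} {σ : F ≃+* F} {g g' : GL ι F}
  {Q : QuadraticForm F (ι → F)} {Q₁ : QuadraticForm F₀ (κ → F₀)}

theorem iterate_twist (σ : F ≃+* F) (g X : GL ι F) (k : ℕ) :
    (fun Y => g * gmap σ Y * g⁻¹)^[k] X = normProd (gmap σ) g k * (gmap σ)^[k] X * (normProd (gmap σ) g k)⁻¹ := by
  induction k with
  | zero => simp [normProd]
  | succ k ih =>
    rw [Function.iterate_succ_apply', ih, Function.iterate_succ_apply', normProd_succ]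
    simp only [map_mul, map_inv]
    group

theorem twist_scalar (σ : F ≃+* F) (g X : GL ι F) (c : Fˣ) :
    g * gmap σ (GeneralLinearGroup.scalar ι c * X) * g⁻¹
      = GeneralLinearGroup.scalar ι (Descent.umap σ c) * (g * gmap σ X * g⁻¹) := by
  rw [map_mul, gmap_scalar]
  simp only [mul_assoc]
  rw [← mul_assoc g, ← GeneralLinearGroup.scalar_commute, mul_assoc]

theorem smul_mul_mem (X : sim Q) (b : Fˣ) :
    GeneralLinearGroup.scalar ι b * X.1 ∈ sim Q := mul_mem (scalar_mem_sim b) X.2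

theorem simAut_scalar_mul (hQ : Nondeg Q) (hn : 5 ≤ Fintype.card ι) (X : sim Q) (b : Fˣ) :
    simAut Q (⟨GeneralLinearGroup.scalar ι b, scalar_mem_sim b⟩ * X) = simAut Q X := by
  rw [map_mul, (simAut_eq_one_iff hQ hn).2 ⟨b, rfl⟩, one_mul]

/-- A similitude whose automorphism commutes with a descended semilinear one comes from the subfield. -/
theorem exists_psi_of_commute (hf : FixedBy e σ) {D : Datum e Q₁ Q} (hD : D.Descends g σ) (hQ : Nondeg Q)
    (hn : 5 ≤ Fintype.card ι) (h : Cfsg.IsSemisimilarityPair ⇑Q g σ)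
    (hg : normProd (gmap σ) g (orderOf σ) = 1) {X : sim Q}
    (hX : simAut Q X ∈ Subgroup.centralizer {semiAut g σ h}) :
    ∃ (b : Fˣ) (X₁ : sim Q₁), D.psi X₁ = ⟨GeneralLinearGroup.scalar ι b, scalar_mem_sim b⟩ * X := by
  have := Fintype.ofFinite F
  rw [Subgroup.mem_centralizer_singleton_iff] at hX
  have h1 : simAut Q ((semiDatum h).psi X * X⁻¹) = 1 := by
    rw [map_mul, map_inv, ← semiAut_conj, ← hX, mul_inv_cancel_right, mul_inv_cancel]
  obtain ⟨c, hc⟩ := (simAut_eq_one_iff hQ hn).1 h1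
  rw [Subgroup.coe_mul, Subgroup.coe_inv, Datum.psi_coe, semiDatum_psiGL, mul_inv_eq_iff_eq_mul] at hc
  have hk : ∀ k, (fun Y => g * gmap σ Y * g⁻¹)^[k] X.1
      = GeneralLinearGroup.scalar ι (normProd (Descent.umap σ) c k) * X.1 := by
    intro k
    induction k with
    | zero => simp [normProd]
    | succ k ih =>
      rw [Function.iterate_succ_apply', ih]
      show g * gmap σ _ * g⁻¹ = _
      rw [twist_scalar, show g * gmap σ X.1 * g⁻¹ = _ from hc, ← mul_assoc, ← map_mul, normProd_succ,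
        mul_comm c]
  have hr := hk (orderOf σ)
  rw [iterate_twist, hg, one_mul, inv_one, mul_one,
    show (gmap σ)^[orderOf σ] X.1 = X.1 from Units.ext (by
      rw [gmap_iterate_coe, pow_orderOf_eq_one]; exact Matrix.map_id _)] at hr
  have hc1 : normProd (Descent.umap σ) c (orderOf σ) = 1 :=
    scalar_inj (ι := ι) (by omega) ((right_eq_mul.1 hr).trans (map_one _).symm)
  obtain ⟨b, hb⟩ := Descent.descent_units σ hc1
  have hfix : g * gmap σ (GeneralLinearGroup.scalar ι b * X.1) * g⁻¹ = GeneralLinearGroup.scalar ι b * X.1 := by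
    rw [twist_scalar, show g * gmap σ X.1 * g⁻¹ = _ from hc, ← mul_assoc, ← map_mul, hb, mul_left_comm,
      mul_inv_cancel, mul_one]
  obtain ⟨M, hM⟩ := hD.exists_preimage hf hfix
  obtain ⟨X₁, hX₁⟩ := Datum.mem_range_psi (X := ⟨GeneralLinearGroup.scalar ι b, scalar_mem_sim b⟩ * X)
    (exists_ne_zero_value (D.nondeg hQ) (by rw [D.card_eq]; omega)) hM
  exact ⟨b, X₁, hX₁⟩

/-- The centraliser in the automorphisms induced by `K`. -/
theorem centralizer_eq (hf : FixedBy e σ) {D : Datum e Q₁ Q} (hD : D.Descends g σ) (hQ : Nondeg Q)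
    (hn : 5 ≤ Fintype.card ι) (h : Cfsg.IsSemisimilarityPair ⇑Q g σ)
    (hg : normProd (gmap σ) g (orderOf σ) = 1) (K : Subgroup (sim Q))
    (hK : ∀ c : Fˣ, (⟨GeneralLinearGroup.scalar ι c, scalar_mem_sim c⟩ : sim Q) ∈ K) :
    K.map (simAut Q) ⊓ Subgroup.centralizer {semiAut g σ h}
      = (K.comap D.psi).map ((simAut Q).comp D.psi) := by
  ext β
  constructor
  · rintro ⟨⟨X, hX, rfl⟩, hc⟩
    obtain ⟨b, X₁, hX₁⟩ := exists_psi_of_commute hf hD hQ hn h hg hc
    refine ⟨X₁, ?_, ?_⟩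
    · show D.psi X₁ ∈ K
      rw [hX₁]
      exact K.mul_mem (hK b) hX
    · rw [MonoidHom.comp_apply, hX₁, simAut_scalar_mul hQ hn]
  · rintro ⟨X₁, hX₁, rfl⟩
    refine ⟨⟨_, hX₁, rfl⟩, Subgroup.mem_centralizer_singleton_iff.2 ?_⟩
    have h1 := hD.semiAut_psi hf h X₁
    rw [mul_inv_eq_iff_eq_mul] at h1
    exact h1.symm

/-- The centraliser is the corresponding group over the subfield. -/
theorem centralizer_iso (hf : FixedBy e σ) {D : Datum e Q₁ Q} (hD : D.Descends g σ) (hQ : Nondeg Q)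
    (hn : 5 ≤ Fintype.card ι) (h : Cfsg.IsSemisimilarityPair ⇑Q g σ)
    (hg : normProd (gmap σ) g (orderOf σ) = 1) (K : Subgroup (sim Q))
    (hK : ∀ c : Fˣ, (⟨GeneralLinearGroup.scalar ι c, scalar_mem_sim c⟩ : sim Q) ∈ K) :
    Nonempty (↥(K.map (simAut Q) ⊓ Subgroup.centralizer {semiAut g σ h}) ≃* ↥((K.comap D.psi).map (simAut Q₁))) := by
  rw [centralizer_eq hf hD hQ hn h hg K hK]
  set L := K.comap D.psi
  let f₁ : L →* MulAut (Cfsg.POmega F ⇑Q) := ((simAut Q).comp D.psi).comp L.subtype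
  let f₂ : L →* MulAut (Cfsg.POmega F₀ ⇑Q₁) := (simAut Q₁).comp L.subtype
  have hk : f₁.ker = f₂.ker := by
    ext X
    exact Datum.simAut_psi_eq_one_iff hQ hn D X.1
  have r1 : f₁.range = L.map ((simAut Q).comp D.psi) := by
    rw [MonoidHom.range_eq_map, ← Subgroup.map_map, ← MonoidHom.range_eq_map, Subgroup.range_subtype]
  have r2 : f₂.range = L.map (simAut Q₁) := by
    rw [MonoidHom.range_eq_map, ← Subgroup.map_map, ← MonoidHom.range_eq_map, Subgroup.range_subtype]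
  exact ⟨(MulEquiv.subgroupCongr r1.symm).trans ((QuotientGroup.quotientKerEquivRange f₁).symm.trans
    ((QuotientGroup.quotientMulEquivOfEq hk).trans ((QuotientGroup.quotientKerEquivRange f₂).trans
      (MulEquiv.subgroupCongr r2))))⟩

/-- Semilinear maps descending to the same form are conjugate under similitudes. -/
theorem exists_conj (hf : FixedBy e σ) {D D' : Datum e Q₁ Q} (hD : D.Descends g σ) (hD' : D'.Descends g' σ)
    (h : Cfsg.IsSemisimilarityPair ⇑Q g σ) (h' : Cfsg.IsSemisimilarityPair ⇑Q g' σ) :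
    ∃ P : sim Q, simAut Q P * semiAut g σ h * (simAut Q P)⁻¹ = semiAut g' σ h' := by
  let L : (ι → F) ≃ₗ[F] (ι → F) := D.E.symm.trans D'.E
  set P : GL ι F := glEquiv.symm L with hPdef
  have hP : ∀ z, (P : Matrix ι ι F) *ᵥ D.E z = D'.E z := fun z => by
    rw [← glEquiv_apply, hPdef, MulEquiv.apply_symm_apply]
    simp [L]
  have hmul : ∀ y, Q ((P : Matrix ι ι F) *ᵥ y) = (D'.k / D.k) * Q y := by
    intro y
    have h0 : Q.comp (D'.E : (κ → F) →ₗ[F] (ι → F)) = (D'.k / D.k) • Q.comp (D.E : (κ → F) →ₗ[F] (ι → F)) :=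
      eq_of_base e fun v => by
        simp only [QuadraticMap.comp_apply, QuadraticMap.smul_apply, LinearEquiv.coe_coe, smul_eq_mul, D.spec, D'.spec]
        have := D.k_ne
        field_simp
    obtain ⟨z, rfl⟩ := D.E.surjective y
    rw [hP]
    exact DFunLike.congr_fun h0 z
  have hPs : P ∈ sim Q := ⟨Units.mk0 _ (div_ne_zero D'.k_ne D.k_ne), hmul⟩
  refine ⟨⟨P, hPs⟩, ?_⟩
  rw [← map_inv, simAut_eq, simAut_eq, semiAut_mul, semiAut_mul]
  refine semi_congr _ _ ?_ (RingEquiv.ext fun _ => rfl)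
  refine Units.ext (Matrix.ext_iff_mulVec.2 fun y => ?_)
  have hgm : ∀ A : GL ι F, GeneralLinearGroup.map ((RingEquiv.refl F : F ≃+* F) : F →+* F) A = A := fun A =>
    Units.ext (Matrix.map_id _)
  obtain ⟨z, rfl⟩ : ∃ z, σ ∘ D'.E z = y :=
    ⟨D'.E.symm (σ.symm ∘ y), funext fun i => by simp⟩
  simp only [Units.val_mul, ← mulVec_mulVec, Subgroup.coe_inv]
  rw [hD'.semilinear hf, hgm]
  have h2 : (GeneralLinearGroup.map (((σ.trans (RingEquiv.refl F)) : F ≃+* F) : F →+* F) P⁻¹ : GL ι F).1 *ᵥ (σ ∘ D'.E z)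
      = σ ∘ (((P⁻¹ : GL ι F) : Matrix ι ι F) *ᵥ D'.E z) :=
    funext fun j => (RingHom.map_mulVec (σ : F →+* F) _ (D'.E z) j).symm
  rw [h2]
  have h3 : ((P⁻¹ : GL ι F) : Matrix ι ι F) *ᵥ D'.E z = D.E z := by
    rw [← hP, mulVec_mulVec, ← Units.val_mul, inv_mul_cancel, Units.val_one, one_mulVec]
  rw [h3, hD.semilinear hf, hP]

/-- … and even under similitudes of sign one. -/
theorem exists_conj_chi {m : ℕ} (S : Space Q m) (hf : FixedBy e σ) {D D' : Datum e Q₁ Q} (hD : D.Descends g σ)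
    (hD' : D'.Descends g' σ) (h : Cfsg.IsSemisimilarityPair ⇑Q g σ) (h' : Cfsg.IsSemisimilarityPair ⇑Q g' σ) :
    ∃ β ∈ chiKer S, β * semiAut g σ h * β⁻¹ = semiAut g' σ h' := by
  obtain ⟨P, hP⟩ := exists_conj hf hD hD' h h'
  rcases Int.units_eq_one_or (chi S P) with hc | hc
  · exact ⟨_, ⟨P, hc, rfl⟩, hP⟩
  · have S₁ := S.transport' D
    obtain ⟨R, hR⟩ := exists_chi_neg S₁
    refine ⟨_, ⟨P * D.psi R, ?_, rfl⟩, ?_⟩
    · rw [SetLike.mem_coe, MonoidHom.mem_ker, map_mul, chi_natural S₁ S D, hc, hR]; norm_num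
    · have h1 := hD.semiAut_psi hf h R
      rw [mul_inv_eq_iff_eq_mul] at h1
      rw [map_mul, ← hP]
      calc simAut Q P * simAut Q (D.psi R) * semiAut g σ h * (simAut Q P * simAut Q (D.psi R))⁻¹
          = simAut Q P * (simAut Q (D.psi R) * semiAut g σ h) * (simAut Q (D.psi R))⁻¹ * (simAut Q P)⁻¹ := by group
        _ = _ := by rw [← h1]; group

end Cfsg.Agent.H58.OrthoField
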