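import Mathlib
import Cfsg.Agent.H58.OrthoField.Chi
import Cfsg.Agent.Orthogonal.AutBridge

/-!
# The standard forms: uniqueness of the minus type, extension of scalars, inner-diagonal groups
-/

set_option autoImplicit false
set_option linter.unusedSectionVars false

namespace Cfsg.Agent.H58.OrthoField

open Matrix Module Cfsg.Agent.Orthogonal Cfsg.Agent.H58.OrthoAut Cfsg.Agent.H58.OrthoKlein
open QuadraticMap (polar)

universe u

variable {F : Type u} [Field F]

/-- The binary form `z₁² + a z₁ z₂ + b z₂²` is anisotropic. -/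
def BinAniso (a b : F) : Prop := ∀ z₁ z₂ : F, z₁ ^ 2 + a * z₁ * z₂ + b * z₂ ^ 2 = 0 → z₁ = 0 ∧ z₂ = 0

theorem binAniso_of_no_root {a b : F} (h : ∀ z : F, z ^ 2 + a * z + b ≠ 0) : BinAniso a b := by
  intro z₁ z₂ e
  by_cases hz : z₂ = 0
  · subst hz; exact ⟨by simpa using e, rfl⟩
  · refine absurd ?_ (h (z₁ / z₂))
    field_simp
    linear_combination e

theorem BinAniso.no_root {a b : F} (h : BinAniso a b) (z : F) : z ^ 2 + a * z + b ≠ 0 := fun e =>
  one_ne_zero (h z 1 (by linear_combination e)).2

section Binary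

variable [Finite F]

/-- Two anisotropic binary forms are equivalent. -/
theorem exists_binary_congr {a b a' b' : F} (h : BinAniso a b) (h' : BinAniso a' b') :
    ∃ u v : F, v ≠ 0 ∧ 2 * u + a * v = a' ∧ u ^ 2 + a * u * v + b * v ^ 2 = b' := by
  classical
  have : Fintype F := Fintype.ofFinite F
  have hd := aniso_binary h
  have hd' := aniso_binary h'
  by_cases h2 : (2 : F) = 0
  · have ha : a ≠ 0 := fun e => hd (by subst e; linear_combination -(2 * b) * h2)
    have ha' : a' ≠ 0 := fun e => hd' (by subst e; linear_combination -(2 * b') * h2)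
    -- the image of `t ↦ t² + a' t` has index two
    let f : F →+ F :=
      { toFun := fun t => t ^ 2 + a' * t
        map_zero' := by ring
        map_add' := fun s t => by linear_combination (s * t) * h2 }
    have hker : Nat.card f.ker = 2 := by
      have e : (f.ker : Set F) = {0, a'} := by
        ext t
        simp only [SetLike.mem_coe, AddMonoidHom.mem_ker, AddMonoidHom.coe_mk, ZeroHom.coe_mk,
          Set.mem_insert_iff, Set.mem_singleton_iff, f]
        constructor
        · intro ht
          rcases mul_eq_zero.1 (show t * (t + a') = 0 by linear_combination ht) with h | h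
          · exact Or.inl h
          · exact Or.inr (by linear_combination h - a' * h2)
        · rintro (rfl | rfl)
          · ring
          · linear_combination (t ^ 2) * h2
      calc Nat.card f.ker = Nat.card (f.ker : Set F) := rfl
        _ = 2 := by rw [e, Nat.card_coe_set_eq, Set.ncard_pair ha'.symm]
    have hidx : f.range.index = 2 := by
      have h1 := AddSubgroup.card_mul_index f.range
      rw [← AddSubgroup.index_ker] at h1
      have h3 := AddSubgroup.card_mul_index f.ker
      rw [← h3, mul_comm, hker] at h1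
      exact Nat.eq_of_mul_eq_mul_right (Nat.pos_of_ne_zero AddSubgroup.index_ne_zero_of_finite) h1
    have hb' : b' ∉ f.range := by
      rintro ⟨t, ht⟩
      exact h'.no_root t (by
        have : t ^ 2 + a' * t = b' := ht
        linear_combination this + b' * h2)
    set v := a' / a
    have hv : v ≠ 0 := div_ne_zero ha' ha
    have hb : b * v ^ 2 ∉ f.range := by
      rintro ⟨t, ht⟩
      have ht' : t ^ 2 + a' * t = b * v ^ 2 := ht
      have e : a * v = a' := mul_div_cancel₀ a' ha
      exact hv (h t v (by linear_combination ht' + t * e + (b * v ^ 2) * h2)).2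
    obtain ⟨t, ht⟩ : b' + b * v ^ 2 ∈ f.range :=
      (AddSubgroup.add_mem_iff_of_index_two hidx).2 (iff_of_false hb' hb)
    have ht' : t ^ 2 + a' * t = b' + b * v ^ 2 := ht
    have e : a * v = a' := mul_div_cancel₀ a' ha
    exact ⟨t, v, hv, by linear_combination e + t * h2,
      by linear_combination ht' + t * e + (b * v ^ 2) * h2⟩
  · have hns : ∀ {a b : F}, BinAniso a b → ¬ IsSquare (a ^ 2 - 4 * b) := fun {a b} h ⟨w, hw⟩ =>
      h.no_root ((-a + w) / 2) (by field_simp; linear_combination -hw)
    obtain ⟨w, hw⟩ : IsSquare ((a' ^ 2 - 4 * b') / (a ^ 2 - 4 * b)) := by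
      rw [← quadraticChar_one_iff_isSquare (div_ne_zero hd' hd), div_eq_mul_inv, _root_.map_mul,
        quadraticChar_neg_one_iff_not_isSquare.2 (hns h'),
        quadraticChar_neg_one_iff_not_isSquare.2 (fun hs => hns h (by simpa using hs.inv))]
      norm_num
    have hw' : a' ^ 2 - 4 * b' = w * w * (a ^ 2 - 4 * b) := by rw [← hw, div_mul_cancel₀ _ hd]
    refine ⟨(a' - a * w) / 2, w, fun h0 => hd' (by rw [hw', h0]; ring), by field_simp; ring, ?_⟩
    field_simp
    linear_combination hw'

/-- The minus forms are all equivalent. -/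
theorem exists_minusDatum (m : ℕ) {a b a' b' : F} (h : BinAniso a b) (h' : BinAniso a' b') :
    Nonempty (Datum ((RingEquiv.refl F : F ≃+* F) : F →+* F) (formMinus F m a' b') (formMinus F m a b)) := by
  obtain ⟨u, v, hv, e1, e2⟩ := exists_binary_congr h h'
  let E : (((Fin m ⊕ Fin m) ⊕ Fin 2) → F) ≃ₗ[F] (((Fin m ⊕ Fin m) ⊕ Fin 2) → F) :=
    { toFun := fun x => Sum.elim (fun i => x (.inl i)) ![x (.inr 0) + u * x (.inr 1), v * x (.inr 1)]
      invFun := fun x => Sum.elim (fun i => x (.inl i))
        ![x (.inr 0) - u * (v⁻¹ * x (.inr 1)), v⁻¹ * x (.inr 1)]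
      map_add' := fun x y => by
        funext j; rcases j with j | j
        · simp
        · fin_cases j <;> simp <;> ring
      map_smul' := fun c x => by
        funext j; rcases j with j | j
        · simp
        · fin_cases j <;> simp <;> ring
      left_inv := fun x => by
        funext j; rcases j with j | j
        · simp
        · fin_cases j <;> simp [← mul_assoc, hv]
      right_inv := fun x => by
        funext j; rcases j with j | j
        · simp
        · fin_cases j <;> simp [← mul_assoc, hv] }
  refine ⟨⟨E, 1, one_ne_zero, fun x => ?_⟩⟩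
  show formMinus F m a b (E x) = 1 * formMinus F m a' b' x
  simp only [formMinus_coe, Cfsg.quadFormMinus, E, LinearEquiv.coe_mk, LinearMap.coe_mk, AddHom.coe_mk, one_mul,
    Sum.elim_inl, Sum.elim_inr, Matrix.cons_val_zero, Matrix.cons_val_one]
  rw [← e1, ← e2]
  ring

end Binary

/-! ### Extension of scalars -/

section Base

variable {K : Type*} [Field K] (φ : F →+* K) (m : ℕ)

/-- Extension of scalars of the odd form. -/
def baseOdd : Datum φ (formOdd F m) (formOdd K m) :=
  ⟨LinearEquiv.refl K _, 1, one_ne_zero, fun v => by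
    simp [formOdd_coe, Cfsg.quadFormOdd, map_sum]⟩

/-- Extension of scalars of the plus form. -/
def basePlus : Datum φ (formPlus F m) (formPlus K m) :=
  ⟨LinearEquiv.refl K _, 1, one_ne_zero, fun v => by
    simp [formPlus_coe, Cfsg.quadFormPlus, map_sum]⟩

/-- Extension of scalars of the minus form. -/
def baseMinus (a b : F) : Datum φ (formMinus F m a b) (formMinus K m (φ a) (φ b)) :=
  ⟨LinearEquiv.refl K _, 1, one_ne_zero, fun v => by
    simp [formMinus_coe, Cfsg.quadFormMinus, map_sum]⟩

theorem exists_splitDatum {a b : F} [Finite F] (hab : BinAniso a b) {z : K} (hz : z ^ 2 + φ a * z + φ b = 0) :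
    Nonempty (Datum φ (formMinus F m a b) (formPlus K (m + 1))) := by
  have hne : z ≠ -φ a - z := fun e => aniso_binary hab (φ.injective (by
    rw [map_zero, map_sub, map_pow, _root_.map_mul, map_ofNat]
    linear_combination (2 * z + φ a) * e - 4 * hz))
  have : Fintype F := Fintype.ofFinite F
  obtain ⟨E, hE⟩ := OrthoClasses.exists_split (m := m) (a := a) (b := b) φ (r := z) (s := -φ a - z) hne (by ring)
    (by linear_combination -hz)
  exact ⟨⟨E, 1, one_ne_zero, fun v => by
    rw [hE, one_mul, formMinus_coe, formMinus_coe]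
    simp [Cfsg.quadFormMinus, map_sum]⟩⟩

theorem exists_root_of_finrank_even [Finite F] [Algebra F K] [Finite K] (he : Even (finrank F K)) (a b : F) :
    (∃ z : F, z ^ 2 + a * z + b = 0) ∨ ∃ z : K, z ^ 2 + algebraMap F K a * z + algebraMap F K b = 0 := by
  refine or_iff_not_imp_left.2 fun h => ?_
  push Not at h
  have hne : (Polynomial.X ^ 2 + Polynomial.C a * Polynomial.X + Polynomial.C b : Polynomial F).natDegree = 2 := by
    compute_degree!
  have hirr : Fact (Irreducible (Polynomial.X ^ 2 + Polynomial.C a * Polynomial.X + Polynomial.C b : Polynomial F)) := ⟨by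
    rw [Polynomial.irreducible_iff_roots_eq_zero_of_degree_le_three (by omega) (by omega)]
    refine Multiset.eq_zero_of_forall_notMem fun x hx => ?_
    have := Polynomial.isRoot_of_mem_roots hx
    simp at this
    exact h x this⟩
  set p := (Polynomial.X ^ 2 + Polynomial.C a * Polynomial.X + Polynomial.C b : Polynomial F)
  have : Module.Finite F (AdjoinRoot p) := (AdjoinRoot.powerBasis hirr.out.ne_zero).finite
  have : Finite (AdjoinRoot p) := Module.finite_of_finite F
  obtain ⟨f⟩ := FiniteField.nonempty_algHom_of_finrank_dvd (F := F) (K := AdjoinRoot p) (L := K)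
    (by rw [(AdjoinRoot.powerBasis hirr.out.ne_zero).finrank]
        show p.natDegree ∣ _
        rw [hne]; exact he.two_dvd)
  refine ⟨f (AdjoinRoot.root p), ?_⟩
  have := congrArg f (AdjoinRoot.eval₂_root p)
  simpa [p, ← AdjoinRoot.algebraMap_eq] using this

end Base

/-- The plus form is not similar to the minus form. -/
theorem not_plus_minus [Finite F] {m : ℕ} {a b : F} (hab : BinAniso a b)
    (D : Datum ((RingEquiv.refl F : F ≃+* F) : F →+* F) (formPlus F (m + 1)) (formMinus F m a b)) : False := by
  classical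
  have hQ := formMinus_nondeg (F := F) (m := m) hab
  let e : Fin (m + 1) → ((Fin m ⊕ Fin m) ⊕ Fin 2 → F) := fun i => D.E (Pi.single (.inl i) 1)
  let f : Fin (m + 1) → ((Fin m ⊕ Fin m) ⊕ Fin 2 → F) := fun i => D.k⁻¹ • D.E (Pi.single (.inr i) 1)
  have hs : ∀ x, formMinus F m a b (D.E x) = D.k * formPlus F (m + 1) x := fun x => D.spec x
  have hp : ∀ x y, polar (formMinus F m a b) (D.E x) (D.E y) = D.k * polar (formPlus F (m + 1)) x y :=
    fun x y => D.polar_spec x y
  have := D.k_ne
  have hl : ∀ i, formPlus F (m + 1) (Pi.single (.inl i) 1) = 0 := fun i => by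
    simp [formPlus_coe, Cfsg.quadFormPlus]
  have hr : ∀ i, formPlus F (m + 1) (Pi.single (.inr i) 1) = 0 := fun i => by
    simp [formPlus_coe, Cfsg.quadFormPlus]
  have hfr : IsFrame (formMinus F m a b) e f := by
    constructor <;> intros <;>
      simp [e, f, hs, hp, hl, hr, polar_smul_left', polar_smul_right', qmap_smul,
        polar_formPlus, Pi.single_apply, Finset.sum_add_distrib, eq_comm, this]
  have hk : finrank F (IsFrame.kernel (formMinus F m a b) e f) = 0 := by
    have := hfr.finrank_kernel hQ
    rw [finrank_formMinus] at this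
    omega
  have := frame_length_eq hQ hfr (fun x hx _ => by rwa [Submodule.finrank_eq_zero.1 hk] at hx)
    (formMinus_frame F m a b) (formMinus_aniso F m hab)
  omega

/-! ### Inner-diagonal groups -/

theorem inndiag_odd {m : ℕ} : Cfsg.inndiagPOmegaOdd m F = (simAut (formOdd F m)).range := by
  refine le_antisymm ((Subgroup.closure_le _).2 fun β hβ => ?_) ?_
  · obtain ⟨g, hg, h⟩ := hβ
    exact ⟨⟨g, hg⟩, (eq_simAut (g := ⟨g, hg⟩) h).symm⟩
  · rintro _ ⟨g, rfl⟩
    exact Subgroup.subset_closure ⟨g, g.2, isInduced_simAut g⟩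

section Minus

variable [Fintype F] {m : ℕ} {a b : F}

theorem classes_minus_iff (hm : 2 ≤ m) (hab : BinAniso a b) (g : sim (formMinus F m a b)) :
    Cfsg.PreservesSingularClassesMinus m a b
      ((g : GL ((Fin m ⊕ Fin m) ⊕ Fin 2) F) : Matrix ((Fin m ⊕ Fin m) ⊕ Fin 2) ((Fin m ⊕ Fin m) ⊕ Fin 2) F) ↔
      chi (space_minus hm hab) g = 1 := by
  have hK : ∀ (K : Type u) (_ : Field K) (_ : Algebra F K), finrank F K = 2 →
      (Cfsg.PreservesSingularClasses (Cfsg.quadFormMinus m K (algebraMap F K a) (algebraMap F K b))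
        (((g : GL ((Fin m ⊕ Fin m) ⊕ Fin 2) F) : Matrix ((Fin m ⊕ Fin m) ⊕ Fin 2) ((Fin m ⊕ Fin m) ⊕ Fin 2) F).map
          (algebraMap F K)) ↔ chi (space_minus hm hab) g = 1) := by
    intro K _ _ h
    have : Module.Finite F K := Module.finite_of_finrank_pos (by omega)
    have : Finite K := Module.finite_of_finite F
    have : Fintype K := Fintype.ofFinite K
    obtain ⟨z, hz⟩ := (exists_root_of_finrank_even (K := K) (by rw [h]; exact even_two) a b).resolve_left
      (fun ⟨z, hz⟩ => hab.no_root z hz)
    set φ := algebraMap F K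
    have hne : z ≠ -φ a - z := fun e => aniso_binary hab (φ.injective (by
      rw [map_zero, map_sub, map_pow, _root_.map_mul, map_ofNat]
      linear_combination (2 * z + φ a) * e - 4 * hz))
    obtain ⟨E, hE⟩ := OrthoClasses.exists_split (m := m) (a := a) (b := b) φ (r := z) (s := -φ a - z) hne (by ring)
      (by linear_combination -hz)
    let D := baseMinus φ m a b
    have SK := (space_minus (K := F) hm hab).transport D
    have hpsi : ((D.psi g : GL ((Fin m ⊕ Fin m) ⊕ Fin 2) K) : Matrix ((Fin m ⊕ Fin m) ⊕ Fin 2) ((Fin m ⊕ Fin m) ⊕ Fin 2) K)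
        = ((g : GL ((Fin m ⊕ Fin m) ⊕ Fin 2) F) : Matrix ((Fin m ⊕ Fin m) ⊕ Fin 2) ((Fin m ⊕ Fin m) ⊕ Fin 2) F).map φ :=
      Matrix.ext_iff_mulVec.2 fun y => D.psiGL_mulVec g.1 y
    have h1 := classes_iff_chi SK E hE (D.psi g)
    rw [hpsi, chi_natural (space_minus hm hab) SK D] at h1
    exact h1
  constructor
  · rintro ⟨K, iK, iA, h, hp⟩
    exact (hK K iK iA h).1 hp
  · intro hd
    have hne : (Polynomial.X ^ 2 + Polynomial.C a * Polynomial.X + Polynomial.C b : Polynomial F).natDegree = 2 := by
      compute_degree!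
    have hirr : Fact (Irreducible (Polynomial.X ^ 2 + Polynomial.C a * Polynomial.X + Polynomial.C b : Polynomial F)) := ⟨by
      rw [Polynomial.irreducible_iff_roots_eq_zero_of_degree_le_three (by omega) (by omega)]
      refine Multiset.eq_zero_of_forall_notMem fun x hx => ?_
      have := Polynomial.isRoot_of_mem_roots hx
      simp at this
      exact hab.no_root x this⟩
    refine ⟨AdjoinRoot (Polynomial.X ^ 2 + Polynomial.C a * Polynomial.X + Polynomial.C b : Polynomial F),
      inferInstance, inferInstance, ?_, ?_⟩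
    · rw [(AdjoinRoot.powerBasis hirr.out.ne_zero).finrank]
      exact hne
    · exact (hK _ inferInstance inferInstance (by rw [(AdjoinRoot.powerBasis hirr.out.ne_zero).finrank]; exact hne)).2 hd

theorem inndiag_minus (hm : 2 ≤ m) (hab : BinAniso a b) :
    Cfsg.inndiagPOmegaMinus m F a b = chiKer (space_minus hm hab) := by
  refine le_antisymm ((Subgroup.closure_le _).2 fun β hβ => ?_) ?_
  · obtain ⟨g, hg, hp, h⟩ := hβ
    exact ⟨⟨g, hg⟩, MonoidHom.mem_ker.2 ((classes_minus_iff hm hab ⟨g, hg⟩).1 hp),
      (eq_simAut (g := ⟨g, hg⟩) h).symm⟩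
  · rintro _ ⟨g, hg, rfl⟩
    exact Subgroup.subset_closure ⟨g, g.2, (classes_minus_iff hm hab g).2 hg, isInduced_simAut g⟩

end Minus

end Cfsg.Agent.H58.OrthoField
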