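import Mathlib
import Cfsg.Agent.H58.OrthoField.Conj
import Cfsg.Agent.H58.OrthoField.Forms

/-!
# The type of the form over the fixed field
-/

set_option autoImplicit false
set_option linter.unusedSectionVars false

namespace Cfsg.Agent.H58.OrthoField

open Matrix Module Cfsg.Agent.Orthogonal Cfsg.Agent.H58.OrthoAut Cfsg.Agent.H58.OrthoKlein Cfsg.Agent.H58.Twist
open QuadraticMap (polar)

universe u v

variable {F : Type u} [Field F] [Finite F] {F₀ : Type v} [Field F₀] [Finite F₀] {ι κ μ : Type} [Fintype ι]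
  [DecidableEq ι] [Fintype κ] [DecidableEq κ] [Fintype μ] [DecidableEq μ] {e : F₀ →+* F} {σ : F ≃+* F}
  {Q : QuadraticForm F (ι → F)} {Q' : QuadraticForm F (μ → F)} {Q₁ : QuadraticForm F₀ (κ → F₀)}

/-- Two forms extending the same form over a subfield are similar. -/
noncomputable def Datum.between (D : Datum e Q₁ Q) (D' : Datum e Q₁ Q') :
    Datum ((RingEquiv.refl F : F ≃+* F) : F →+* F) Q' Q where
  E := D'.E.symm.trans D.E
  k := D.k / D'.k
  k_ne := div_ne_zero D.k_ne D'.k_ne
  spec y := by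
    have h0 : Q.comp (D.E : (κ → F) →ₗ[F] (ι → F)) = (D.k / D'.k) • Q'.comp (D'.E : (κ → F) →ₗ[F] (μ → F)) :=
      eq_of_base e fun v => by
        simp only [QuadraticMap.comp_apply, QuadraticMap.smul_apply, LinearEquiv.coe_coe, smul_eq_mul, D.spec,
          D'.spec]
        have := D'.k_ne
        field_simp
    show Q (D.E (D'.E.symm y)) = D.k / D'.k * Q' y
    have h1 := DFunLike.congr_fun h0 (D'.E.symm y)
    simp only [QuadraticMap.comp_apply, QuadraticMap.smul_apply, LinearEquiv.coe_coe, smul_eq_mul,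
      LinearEquiv.apply_symm_apply] at h1
    exact h1

theorem card_fixedField (hf : FixedBy e σ) : Nat.card (Descent.fixedField σ) = Nat.card F₀ := by
  refine (Nat.card_congr (Equiv.ofBijective (fun x => (⟨e x, (Descent.mem_fixedField σ).2 (hf.apply x)⟩ :
    Descent.fixedField σ)) ⟨fun x y h => e.injective (congrArg Subtype.val h), fun a => ?_⟩)).symm
  obtain ⟨x, hx⟩ := (hf _).1 ((Descent.mem_fixedField σ).1 a.2)
  exact ⟨x, Subtype.ext hx⟩

theorem exists_root_of_two (hf : FixedBy e σ) (h2 : orderOf σ = 2) {a b : F₀} (hab : BinAniso a b) :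
    ∃ z : F, z ^ 2 + e a * z + e b = 0 := by
  have := Fintype.ofFinite F
  letI := e.toAlgebra
  have : Module.Finite F₀ F := Module.Finite.of_finite
  have hr : finrank F₀ F = 2 := by
    have h1 := Descent.card_eq_pow σ
    rw [h2, card_fixedField hf, ← Nat.card_eq_fintype_card, Module.natCard_eq_pow_finrank (K := F₀)] at h1
    exact Nat.pow_right_injective Finite.one_lt_card h1
  exact ((exists_root_of_finrank_even (K := F) (by rw [hr]; exact even_two) a b).resolve_left
    (fun ⟨z, hz⟩ => hab.no_root z hz))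

theorem binAniso_map_of_odd (hf : FixedBy e σ) (hodd : Odd (orderOf σ)) {a b : F₀} (hab : BinAniso a b) :
    BinAniso (e a) (e b) := by
  refine binAniso_of_no_root fun z hz => ?_
  have hz' : σ z = z := by
    have h1 : σ z ^ 2 + e a * σ z + e b = 0 := by
      rw [← hf.apply a, ← hf.apply b, ← map_pow, ← _root_.map_mul, ← map_add, ← map_add, hz, map_zero]
    rcases mul_eq_zero.1 (show (σ z - z) * (σ z + z + e a) = 0 by linear_combination h1 - hz) with h | h
    · exact sub_eq_zero.1 h
    · have h2 : σ (σ z) = z := by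
        rw [show σ z = -e a - z by linear_combination h, map_sub, map_neg, hf.apply,
          show σ z = -e a - z by linear_combination h]
        ring
      obtain ⟨k, hk⟩ := hodd
      have hfix : ∀ j, (σ ^ (2 * j)) z = z := by
        intro j
        induction j with
        | zero => rfl
        | succ j ih =>
          rw [show 2 * (j + 1) = 2 * j + 2 by ring, pow_add]
          show (σ ^ (2 * j)) ((σ ^ 2) z) = z
          rw [show (σ ^ 2) z = σ (σ z) from rfl, h2, ih]
      have h3 : (σ ^ orderOf σ) z = z := by rw [pow_orderOf_eq_one]; rfl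
      rw [hk, pow_succ'] at h3
      change σ ((σ ^ (2 * k)) z) = z at h3
      rwa [hfix] at h3
  obtain ⟨x, rfl⟩ := (hf z).1 hz'
  exact hab.no_root x (e.injective (by rw [map_add, map_add, map_pow, _root_.map_mul, hz, map_zero]))

/-! ### Classification over the subfield -/

section Even

variable {g : GL ι F} (hf : FixedBy e σ)

include hf in
theorem descends_even {m : ℕ} (S : Space Q (m + 1)) (h : Cfsg.IsSemisimilarityPair ⇑Q g σ)
    (hg : normProd (gmap σ) g (orderOf σ) = 1) :
    (∃ D : Datum e (formPlus F₀ (m + 1)) Q, D.Descends g σ) ∨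
      ∃ ζ : F₀, BinAniso 1 ζ ∧ ∃ D : Datum e (formMinus F₀ m 1 ζ) Q, D.Descends g σ := by
  obtain ⟨Q₁, D, hD⟩ := exists_descends (e := e) S.nondeg (by have := S.five; omega) h hg hf
  rcases (D.nondeg S.nondeg).classify_even (m := m)
      (by rw [finrank_fintype_fun_eq_card, S.card]) with ⟨E, hE⟩ | ⟨ζ, E, hζ, hE⟩
  · exact Or.inl (hD.precomp ⟨E, 1, one_ne_zero, fun v => by rw [one_mul]; exact hE v⟩)
  · exact Or.inr ⟨ζ, aniso_of_no_root hζ, hD.precomp ⟨E, 1, one_ne_zero, fun v => by rw [one_mul]; exact hE v⟩⟩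

end Even

theorem descends_odd {m : ℕ} {g : GL (Unit ⊕ (Fin m ⊕ Fin m)) F} (hm : 2 ≤ m) (h2 : (2 : F) ≠ 0)
    (hf : FixedBy e σ) (h : Cfsg.IsSemisimilarityPair ⇑(formOdd F m) g σ)
    (hg : normProd (gmap σ) g (orderOf σ) = 1) :
    ∃ D : Datum e (formOdd F₀ m) (formOdd F m), D.Descends g σ := by
  obtain ⟨Q₁, D, hD⟩ := exists_descends (e := e) (formOdd_nondeg F m h2) (by simp) h hg hf
  obtain ⟨-, α, E, hα, hE⟩ := (D.nondeg (formOdd_nondeg F m h2)).classify_odd (m := m)
    (by simp [finrank_fintype_fun_eq_card]; omega)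
  exact hD.precomp ⟨E, α, hα, fun v => hE v⟩

/-- For the minus form the order is odd and the type is minus. -/
theorem descends_minus {m : ℕ} {a b : F} (hm : 2 ≤ m) (hab : BinAniso a b)
    {g : GL ((Fin m ⊕ Fin m) ⊕ Fin 2) F} (hf : FixedBy e σ) {r : ℕ} (hr : r.Prime) (hord : orderOf σ = r)
    (h : Cfsg.IsSemisimilarityPair ⇑(formMinus F m a b) g σ) (hg : normProd (gmap σ) g (orderOf σ) = 1) :
    Odd r ∧ ∃ ζ : F₀, BinAniso 1 ζ ∧ ∃ D : Datum e (formMinus F₀ m 1 ζ) (formMinus F m a b), D.Descends g σ := by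
  rcases descends_even hf (space_minus hm hab) h hg with ⟨D, -⟩ | ⟨ζ, hζ, D, hD⟩
  · exact (not_plus_minus hab (D.between (basePlus e (m + 1)))).elim
  · refine ⟨hr.odd_of_ne_two ?_, ζ, hζ, D, hD⟩
    rintro rfl
    obtain ⟨z, hz⟩ := exists_root_of_two hf hord hζ
    obtain ⟨D'⟩ := exists_splitDatum e m hζ hz
    exact not_plus_minus hab (D.between D')

/-- For the plus form and an odd order the type is plus. -/
theorem descends_plus_odd {m : ℕ} (hm : 3 ≤ m) {g : GL (Fin m ⊕ Fin m) F} (hf : FixedBy e σ)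
    (hodd : Odd (orderOf σ)) (h : Cfsg.IsSemisimilarityPair ⇑(formPlus F m) g σ)
    (hg : normProd (gmap σ) g (orderOf σ) = 1) :
    ∃ D : Datum e (formPlus F₀ m) (formPlus F m), D.Descends g σ := by
  obtain ⟨k, rfl⟩ : ∃ k, m = k + 1 := ⟨m - 1, by omega⟩
  rcases descends_even hf (space_plus hm) h hg with hp | ⟨ζ, hζ, D, -⟩
  · exact hp
  · exact (not_plus_minus (binAniso_map_of_odd hf hodd hζ) ((baseMinus e k 1 ζ).between D)).elim

end Cfsg.Agent.H58.OrthoField
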