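import Mathlib
import Cfsg.Agent.H58.OrthoField.Types

/-!
# The plus form: field and graph-field types
-/

set_option autoImplicit false
set_option linter.unusedSectionVars false

namespace Cfsg.Agent.H58.OrthoField

open Matrix Module Cfsg.Agent.Orthogonal Cfsg.Agent.H58.OrthoAut Cfsg.Agent.H58.OrthoKlein Cfsg.Agent.H58.Twist
open QuadraticMap (polar)

variable {F : Type*} [Field F] {σ : F ≃+* F} {m : ℕ}

theorem fixed_plus : Fixed (formPlus F m) σ := fun v => by
  simp [formPlus_coe, Cfsg.quadFormPlus, map_sum]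

theorem fixed_odd : Fixed (formOdd F m) σ := fun v => by
  simp [formOdd_coe, Cfsg.quadFormOdd, map_sum]

theorem fixed_minus {a b : F} (ha : σ a = a) (hb : σ b = b) : Fixed (formMinus F m a b) σ := fun v => by
  simp [formMinus_coe, Cfsg.quadFormMinus, map_sum, ha, hb]

theorem exists_binAniso (K : Type*) [Field K] [Finite K] : ∃ ζ : K, BinAniso 1 ζ := by
  have hns : ¬ Function.Surjective fun t : K => t ^ 2 + t := fun hs => by
    have hi := Finite.injective_iff_surjective.2 hs
    exact neg_ne_zero.2 one_ne_zero (hi (show (-1 : K) ^ 2 + -1 = 0 ^ 2 + 0 by ring))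
  simp only [Function.Surjective, not_forall, not_exists] at hns
  obtain ⟨y, hy⟩ := hns
  exact ⟨-y, binAniso_of_no_root fun z hz => hy z (by linear_combination hz)⟩

variable [Finite F]

section Even

variable {ι : Type} [Fintype ι] [DecidableEq ι] {Q : QuadraticForm F (ι → F)}

theorem chi_congr_semi (S : Space Q m) (hσ : Fixed Q σ) {g g' : sim Q}
    (h : Cfsg.IsSemisimilarityPair ⇑Q g.1 σ) (h' : Cfsg.IsSemisimilarityPair ⇑Q g'.1 σ)
    (e : semiAut g.1 σ h = semiAut g'.1 σ h') : chi S g = chi S g' := by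
  rw [semiAut_split hσ g h, semiAut_split hσ g' h', mul_left_inj] at e
  have h1 : simAut Q (g * g'⁻¹) = 1 := by rw [map_mul, map_inv, e, mul_inv_cancel]
  obtain ⟨c, hc⟩ := (simAut_eq_one_iff S.nondeg S.five).1 h1
  have h2 : g * g'⁻¹ = ⟨GeneralLinearGroup.scalar ι c, scalar_mem_sim c⟩ := Subtype.ext hc
  have h3 := congrArg (chi S) h2
  rw [chi_scalar, map_mul, map_inv, mul_inv_eq_one] at h3
  exact h3

theorem chi_conj_semi (S : Space Q m) (hσ : Fixed Q σ) {g g' : sim Q}
    (h : Cfsg.IsSemisimilarityPair ⇑Q g.1 σ) (h' : Cfsg.IsSemisimilarityPair ⇑Q g'.1 σ)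
    {β : MulAut (Cfsg.POmega F ⇑Q)} (hβ : β ∈ chiKer S) (e : β * semiAut g.1 σ h * β⁻¹ = semiAut g'.1 σ h') :
    chi S g = chi S g' := by
  obtain ⟨B, hB, rfl⟩ := hβ
  rw [← map_inv, semiAut_split hσ g h, mul_assoc, mul_assoc,
    show fld σ hσ * simAut Q B⁻¹ = simAut Q (th σ hσ B⁻¹) * fld σ hσ from
      mul_inv_eq_iff_eq_mul.1 (fld_conj hσ B⁻¹),
    ← mul_assoc, ← mul_assoc, ← map_mul, ← map_mul,
    ← semiAut_split hσ (B * g * th σ hσ B⁻¹) (semi_of_sim hσ _)] at e
  have h1 := chi_congr_semi S hσ (semi_of_sim hσ _) h' e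
  rw [map_mul, map_mul, chi_th, map_inv, MonoidHom.mem_ker.1 hB] at h1
  simpa using h1

theorem chi_normProd (S : Space Q m) (hσ : Fixed Q σ) (g : sim Q) (k : ℕ) :
    ∃ N : sim Q, N.1 = normProd (gmap σ) g.1 k ∧ chi S N = chi S g ^ k := by
  induction k with
  | zero => exact ⟨1, rfl, (map_one (chi S)).trans (pow_zero _).symm⟩
  | succ k ih =>
    obtain ⟨N, hN, hc⟩ := ih
    refine ⟨g * th σ hσ N, ?_, by rw [map_mul, chi_th, hc, pow_succ']⟩
    rw [Subgroup.coe_mul, th_coe, hN, normProd_succ]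

end Even

section Plus

variable {F₀ : Type*} [Field F₀] [Finite F₀] {e : F₀ →+* F}

/-- The standard vector of value one. -/
def unitVec (F : Type*) [Field F] (m : ℕ) (hm : 0 < m) : Fin m ⊕ Fin m → F :=
  Pi.single (Sum.inl ⟨0, hm⟩) 1 + Pi.single (Sum.inr ⟨0, hm⟩) 1

theorem formPlus_unitVec (hm : 0 < m) : formPlus F m (unitVec F m hm) = 1 := by
  simp [formPlus_coe, Cfsg.quadFormPlus, unitVec, Pi.single_apply]

theorem th_reflSim {ι : Type} [Fintype ι] [DecidableEq ι] {Q : QuadraticForm F (ι → F)} (hσ : Fixed Q σ)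
    {v : ι → F} (hv : Q v ≠ 0) (hfix : ∀ i, σ (v i) = v i) : th σ hσ (reflSim Q v) = reflSim Q v := by
  rw [th, Datum.psi_reflSim _ hv]
  congr 1
  show ((1 : GL ι F) : Matrix ι ι F) *ᵥ (σ ∘ v) = v
  rw [Units.val_one, one_mulVec]
  exact funext hfix

theorem normProd_refl_two {ι : Type} [Fintype ι] [DecidableEq ι] {Q : QuadraticForm F (ι → F)} (hσ : Fixed Q σ)
    {v : ι → F} (hv : Q v ≠ 0) (hfix : ∀ i, σ (v i) = v i) :
    normProd (gmap σ) (reflSim Q v).1 2 = 1 := by
  rw [normProd_succ, normProd_one, ← th_coe hσ, th_reflSim hσ hv hfix, ← Subgroup.coe_mul]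
  have : reflSim Q v * reflSim Q v = 1 := by
    refine Subtype.ext ?_
    show (reflIso Q v).1 * (reflIso Q v).1 = 1
    rw [← Subgroup.coe_mul, ← Subgroup.coe_one]
    refine congrArg Subtype.val ((toO Q).injective ?_)
    rw [map_mul, map_one, reflIso, MulEquiv.apply_symm_apply]
    refine O.ext_app fun w => ?_
    rw [Subgroup.coe_mul, mul_app, rO_app, rO_app, Subgroup.coe_one, QuadraticMap.polar_sub_right,
      polar_smul_right', polar_self']
    show w - _ • v - _ • v = w
    have hz : (Q v)⁻¹ * polar Q v w + (Q v)⁻¹ * (polar Q v w - (Q v)⁻¹ * polar Q v w * (2 * Q v)) = 0 := by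
      field_simp
      ring
    rw [sub_sub, ← add_smul, hz, zero_smul, sub_zero]
  rw [this]; rfl

theorem semi_one_plus : Cfsg.IsSemisimilarityPair ⇑(formPlus F m) (1 : GL (Fin m ⊕ Fin m) F) σ :=
  semi_fixed fixed_plus

theorem descends_one (hf : FixedBy e σ) :
    (basePlus e m : Datum e (formPlus F₀ m) (formPlus F m)).Descends 1 σ := fun v => by
  show (1 : Matrix (Fin m ⊕ Fin m) (Fin m ⊕ Fin m) F) *ᵥ (σ ∘ (e ∘ v)) = e ∘ v
  rw [one_mulVec]
  exact funext fun i => hf.apply (v i)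

/-- A plus descent has sign one. -/
theorem chi_of_descends_plus (hm : 3 ≤ m) (hf : FixedBy e σ) {g : sim (formPlus F m)}
    {D : Datum e (formPlus F₀ m) (formPlus F m)} (hD : D.Descends g.1 σ) :
    chi (space_plus hm) g = 1 := by
  obtain ⟨β, hβ, hβe⟩ := exists_conj_chi (space_plus hm) hf hD (descends_one hf) (semi_of_sim fixed_plus g)
    semi_one_plus
  exact (chi_conj_semi (g' := 1) (space_plus hm) fixed_plus _ semi_one_plus hβ hβe).trans (map_one _)

theorem chi_refl_unitVec (hm : 3 ≤ m) :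
    chi (space_plus (K := F) hm) (reflSim (formPlus F m) (unitVec F m (by omega))) = -1 :=
  chi_reflSim _ (by rw [formPlus_unitVec]; exact one_ne_zero)

theorem unitVec_fixed (hm : 0 < m) : ∀ i, σ (unitVec F m hm i) = unitVec F m hm i := fun i => by
  simp [unitVec, Pi.single_apply, apply_ite σ]

/-- The reference graph-field element descends to every minus form. -/
theorem descends_refl (hm : 3 ≤ m + 1) (hf : FixedBy e σ) (h2 : orderOf σ = 2) {ζ : F₀} (hζ : BinAniso 1 ζ) :
    ∃ D : Datum e (formMinus F₀ m 1 ζ) (formPlus F (m + 1)),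
      D.Descends (reflSim (formPlus F (m + 1)) (unitVec F (m + 1) (by omega))).1 σ := by
  set R := reflSim (formPlus F (m + 1)) (unitVec F (m + 1) (by omega))
  have hne : formPlus F (m + 1) (unitVec F (m + 1) (by omega)) ≠ 0 := by
    rw [formPlus_unitVec]; exact one_ne_zero
  rcases descends_even hf (space_plus hm) (semi_of_sim fixed_plus R)
      (by rw [h2]; exact normProd_refl_two fixed_plus hne (unitVec_fixed _)) with ⟨D, hD⟩ | ⟨ζ₀, hζ₀, D, hD⟩
  · have h1 := chi_of_descends_plus hm hf hD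
    rw [chi_refl_unitVec hm] at h1
    exact absurd h1 (by decide)
  · obtain ⟨D₀⟩ := exists_minusDatum m hζ₀ hζ
    exact hD.precomp D₀

/-- A semilinear element of sign one descends to the plus form. -/
theorem descends_plus_of_chi (hm : 3 ≤ m) (hf : FixedBy e σ) {r : ℕ} (hr : r.Prime) (hord : orderOf σ = r)
    {g : sim (formPlus F m)} (hg : normProd (gmap σ) g.1 r = 1) (hc : chi (space_plus hm) g = 1) :
    ∃ D : Datum e (formPlus F₀ m) (formPlus F m), D.Descends g.1 σ := by
  subst hord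
  by_cases h2 : orderOf σ = 2
  · obtain ⟨k, rfl⟩ : ∃ k, m = k + 1 := ⟨m - 1, by omega⟩
    rcases descends_even hf (space_plus hm) (semi_of_sim fixed_plus g) hg with hp | ⟨ζ, hζ, D, hD⟩
    · exact hp
    · obtain ⟨D', hD'⟩ := descends_refl hm hf h2 hζ
      obtain ⟨β, hβ, hβe⟩ := exists_conj_chi (space_plus hm) hf hD hD' (semi_of_sim fixed_plus g)
        (semi_of_sim fixed_plus _)
      have h1 := chi_conj_semi (space_plus hm) fixed_plus _ _ hβ hβe
      rw [hc, chi_refl_unitVec hm] at h1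
      exact absurd h1 (by decide)
  · exact descends_plus_odd hm hf (hr.odd_of_ne_two h2) (semi_of_sim fixed_plus g) hg

/-- A semilinear element of sign minus one has order two and descends to every minus form. -/
theorem descends_minus_of_chi (hm : 3 ≤ m + 1) (hf : FixedBy e σ) {r : ℕ} (hr : r.Prime) (hord : orderOf σ = r)
    {g : sim (formPlus F (m + 1))} (hg : normProd (gmap σ) g.1 r = 1) (hc : chi (space_plus hm) g = -1) :
    r = 2 ∧ ∀ ζ : F₀, BinAniso 1 ζ →
      ∃ D : Datum e (formMinus F₀ m 1 ζ) (formPlus F (m + 1)), D.Descends g.1 σ := by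
  obtain ⟨N, hN, hNc⟩ := chi_normProd (space_plus hm) fixed_plus g r (σ := σ)
  rw [hg] at hN
  have hN1 : N = 1 := Subtype.ext hN
  rw [hN1, map_one, hc] at hNc
  have h2 : r = 2 := hr.eq_two_or_odd'.resolve_right fun ho => by
    rw [ho.neg_one_pow] at hNc
    exact absurd hNc (by decide)
  subst h2
  refine ⟨rfl, fun ζ hζ => ?_⟩
  rcases descends_even hf (space_plus hm) (semi_of_sim fixed_plus g) (by rw [hord]; exact hg) with
    ⟨D, hD⟩ | ⟨ζ₀, hζ₀, D, hD⟩
  · rw [chi_of_descends_plus hm hf hD] at hc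
    exact absurd hc (by decide)
  · obtain ⟨D₀⟩ := exists_minusDatum m hζ₀ hζ
    exact hD.precomp D₀

end Plus

end Cfsg.Agent.H58.OrthoField
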