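import Mathlib
import Cfsg.Agent.H58.OrthoField.Plus

/-!
# The named classes as normalised semilinear automorphisms
-/

set_option autoImplicit false
set_option linter.unusedSectionVars false

namespace Cfsg.Agent.H58.OrthoField

open Matrix Module Cfsg.Agent.Orthogonal Cfsg.Agent.H58.OrthoAut Cfsg.Agent.H58.OrthoKlein Cfsg.Agent.H58.Twist
open QuadraticMap (polar)

variable {F : Type*} [Field F] [Finite F] {ι : Type} [Fintype ι] [DecidableEq ι] {Q : QuadraticForm F (ι → F)}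

theorem semi_mem_sim {g : GL ι F} {σ : F ≃+* F} (hσ : Fixed Q σ) (h : Cfsg.IsSemisimilarityPair ⇑Q g σ) :
    ∃ G : sim Q, ∃ hG : Cfsg.IsSemisimilarityPair ⇑Q G.1 σ, semiAut g σ h = semiAut G.1 σ hG :=
  ⟨⟨g, sim_of_semi_fixed hσ h⟩, h, rfl⟩

theorem fld_comm {σ τ : F ≃+* F} (hσ : Fixed Q σ) (hτ : Fixed Q τ) :
    fld τ hτ * fld σ hσ = fld σ hσ * fld τ hτ := by
  rw [fld, fld, semiAut_mul, semiAut_mul]
  exact semi_congr _ _ (by rw [map_one, map_one]) (field_aut_comm τ σ)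

/-- An automorphism is a similitude times a field automorphism. -/
theorem exists_sim_fld (hfix : ∀ τ : F ≃+* F, Fixed Q τ) (hgam : Cfsg.gammaPOmega F ⇑Q = ⊤)
    (α : MulAut (Cfsg.POmega F ⇑Q)) : ∃ (A : sim Q) (τ : F ≃+* F), α = simAut Q A * fld τ (hfix τ) := by
  obtain ⟨g, τ, h, rfl⟩ := exists_semi hgam α
  exact ⟨⟨g, sim_of_semi_fixed (hfix τ) h⟩, τ, semiAut_split (hfix τ) ⟨g, sim_of_semi_fixed (hfix τ) h⟩ h⟩

/-- The conjugates of `R σ` keep the sign. -/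
theorem exists_conj_simAut_fld (hfix : ∀ τ : F ≃+* F, Fixed Q τ) (hgam : Cfsg.gammaPOmega F ⇑Q = ⊤)
    {σ : F ≃+* F} (α : MulAut (Cfsg.POmega F ⇑Q)) (R : sim Q) :
    ∃ G : sim Q, α * (simAut Q R * fld σ (hfix σ)) * α⁻¹ = semiAut G.1 σ (semi_of_sim (hfix σ) G) ∧
      ∀ {m : ℕ} (S : Space Q m), chi S G = chi S R := by
  obtain ⟨A, τ, rfl⟩ := exists_sim_fld hfix hgam α
  refine ⟨A * th τ (hfix τ) R * th σ (hfix σ) A⁻¹, ?_, fun S => by
    rw [map_mul, map_mul, chi_th, chi_th, map_inv, mul_right_comm, mul_inv_cancel, one_mul]⟩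
  rw [semiAut_split (hfix σ), map_mul, map_mul, ← fld_conj (hfix σ), ← fld_conj (hfix τ), map_inv]
  have hc := fld_comm (hfix σ) (hfix τ)
  calc simAut Q A * fld τ (hfix τ) * (simAut Q R * fld σ (hfix σ)) * (simAut Q A * fld τ (hfix τ))⁻¹
      = simAut Q A * (fld τ (hfix τ) * simAut Q R * (fld τ (hfix τ))⁻¹) *
          (fld τ (hfix τ) * fld σ (hfix σ) * (fld τ (hfix τ))⁻¹) * (simAut Q A)⁻¹ := by group
    _ = simAut Q A * (fld τ (hfix τ) * simAut Q R * (fld τ (hfix τ))⁻¹) * fld σ (hfix σ) * (simAut Q A)⁻¹ := by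
        rw [hc, mul_inv_cancel_right]
    _ = _ := by group

/-- A member of the field class is semilinear of sign one. -/
theorem fieldClass_semi (hfix : ∀ τ : F ≃+* F, Fixed Q τ) (hgam : Cfsg.gammaPOmega F ⇑Q = ⊤)
    {x : MulAut (Cfsg.POmega F ⇑Q)} (hx : Cfsg.IsFieldAutClassPOmega ⇑Q x) :
    ∃ (σ : F ≃+* F) (G : sim Q), σ ≠ RingEquiv.refl F ∧ x = semiAut G.1 σ (semi_of_sim (hfix σ) G) ∧
      ∀ {m : ℕ} (S : Space Q m), chi S G = 1 := by
  obtain ⟨α, φ, σ, hσ, hφ, e⟩ := hx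
  obtain ⟨G, hG, hc⟩ := exists_conj_simAut_fld hfix hgam (σ := σ) α⁻¹ 1
  refine ⟨σ, G, hσ, ?_, fun S => (hc S).trans (map_one _)⟩
  rw [← hG, map_one, one_mul, ← eq_fld (hfix σ) hφ, ← e]
  group

/-- Normalising the norm of a semilinear element of prime order. -/
theorem normalise {σ : F ≃+* F} (hσf : Fixed Q σ) (hQ : Nondeg Q) (hn : 5 ≤ Fintype.card ι)
    (hσ : σ ≠ RingEquiv.refl F) {r : ℕ} (hr : r.Prime) (G : sim Q)
    (hpow : semiAut G.1 σ (semi_of_sim hσf G) ^ r = 1) :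
    orderOf σ = r ∧ ∃ G' : sim Q, semiAut G'.1 σ (semi_of_sim hσf G') = semiAut G.1 σ (semi_of_sim hσf G) ∧
      normProd (gmap σ) G'.1 r = 1 ∧ ∀ {m : ℕ} (S : Space Q m), chi S G' = chi S G := by
  obtain ⟨hord, g', h', he, hn'⟩ := exists_normProd_one (semi_of_sim hσf G) hQ hn hσ hr hpow
  exact ⟨hord, ⟨g', sim_of_semi_fixed hσf h'⟩, he, hn', fun S => chi_congr_semi S hσf _ _ he⟩

theorem pow_eq_one_of_orderOf {X : Type*} [Group X] {x : X} {r : ℕ} (h : orderOf x = r) : x ^ r = 1 :=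
  h ▸ pow_orderOf_eq_one x

/-- The field class, normalised. -/
theorem fieldClass_normal (hfix : ∀ τ : F ≃+* F, Fixed Q τ) (hgam : Cfsg.gammaPOmega F ⇑Q = ⊤) (hQ : Nondeg Q)
    (hn : 5 ≤ Fintype.card ι) {x : MulAut (Cfsg.POmega F ⇑Q)} (hx : Cfsg.IsFieldAutClassPOmega ⇑Q x) {r : ℕ}
    (hr : r.Prime) (hxr : orderOf x = r) :
    ∃ (σ : F ≃+* F) (G : sim Q), orderOf σ = r ∧ x = semiAut G.1 σ (semi_of_sim (hfix σ) G) ∧
      normProd (gmap σ) G.1 r = 1 ∧ ∀ {m : ℕ} (S : Space Q m), chi S G = 1 := by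
  obtain ⟨σ, G, hσ, rfl, hc⟩ := fieldClass_semi hfix hgam hx
  obtain ⟨hord, G', he, hN, hc'⟩ := normalise (hfix σ) hQ hn hσ hr G (pow_eq_one_of_orderOf hxr)
  exact ⟨σ, G', hord, he.symm, hN, fun S => (hc' S).trans (hc S)⟩

/-- The inner-diagonal coset of a normalised element, normalised. -/
theorem coset_normal {σ : F ≃+* F} (hσf : Fixed Q σ) (hQ : Nondeg Q) (hn : 5 ≤ Fintype.card ι)
    (hσ : σ ≠ RingEquiv.refl F) {r : ℕ} (hr : r.Prime) (d G : sim Q)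
    (hy : orderOf (simAut Q d * semiAut G.1 σ (semi_of_sim hσf G)) = r) :
    ∃ G' : sim Q, simAut Q d * semiAut G.1 σ (semi_of_sim hσf G) = semiAut G'.1 σ (semi_of_sim hσf G') ∧
      normProd (gmap σ) G'.1 r = 1 ∧ ∀ {m : ℕ} (S : Space Q m), chi S G' = chi S d * chi S G := by
  have e : simAut Q d * semiAut G.1 σ (semi_of_sim hσf G) = semiAut (d * G).1 σ (semi_of_sim hσf _) := by
    rw [semiAut_split hσf, semiAut_split hσf, map_mul, mul_assoc]
  rw [e] at hy ⊢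
  obtain ⟨-, G', he, hN, hc⟩ := normalise hσf hQ hn hσ hr (d * G) (pow_eq_one_of_orderOf hy)
  exact ⟨G', he.symm, hN, fun S => (hc S).trans (map_mul _ _ _)⟩

theorem ne_refl_of_orderOf {σ : F ≃+* F} {r : ℕ} (hr : r.Prime) (h : orderOf σ = r) : σ ≠ RingEquiv.refl F := by
  rintro rfl
  exact hr.ne_one (h.symm.trans orderOf_one)

end Cfsg.Agent.H58.OrthoField
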