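import Mathlib
import Cfsg.Agent.H58.OrthoField.Classes

/-!
# Graph-field automorphisms of the plus type and field automorphisms of the minus type
-/

set_option autoImplicit false
set_option linter.unusedSectionVars false

namespace Cfsg.Agent.H58.OrthoField

open Matrix Module Cfsg.Agent.Orthogonal Cfsg.Agent.H58.OrthoAut Cfsg.Agent.H58.OrthoKlein Cfsg.Agent.H58.Twist
open QuadraticMap (polar)

variable {F : Type*} [Field F] [Finite F]

/-- A conjugate of a reflection times a field automorphism. -/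
theorem refl_class_semi {ι : Type} [Fintype ι] [DecidableEq ι] {Q : QuadraticForm F (ι → F)}
    (hfix : ∀ τ : F ≃+* F, Fixed Q τ) (hgam : Cfsg.gammaPOmega F ⇑Q = ⊤)
    {x α γ φ : MulAut (Cfsg.POmega F ⇑Q)} {σ : F ≃+* F} {v : ι → F} (hv : Q v ≠ 0) (R : GL ι F)
    (hR : (R : Matrix ι ι F) = Cfsg.reflectionMatrix ⇑Q v)
    (hγ : Cfsg.IsInducedBySemilinearPOmega ⇑Q R (RingEquiv.refl F) γ) (hφ : Cfsg.IsFieldAutPOmegaOf ⇑Q σ φ)
    (e : α * x * α⁻¹ = γ * φ) :
    ∃ G : sim Q, x = semiAut G.1 σ (semi_of_sim (hfix σ) G) ∧ ∀ {m : ℕ} (S : Space Q m), chi S G = -1 := by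
  obtain rfl : R = (reflSim Q v).1 := Units.ext (hR.trans (reflIso_val (Q := Q) v).symm)
  obtain ⟨G, hG, hc⟩ := exists_conj_simAut_fld hfix hgam (σ := σ) α⁻¹ (reflSim Q v)
  refine ⟨G, ?_, fun S => (hc S).trans (chi_reflSim S hv)⟩
  rw [← hG, ← eq_simAut (g := reflSim Q v) hγ, ← eq_fld (hfix σ) hφ, ← e]
  group

/-- The graph-field class, normalised. -/
theorem graphFieldClass_normal {m : ℕ} (hm : 3 ≤ m) (hgam : Cfsg.gammaPOmega F ⇑(formPlus F m) = ⊤)
    {x : MulAut (Cfsg.POmega F ⇑(formPlus F m))} (hx : Cfsg.IsGraphFieldAutClassPOmegaPlus m x) {r : ℕ}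
    (hr : r.Prime) (hxr : orderOf x = r) :
    ∃ (σ : F ≃+* F) (G : sim (formPlus F m)), orderOf σ = r ∧
      x = semiAut G.1 σ (semi_of_sim fixed_plus G) ∧ normProd (gmap σ) G.1 r = 1 ∧
      chi (space_plus hm) G = -1 := by
  obtain ⟨α, γ, φ, σ, v, R, hσ, hv, -, hR, hγ, hφ, e⟩ := hx
  obtain ⟨G, hxG, hc⟩ := refl_class_semi (Q := formPlus F m) (fun τ => fixed_plus) hgam (x := x) (α := α) (γ := γ)
    (φ := φ) hv R hR hγ hφ e
  subst hxG
  obtain ⟨hord, G', he, hN, hc'⟩ := normalise fixed_plus (space_plus hm).nondeg (space_plus (K := F) hm).five hσ hr G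
    (pow_eq_one_of_orderOf hxr)
  exact ⟨σ, G', hord, he.symm, hN, (hc' _).trans (hc _)⟩

/-- Transport of a standard field automorphism by a similitude between two forms on the same space. -/
theorem semi_transport {ι : Type} [Fintype ι] [DecidableEq ι] {Q Q' : QuadraticForm F (ι → F)} {σ : F ≃+* F}
    (hσ : Fixed Q' σ) (D : Datum ((RingEquiv.refl F : F ≃+* F) : F →+* F) Q' Q) :
    ∃ g h, semiAut (Q := Q) g σ h = D.autIso (fld σ hσ) := by
  let P : GL ι F := glEquiv.symm D.E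
  have hP : ∀ z, (P : Matrix ι ι F) *ᵥ z = D.E z := fun z => by
    rw [← glEquiv_apply, MulEquiv.apply_symm_apply]
  have hpsi : ∀ X : GL ι F, D.psiGL X = P * X * P⁻¹ := fun X => by
    refine (D.eq_psiGL _ _ fun v => ?_).symm
    show ((P * X * P⁻¹ : GL ι F) : Matrix ι ι F) *ᵥ D.E (((RingEquiv.refl F : F ≃+* F) : F →+* F) ∘ v) = D.E _
    rw [← hP, ← hP, mulVec_mulVec, ← Units.val_mul, inv_mul_cancel_right, Units.val_mul, ← mulVec_mulVec]
    rfl
  have h : Cfsg.IsSemisimilarityPair ⇑Q (P * gmap σ P⁻¹) σ := by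
    refine ⟨Units.mk0 (D.k / σ D.k) (div_ne_zero D.k_ne ((map_ne_zero σ).2 D.k_ne)), fun v => ?_⟩
    obtain ⟨w, rfl⟩ : ∃ w, D.E w = v := D.E.surjective v
    have h1 : ((P * gmap σ P⁻¹ : GL ι F) : Matrix ι ι F) *ᵥ (σ ∘ D.E w) = D.E (σ ∘ w) := by
      have h0 : (σ ∘ D.E w : ι → F) = (gmap σ P : Matrix ι ι F) *ᵥ (σ ∘ w) := by
        rw [← hP]
        exact funext fun j => RingHom.map_mulVec (σ : F →+* F) _ w j
      rw [h0, mulVec_mulVec, ← Units.val_mul, map_inv, inv_mul_cancel_right, hP]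
    show Q (((P * gmap σ P⁻¹ : GL ι F) : Matrix ι ι F) *ᵥ (σ ∘ D.E w)) = _
    rw [h1, show (σ ∘ w : ι → F) = ((RingEquiv.refl F : F ≃+* F) : F →+* F) ∘ (σ ∘ w) from rfl, D.spec,
      show (D.E w) = D.E (((RingEquiv.refl F : F ≃+* F) : F →+* F) ∘ w) from rfl, D.spec, Units.val_mk0]
    have := (map_ne_zero σ).2 D.k_ne
    show D.k * Q' (σ ∘ w) = D.k / σ D.k * σ (D.k * Q' w)
    rw [hσ, _root_.map_mul]
    field_simp
  refine ⟨_, h, D.eq_autIso fun z => ?_⟩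
  induction z using QuotientGroup.induction_on with | _ s
  show (semiDatum h).iso (D.iso (QuotientGroup.mk s)) = D.iso ((semiDatum (semi_fixed hσ)).iso (QuotientGroup.mk s))
  rw [Datum.iso_mk, Datum.iso_mk, Datum.iso_mk, Datum.iso_mk]
  refine congrArg QuotientGroup.mk (Subtype.ext (Subtype.ext ?_))
  rw [Datum.psiO_coe, Datum.psiO_coe, Datum.psiO_coe, Datum.psiO_coe, semiDatum_psiGL, semiDatum_psiGL, hpsi, hpsi,
    map_inv]
  simp only [map_mul, map_inv, one_mul, inv_one, mul_one]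
  group

/-- The field class of the minus type is semilinear. -/
theorem minusClass_semi {m : ℕ} (hm : 2 ≤ m) {a b : F} (hab : BinAniso a b)
    (hgam : Cfsg.gammaPOmega F ⇑(formMinus F m a b) = ⊤)
    {x : MulAut (Cfsg.POmega F ⇑(formMinus F m a b))} (hx : Cfsg.IsFieldAutClassPOmegaMinus m x) :
    ∃ (σ : F ≃+* F) (g : GL ((Fin m ⊕ Fin m) ⊕ Fin 2) F) (h : _), σ ≠ RingEquiv.refl F ∧
      x = semiAut (Q := formMinus F m a b) g σ h := by
  obtain ⟨a', b', ψ, σ, hab', hσ, ha', hb', hφ⟩ := hx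
  obtain ⟨D⟩ := exists_minusDatum m hab hab'
  obtain ⟨g₁, h₁, e₁⟩ := semi_transport (fixed_minus ha' hb') D
  let β : MulAut (Cfsg.POmega F ⇑(formMinus F m a b)) := ψ.trans D.iso
  have hβ : β * x * β⁻¹ = semiAut g₁ σ h₁ := by
    rw [e₁]
    refine D.eq_autIso fun z => ?_
    rw [← eq_fld (fixed_minus ha' hb') hφ]
    show D.iso (ψ (x (ψ.symm (D.iso.symm (D.iso z))))) = D.iso (ψ (x (ψ.symm z)))
    rw [MulEquiv.symm_apply_apply]
  obtain ⟨A, τ, hA, eA⟩ := exists_semi hgam β⁻¹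
  obtain ⟨g, h, e⟩ := semi_conj hA h₁ (space_minus hm hab).nondeg (space_minus hm hab).five
  refine ⟨σ, g, h, hσ, ?_⟩
  rw [← e, ← eA, ← hβ]
  group

end Cfsg.Agent.H58.OrthoField
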