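import Mathlib
import Cfsg.Agent.H58.OrthoField.Named
import Cfsg.Agent.Orthogonal.AutBridge

/-!
# The elements of order `r` in the coset of a field or graph-field automorphism
-/

set_option autoImplicit false
set_option linter.unusedSectionVars false

namespace Cfsg.Agent.H58.OrthoField

open Matrix Module Cfsg.Agent.Orthogonal Cfsg.Agent.H58.OrthoAut Cfsg.Agent.H58.OrthoKlein Cfsg.Agent.H58.Twist
open QuadraticMap (polar)

variable {F : Type*} [Field F] [Fintype F] {m : ℕ}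

theorem fixedBy_subtype (σ : F ≃+* F) : FixedBy (Descent.fixedField σ).subtype σ := fun a =>
  ⟨fun ha => ⟨⟨a, (Descent.mem_fixedField σ).2 ha⟩, rfl⟩, by
    rintro ⟨x, rfl⟩; exact (Descent.mem_fixedField σ).1 x.2⟩

theorem gamma_odd (hm : 3 ≤ m) (h2 : (2 : F) ≠ 0) : Cfsg.gammaPOmega F ⇑(formOdd F m) = ⊤ :=
  gammaPOmega_eq_top (formOdd_nondeg F m h2) (by rw [finrank_formOdd]; omega) noTriality_formOdd

theorem gamma_plus (hm : 5 ≤ m) : Cfsg.gammaPOmega F ⇑(formPlus F m) = ⊤ :=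
  gammaPOmega_eq_top (formPlus_nondeg F m) (by rw [finrank_formPlus]; omega) (noTriality_formPlus (by omega))

theorem gamma_minus (hm : 3 ≤ m) {a b : F} (hab : BinAniso a b) :
    Cfsg.gammaPOmega F ⇑(formMinus F m a b) = ⊤ :=
  gammaPOmega_eq_top (space_minus (by omega : 2 ≤ m) hab).nondeg (by rw [finrank_formMinus]; omega) (noTriality_formMinus hab)

theorem coset_odd (hm : 3 ≤ m) (h2 : (2 : F) ≠ 0) (x δ : MulAut (Cfsg.POmega F ⇑(formOdd F m)))
    (hx : Cfsg.IsFieldAutClassPOmega ⇑(formOdd F m) x) {r : ℕ} (hr : r.Prime) (hxr : orderOf x = r)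
    (hδ : δ ∈ (simAut (formOdd F m)).range) :
    orderOf (δ * x) = r ↔ Cfsg.IsConjUnder (simAut (formOdd F m)).range x (δ * x) := by
  refine ⟨fun hy => ?_, fun ⟨h, _, e⟩ => by rw [e, orderOf_conj, hxr]⟩
  have hn : 5 ≤ Fintype.card (Unit ⊕ (Fin m ⊕ Fin m)) := by simp; omega
  have hQ := formOdd_nondeg F m h2
  obtain ⟨σ, G, hord, rfl, hN, -⟩ := fieldClass_normal (fun τ => fixed_odd) (gamma_odd hm h2) hQ hn hx hr hxr
  obtain ⟨d, rfl⟩ := hδ
  obtain ⟨G', e', hN', -⟩ := coset_normal fixed_odd hQ hn (ne_refl_of_orderOf hr hord) hr d G hy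
  have hf := fixedBy_subtype σ
  obtain ⟨D, hD⟩ := descends_odd (by omega) h2 hf (semi_of_sim fixed_odd G) (by rw [hord]; exact hN)
  obtain ⟨D', hD'⟩ := descends_odd (by omega) h2 hf (semi_of_sim fixed_odd G') (by rw [hord]; exact hN')
  obtain ⟨P, hP⟩ := exists_conj hf hD hD' (semi_of_sim fixed_odd G) (semi_of_sim fixed_odd G')
  exact ⟨_, ⟨P, rfl⟩, e'.trans hP.symm⟩

theorem coset_plus (hm : 5 ≤ m) (x δ : MulAut (Cfsg.POmega F ⇑(formPlus F m)))
    (hx : Cfsg.IsFieldAutClassPOmega ⇑(formPlus F m) x ∨ Cfsg.IsGraphFieldAutClassPOmegaPlus m x) {r : ℕ}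
    (hr : r.Prime) (hxr : orderOf x = r) (hδ : δ ∈ chiKer (space_plus (K := F) (show 3 ≤ m by omega))) :
    orderOf (δ * x) = r ↔ Cfsg.IsConjUnder (chiKer (space_plus (K := F) (show 3 ≤ m by omega))) x (δ * x) := by
  refine ⟨fun hy => ?_, fun ⟨h, _, e⟩ => by rw [e, orderOf_conj, hxr]⟩
  have hm3 : 3 ≤ m := by omega
  have S := space_plus (K := F) hm3
  have hgam := gamma_plus (F := F) hm
  obtain ⟨σ, G, hord, rfl, hN⟩ : ∃ (σ : F ≃+* F) (G : sim (formPlus F m)), orderOf σ = r ∧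
      x = semiAut G.1 σ (semi_of_sim fixed_plus G) ∧ normProd (gmap σ) G.1 r = 1 := by
    rcases hx with hx | hx
    · obtain ⟨σ, G, h1, h2, h3, -⟩ := fieldClass_normal (fun τ => fixed_plus) hgam S.nondeg S.five hx hr hxr
      exact ⟨σ, G, h1, h2, h3⟩
    · obtain ⟨σ, G, h1, h2, h3, -⟩ := graphFieldClass_normal hm3 hgam hx hr hxr
      exact ⟨σ, G, h1, h2, h3⟩
  obtain ⟨d, hd, rfl⟩ := hδ
  obtain ⟨G', e', hN', hc⟩ := coset_normal fixed_plus S.nondeg S.five (ne_refl_of_orderOf hr hord) hr d G hy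
  have hc' : chi (space_plus hm3) G' = chi (space_plus hm3) G := by
    rw [hc, MonoidHom.mem_ker.1 hd, one_mul]
  have hf := fixedBy_subtype σ
  rcases Int.units_eq_one_or (chi (space_plus hm3) G) with hG | hG
  · obtain ⟨D, hD⟩ := descends_plus_of_chi hm3 hf hr hord hN hG
    obtain ⟨D', hD'⟩ := descends_plus_of_chi hm3 hf hr hord hN' (hc'.trans hG)
    obtain ⟨β, hβ, hβe⟩ := exists_conj_chi (space_plus hm3) hf hD hD' (semi_of_sim fixed_plus G)
      (semi_of_sim fixed_plus G')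
    exact ⟨β, hβ, e'.trans hβe.symm⟩
  · obtain ⟨k, rfl⟩ : ∃ k, m = k + 1 := ⟨m - 1, by omega⟩
    obtain ⟨ζ, hζ⟩ := exists_binAniso (Descent.fixedField σ)
    obtain ⟨D, hD⟩ := (descends_minus_of_chi hm3 hf hr hord hN hG).2 ζ hζ
    obtain ⟨D', hD'⟩ := (descends_minus_of_chi hm3 hf hr hord hN' (hc'.trans hG)).2 ζ hζ
    obtain ⟨β, hβ, hβe⟩ := exists_conj_chi (space_plus hm3) hf hD hD' (semi_of_sim fixed_plus G)
      (semi_of_sim fixed_plus G')
    exact ⟨β, hβ, e'.trans hβe.symm⟩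

theorem minus_normal (hm : 3 ≤ m) {a b : F} (hab : BinAniso a b) {x : MulAut (Cfsg.POmega F ⇑(formMinus F m a b))}
    (hx : Cfsg.IsFieldAutClassPOmegaMinus m x) {r : ℕ} (hr : r.Prime) (hxr : orderOf x = r) :
    ∃ (σ : F ≃+* F) (g : GL ((Fin m ⊕ Fin m) ⊕ Fin 2) F) (h : _), orderOf σ = r ∧
      x = semiAut (Q := formMinus F m a b) g σ h ∧ normProd (gmap σ) g r = 1 := by
  obtain ⟨σ, g, h, hσ, rfl⟩ := minusClass_semi (by omega) hab (gamma_minus hm hab) hx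
  obtain ⟨hord, g', h', he, hN⟩ := exists_normProd_one h (space_minus (by omega : 2 ≤ m) hab).nondeg
    (space_minus (by omega : 2 ≤ m) hab).five hσ hr (pow_eq_one_of_orderOf hxr)
  exact ⟨σ, g', h', hord, he.symm, hN⟩

theorem coset_minus (hm : 3 ≤ m) {a b : F} (hab : BinAniso a b)
    (x δ : MulAut (Cfsg.POmega F ⇑(formMinus F m a b))) (hx : Cfsg.IsFieldAutClassPOmegaMinus m x) {r : ℕ}
    (hr : r.Prime) (hxr : orderOf x = r) (hδ : δ ∈ chiKer (space_minus (show 2 ≤ m by omega) hab)) :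
    orderOf (δ * x) = r ↔ Cfsg.IsConjUnder (chiKer (space_minus (show 2 ≤ m by omega) hab)) x (δ * x) := by
  refine ⟨fun hy => ?_, fun ⟨h, _, e⟩ => by rw [e, orderOf_conj, hxr]⟩
  have hm2 : 2 ≤ m := by omega
  have S := space_minus hm2 hab
  obtain ⟨σ, g, h, hord, rfl, hN⟩ := minus_normal hm hab hx hr hxr
  obtain ⟨d, hd, rfl⟩ := hδ
  have hh := semi_mul (semi_sim d.2) h
  have eσ : σ.trans (RingEquiv.refl F) = σ := RingEquiv.ext fun _ => rfl
  have hh' : Cfsg.IsSemisimilarityPair ⇑(formMinus F m a b)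
      (d.1 * GeneralLinearGroup.map ((RingEquiv.refl F : F ≃+* F) : F →+* F) g) σ := by rwa [eσ] at hh
  have ey : simAut (formMinus F m a b) d * semiAut g σ h = semiAut _ σ hh' := by
    rw [simAut_eq, semiAut_mul]
    exact semi_congr _ _ rfl eσ
  rw [ey] at hy ⊢
  obtain ⟨-, g', h', he', hN'⟩ := exists_normProd_one hh' S.nondeg S.five (ne_refl_of_orderOf hr hord) hr
    (pow_eq_one_of_orderOf hy)
  rw [← he']
  have hf := fixedBy_subtype σ
  obtain ⟨-, ζ, hζ, D, hD⟩ := descends_minus hm2 hab hf hr hord h (by rw [hord]; exact hN)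
  obtain ⟨-, ζ', hζ', D', hD'⟩ := descends_minus hm2 hab hf hr hord h' (by rw [hord]; exact hN')
  obtain ⟨D₀⟩ := exists_minusDatum m hζ' hζ
  obtain ⟨D'', hD''⟩ := hD'.precomp D₀
  obtain ⟨β, hβ, hβe⟩ := exists_conj_chi S hf hD hD'' h h'
  exact ⟨β, hβ, hβe.symm⟩

end Cfsg.Agent.H58.OrthoField
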