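import Mathlib
import Cfsg.Agent.H58.OrthoField.Types
import Cfsg.Agent.H58.OrthoWitness

/-!
# The classes into which the class of a descended semilinear automorphism splits, even dimension
-/

set_option autoImplicit false
set_option linter.unusedSectionVars false

namespace Cfsg.Agent.H58.OrthoField

open Matrix Module Cfsg.Agent.Orthogonal Cfsg.Agent.H58.OrthoAut Cfsg.Agent.H58.OrthoKlein Cfsg.Agent.H58.Twist
  Cfsg.Agent.H58.OrthoOuter
open QuadraticMap (polar)
open Cfsg.Agent.H52.OrthoRank (negSign)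

theorem count_eq_one {X : Type*} [Group X] {H K : Subgroup X} [K.Normal] (hKH : K ≤ H) {y : X}
    (h : H ≤ K ⊔ (H ⊓ Subgroup.centralizer {y})) : Cfsg.splitClassCount H K y = 1 := by
  rw [splitClassCount_eq_relIndex hKH y, Subgroup.relIndex_eq_one]
  exact h

section Field

variable {F : Type*} [Field F] [Finite F] {F₀ : Type*} [Field F₀] [Finite F₀] {e : F₀ →+* F} {σ : F ≃+* F}

theorem sqSign_map_odd (hf : FixedBy e σ) (hodd : Odd (orderOf σ)) (h2 : (2 : F) ≠ 0) (a : F₀) :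
    sqSign (e a) = sqSign a := by
  by_cases ha : IsSquare a
  · rw [sqSign_of_isSquare ha, sqSign_of_isSquare (ha.map e)]
  rw [sqSign_of_not_isSquare ha, sqSign_of_not_isSquare]
  rintro ⟨b, hb⟩
  have hσb : σ b * σ b = b * b := by rw [← _root_.map_mul, ← hb, hf.apply]
  rcases mul_self_eq_mul_self_iff.1 hσb with h | h
  · obtain ⟨x, rfl⟩ := (hf b).1 h
    exact ha ⟨x, e.injective (by rw [hb, _root_.map_mul])⟩
  · have hpow : ∀ j : ℕ, (σ ^ j) b = (-1) ^ j * b := by
      intro j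
      induction j with
      | zero => simp
      | succ j ih =>
        rw [pow_succ']
        show σ ((σ ^ j) b) = _
        rw [ih, _root_.map_mul, map_pow, map_neg, map_one, h, pow_succ']
        ring
    have h1 := hpow (orderOf σ)
    rw [pow_orderOf_eq_one, hodd.neg_one_pow] at h1
    change b = -1 * b at h1
    have hb0 : b = 0 := (mul_eq_zero.1 (show (2 : F) * b = 0 by linear_combination h1)).resolve_left h2
    subst hb0
    exact ha ⟨0, e.injective (by rw [hb, mul_zero, mul_zero, map_zero])⟩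

theorem isSquare_map_two (hf : FixedBy e σ) (hord : orderOf σ = 2) (a : F₀) : IsSquare (e a) := by
  by_cases ha : IsSquare a
  · exact ha.map e
  · have hab : BinAniso (0 : F₀) (-a) := binAniso_of_no_root fun z hz => ha ⟨z, by linear_combination -hz⟩
    obtain ⟨z, hz⟩ := exists_root_of_two hf hord hab
    rw [map_zero, map_neg] at hz
    exact ⟨z, by linear_combination -hz⟩

end Field

variable {F : Type*} [Field F] [Fintype F] {ι : Type} [Fintype ι] [DecidableEq ι] {Q : QuadraticForm F (ι → F)}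
  {m : ℕ}

theorem chi_eq_ds (H : Setup Q m) (S : Space Q m) (g : sim Q) : chi S g = H.ds g := chi_odd S H.two g

theorem setup_chiKer (H : Setup Q m) (S : Space Q m) : chiKer S = H.ds.ker.map (simAut Q) := by
  rw [chiKer]
  congr 1
  ext g
  rw [MonoidHom.mem_ker, MonoidHom.mem_ker, chi_eq_ds H S]

theorem simAut_mem_inn (H : Setup Q m) {s : Cfsg.isometryGroup F ⇑Q} (hd : H.dt s = 1) (ht : H.th s = 1) :
    simAut Q (toSim Q s) ∈ Cfsg.Inn (Cfsg.POmega F ⇑Q) := (Setup.inn_iff H hd).2 (Or.inl ht)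

/-- Two witnesses generate the inner-diagonal group. -/
theorem chiKer_le_of_witness (H : Setup Q m) (S : Space Q m) (P : Subgroup (MulAut (Cfsg.POmega F ⇑Q)))
    (hI : Cfsg.Inn (Cfsg.POmega F ⇑Q) ≤ P) {g : sim Q} (hg : H.sg g = -1) (hgd : H.ds g = 1)
    (hgP : simAut Q g ∈ P) {t : Cfsg.isometryGroup F ⇑Q} (htd : H.dt t = 1) (htt : H.th t = -1)
    (htP : simAut Q (toSim Q t) ∈ P) : chiKer S ≤ P := by
  have h1 : ∀ z : sim Q, H.sg z = 1 → H.ds z = 1 → simAut Q z ∈ P := by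
    intro z a b
    obtain ⟨s, hs, e⟩ := H.exists_SO a b
    rw [e]
    rcases Int.units_eq_one_or (H.th s) with h | h
    · exact hI (simAut_mem_inn H hs h)
    · have h2 := hI (simAut_mem_inn H (s := s * t) (by rw [map_mul, hs, htd, one_mul])
        (by rw [map_mul, h, htt]; rfl))
      rw [map_mul, map_mul] at h2
      exact (Subgroup.mul_mem_cancel_right _ htP).1 h2
  rw [setup_chiKer H S]
  rintro _ ⟨y, hy, rfl⟩
  rw [SetLike.mem_coe, MonoidHom.mem_ker] at hy
  rcases Int.units_eq_one_or (H.sg y) with a | a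
  · exact h1 y a hy
  · have h2 := h1 (g * y) (by rw [map_mul, hg, a]; rfl) (by rw [map_mul, hgd, hy, one_mul])
    rw [map_mul] at h2
    exact (Subgroup.mul_mem_cancel_left _ hgP).1 h2

theorem th_refl_pair (H : Setup Q m) {u w : ι → F} (hu : Q u ≠ 0) (hw : Q w ≠ 0) :
    H.dt (reflIso Q u * reflIso Q w) = 1 ∧ H.th (reflIso Q u * reflIso Q w) = sqSign (Q u * Q w) := by
  constructor
  · show detSign Q H.nondeg H.two (toO Q _) = 1
    rw [map_mul, reflIso, reflIso, MulEquiv.apply_symm_apply, MulEquiv.apply_symm_apply, map_mul,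
      detSign_rO H.nondeg H.two hu, detSign_rO H.nondeg H.two hw]
    rfl
  · show spinor Q H.nondeg H.two (toO Q _) = _
    rw [map_mul, reflIso, reflIso, MulEquiv.apply_symm_apply, MulEquiv.apply_symm_apply, map_mul,
      spinor_rO H.nondeg H.two hu, spinor_rO H.nondeg H.two hw, sqSign_mul H.two hu hw]

theorem relIndex_chiKer_pso (H : Setup Q m) (S : Space Q m) {g : sim Q} (hg : H.sg g = -1) (hgd : H.ds g = 1) :
    Cfsg.psoAut F ⇑Q ≤ chiKer S ∧ (Cfsg.psoAut F ⇑Q).relIndex (chiKer S) = 2 := by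
  have hsg : ∀ z : sim Q, H.ds z = 1 → (simAut Q z ∈ Cfsg.psoAut F ⇑Q ↔ H.sg z = 1) := by
    intro z hz
    constructor
    · intro hm
      obtain ⟨s, -, e⟩ := H.psoAut_mem.1 hm
      have hk : simAut Q (z * (toSim Q s)⁻¹) = 1 := by rw [map_mul, map_inv, e, mul_inv_cancel]
      obtain ⟨c, hc⟩ := exists_scalar_of_simAut_eq_one H.nondeg H.five hk
      have hmu : mu (z * (toSim Q s)⁻¹) = c ^ 2 := mu_unique H.value fun v => by
        rw [hc, GeneralLinearGroup.coe_scalar, Units.val_pow_eq_pow_val, Matrix.scalar_apply,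
          ← Matrix.smul_one_eq_diagonal, smul_mulVec, one_mulVec, qmap_smul]
      have h1 : H.sg (z * (toSim Q s)⁻¹) = 1 := by
        show sqSign _ = 1
        rw [hmu, Units.val_pow_eq_pow_val, pow_two]
        exact sqSign_of_isSquare ⟨_, rfl⟩
      rwa [map_mul, map_inv, H.sg_toSim, inv_one, mul_one] at h1
    · intro a
      obtain ⟨s, hs, e⟩ := H.exists_SO a hz
      exact H.psoAut_mem.2 ⟨s, hs, e.symm⟩
  have hle : Cfsg.psoAut F ⇑Q ≤ chiKer S := by
    intro x hx
    obtain ⟨s, hs, rfl⟩ := H.psoAut_mem.1 hx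
    exact ⟨toSim Q s, MonoidHom.mem_ker.2 (by rw [chi_eq_ds H S, H.ds_toSim, hs]), rfl⟩
  refine ⟨hle, ?_⟩
  rw [Subgroup.relIndex, Subgroup.index_eq_two_iff]
  refine ⟨⟨simAut Q g, g, MonoidHom.mem_ker.2 (by rw [chi_eq_ds H S, hgd]), rfl⟩, fun b => ?_⟩
  obtain ⟨_, z, hz, rfl⟩ := b
  rw [SetLike.mem_coe, MonoidHom.mem_ker, chi_eq_ds H S] at hz
  rw [Subgroup.mem_subgroupOf, Subgroup.mem_subgroupOf, Subgroup.coe_mul]
  show Xor (simAut Q z * simAut Q g ∈ _) (simAut Q z ∈ _)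
  rw [← map_mul, hsg _ (by rw [map_mul, hz, hgd, one_mul]), hsg _ hz, map_mul, hg]
  rcases Int.units_eq_one_or (H.sg z) with h' | h' <;> rw [h'] <;> simp [Xor]

/-! ### Images from the subfield -/

section Sub

variable {F₀ : Type*} [Field F₀] [Fintype F₀] {κ : Type} [Fintype κ] [DecidableEq κ] {e : F₀ →+* F} {σ : F ≃+* F}
  {Q₁ : QuadraticForm F₀ (κ → F₀)} {g : GL ι F} {D : Datum e Q₁ Q}

theorem sg_psi (H : Setup Q m) (D : Datum e Q₁ Q) (y : sim Q₁) : H.sg (D.psi y) = sqSign (e (mu y : F₀)) := by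
  show sqSign (mu (D.psi y) : F) = _
  rw [D.mu_psi H.value]
  rfl

theorem setup_sub (H : Setup Q m) (D : Datum e Q₁ Q) : Setup Q₁ m :=
  ⟨D.nondeg H.nondeg, fun h => H.two (by rw [← map_ofNat e, h, map_zero]), D.card_eq.trans H.card,
    D.card_eq ▸ H.five⟩

/-- In odd order the classes do not split. -/
theorem count_odd_order (H : Setup Q m) (S : Space Q m) (hf : FixedBy e σ) (hD : D.Descends g σ)
    (h : Cfsg.IsSemisimilarityPair ⇑Q g σ) (hodd : Odd (orderOf σ)) {y : sim Q₁}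
    (hy : (setup_sub H D).sg y = -1) (hyd : (setup_sub H D).ds y = 1) :
    Cfsg.splitClassCount (chiKer S) (Cfsg.Inn (Cfsg.POmega F ⇑Q)) (semiAut g σ h) = 1 := by
  refine count_eq_one (inn_le_chiKer S) ?_
  set P := Cfsg.Inn (Cfsg.POmega F ⇑Q) ⊔ (chiKer S ⊓ Subgroup.centralizer {semiAut g σ h})
  have hP : ∀ z : sim Q₁, chi (S.transport' D) z = 1 → simAut Q (D.psi z) ∈ P := fun z hz => by
    refine Subgroup.mem_sup_right ⟨⟨D.psi z, (chi_natural (S.transport' D) S D z).trans hz, rfl⟩,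
      Subgroup.mem_centralizer_singleton_iff.2 ?_⟩
    exact (mul_inv_eq_iff_eq_mul.1 (hD.semiAut_psi hf h z)).symm
  have hy1 : chi (S.transport' D) y = 1 := (chi_eq_ds (setup_sub H D) _ y).trans hyd
  obtain ⟨t₀, ht₀, ht₁⟩ := (setup_sub H D).exists_t
  have hn : 2 ≤ finrank F₀ (κ → F₀) := by
    rw [finrank_fintype_fun_eq_card]; have := (setup_sub H D).five; omega
  obtain ⟨ν, hν⟩ := exists_not_isSquare (setup_sub H D).two
  obtain ⟨u, hu⟩ := (setup_sub H D).nondeg.exists_value hn 1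
  obtain ⟨w, hw⟩ := (setup_sub H D).nondeg.exists_value hn ν
  have hν0 : ν ≠ 0 := fun h => hν (h ▸ IsSquare.zero)
  have hu0 : Q₁ u ≠ 0 := by rw [hu]; exact one_ne_zero
  have hw0 : Q₁ w ≠ 0 := by rw [hw]; exact hν0
  have hEu : Q (D.E (e ∘ u)) = D.k * 1 := by rw [D.spec, hu, map_one]
  have hEw : Q (D.E (e ∘ w)) = D.k * e ν := by rw [D.spec, hw]
  have hEu0 : Q (D.E (e ∘ u)) ≠ 0 := by rw [hEu, mul_one]; exact D.k_ne
  have hEw0 : Q (D.E (e ∘ w)) ≠ 0 := by rw [hEw]; exact mul_ne_zero D.k_ne ((map_ne_zero e).2 hν0)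
  obtain ⟨hd, ht⟩ := th_refl_pair H hEu0 hEw0
  refine chiKer_le_of_witness H S P le_sup_left (g := D.psi y) ?_ ?_ (hP y hy1) hd ?_ ?_
  · rw [sg_psi, sqSign_map_odd hf hodd H.two]; exact hy
  · rw [← chi_eq_ds H S]; exact (chi_natural (S.transport' D) S D y).trans hy1
  · rw [ht, hEu, hEw, sqSign_mul H.two (by simpa using D.k_ne) (mul_ne_zero D.k_ne ((map_ne_zero e).2 hν0)),
      sqSign_mul H.two D.k_ne ((map_ne_zero e).2 hν0), mul_one, ← mul_assoc, Int.units_mul_self, one_mul,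
      sqSign_map_odd hf hodd H.two, sqSign_of_not_isSquare hν]
  · have := hP (reflSim Q₁ u * reflSim Q₁ w) (by
      rw [map_mul, chi_reflSim _ hu0, chi_reflSim _ hw0]; rfl)
    rwa [map_mul, D.psi_reflSim hu0, D.psi_reflSim hw0,
      show reflSim Q (D.E (e ∘ u)) * reflSim Q (D.E (e ∘ w))
        = toSim Q (reflIso Q (D.E (e ∘ u)) * reflIso Q (D.E (e ∘ w))) from rfl] at this

/-- In order two the special isometries over the subfield have trivial spinor norm. -/
theorem th_psiI (H : Setup Q m) (hf : FixedBy e σ) (hord : orderOf σ = 2) (D : Datum e Q₁ Q)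
    (s : Cfsg.isometryGroup F₀ ⇑Q₁) (hs : (setup_sub H D).dt s = 1) : H.dt (D.psiI s) = 1 ∧ H.th (D.psiI s) = 1 := by
  have H1 := setup_sub H D
  refine ⟨(H.dt_eq_one_iff _).2 ?_, ?_⟩
  · rw [Datum.psiI_coe, D.det_psiGL, ((setup_sub H D).dt_eq_one_iff s).1 hs, map_one]
  let c : O Q₁ →* ℤˣ := (H.th.comp D.psiI).comp (toO Q₁).symm.toMonoidHom
  let d : O Q₁ →* ℤˣ := if sqSign D.k = 1 then 1 else detSign Q₁ H1.nondeg H1.two
  have hcd : c = d := by
    refine hom_ext_rO H1.nondeg H1.two fun v hv => ?_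
    have hEv : Q (D.E (e ∘ v)) ≠ 0 := by
      rw [D.spec]; exact mul_ne_zero D.k_ne ((map_ne_zero e).2 hv)
    have hpsi : D.psiI ((toO Q₁).symm (rO Q₁ v)) = reflIso Q (D.E (e ∘ v)) :=
      Subtype.ext (congrArg (fun z : sim Q => z.1) (D.psi_reflSim hv))
    show H.th (D.psiI ((toO Q₁).symm (rO Q₁ v))) = d (rO Q₁ v)
    rw [hpsi]
    show spinor Q H.nondeg H.two (toO Q (reflIso Q _)) = _
    rw [reflIso, MulEquiv.apply_symm_apply, spinor_rO H.nondeg H.two hEv, D.spec,
      sqSign_mul H.two D.k_ne ((map_ne_zero e).2 hv), sqSign_of_isSquare (isSquare_map_two hf hord _), mul_one]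
    rcases Int.units_eq_one_or (sqSign D.k) with hk | hk
    · simp only [d, hk, if_true, MonoidHom.one_apply]
    · simp only [d, hk, show ((-1 : ℤˣ) = 1) ↔ False from by decide, if_false, detSign_rO H1.nondeg H1.two hv]
  have h := DFunLike.congr_fun hcd (toO Q₁ s)
  simp only [c, MonoidHom.comp_apply, MulEquiv.coe_toMonoidHom, MulEquiv.symm_apply_apply] at h
  rw [h]
  by_cases hk : sqSign D.k = 1
  · simp only [d, hk, if_true, MonoidHom.one_apply]
  · simp only [d, hk, if_false]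
    exact hs

theorem psi_inn_of_sg (H : Setup Q m) (hf : FixedBy e σ) (hord : orderOf σ = 2) (D : Datum e Q₁ Q) {z : sim Q₁}
    (h1 : (setup_sub H D).sg z = 1) (h2 : (setup_sub H D).ds z = 1) :
    simAut Q (D.psi z) ∈ Cfsg.Inn (Cfsg.POmega F ⇑Q) := by
  obtain ⟨s, hs, e1⟩ := (setup_sub H D).exists_SO h1 h2
  have e2 : simAut Q₁ (z * (toSim Q₁ s)⁻¹) = 1 := by rw [map_mul, map_inv, e1, mul_inv_cancel]
  have e3 := (Datum.simAut_psi_eq_one_iff H.nondeg H.five D _).2 e2
  rw [map_mul, map_inv, map_mul, map_inv, mul_inv_eq_one] at e3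
  rw [e3, show D.psi (toSim Q₁ s) = toSim Q (D.psiI s) from rfl]
  obtain ⟨a, b⟩ := th_psiI H hf hord D s hs
  exact simAut_mem_inn H a b

/-- In order two the number of classes is two or four by one spinor norm. -/
theorem count_two (H : Setup Q m) (S : Space Q m) (hneg : negSign Q H.nondeg H.two = 1) (hf : FixedBy e σ)
    (hord : orderOf σ = 2) (hD : D.Descends g σ) (h : Cfsg.IsSemisimilarityPair ⇑Q g σ)
    (hg : normProd (gmap σ) g (orderOf σ) = 1) {γ : sim Q} (hγ : H.sg γ = -1) (hγd : H.ds γ = 1)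
    {y : sim Q₁} (hy : (setup_sub H D).sg y = -1) (hyd : (setup_sub H D).ds y = 1)
    {s : Cfsg.isometryGroup F ⇑Q} (hs : H.dt s = 1) (hys : simAut Q (D.psi y) = simAut Q (toSim Q s)) :
    (H.th s = -1 → Cfsg.splitClassCount (chiKer S) (Cfsg.Inn (Cfsg.POmega F ⇑Q)) (semiAut g σ h) = 2) ∧
      (H.th s = 1 → Cfsg.splitClassCount (chiKer S) (Cfsg.Inn (Cfsg.POmega F ⇑Q)) (semiAut g σ h) = 4) := by
  set I := Cfsg.Inn (Cfsg.POmega F ⇑Q) with hI
  set C := chiKer S ⊓ Subgroup.centralizer {semiAut g σ h} with hCdef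
  obtain ⟨hpsoH, hpso2⟩ := relIndex_chiKer_pso H S hγ hγd
  have hIpso : I ≤ Cfsg.psoAut F ⇑Q := H.inn_le_pso
  have hI2 : I.relIndex (Cfsg.psoAut F ⇑Q) = 2 := (H.relIndex_pso).2 hneg
  have hy1 : chi (S.transport' D) y = 1 := (chi_eq_ds (setup_sub H D) _ y).trans hyd
  have hyC : simAut Q (toSim Q s) ∈ C := by
    rw [← hys]
    exact ⟨⟨D.psi y, (chi_natural (S.transport' D) S D y).trans hy1, rfl⟩,
      Subgroup.mem_centralizer_singleton_iff.2 (mul_inv_eq_iff_eq_mul.1 (hD.semiAut_psi hf h y)).symm⟩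
  have hCgen : ∀ P : Subgroup (MulAut (Cfsg.POmega F ⇑Q)), I ≤ P → simAut Q (toSim Q s) ∈ P → C ≤ P := by
    intro P hP hsP β hβ
    have hβ' : β ∈ ((chi S).ker.comap D.psi).map ((simAut Q).comp D.psi) := by
      rw [← centralizer_eq hf hD H.nondeg H.five h hg (chi S).ker
        (fun c => MonoidHom.mem_ker.2 (chi_scalar S c))]
      exact hβ
    obtain ⟨z, hz, rfl⟩ := hβ'
    have hz1 : (setup_sub H D).ds z = 1 := by
      rw [← chi_eq_ds (setup_sub H D) (S.transport' D), ← chi_natural (S.transport' D) S D]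
      exact hz
    rcases Int.units_eq_one_or ((setup_sub H D).sg z) with a | a
    · exact hP (psi_inn_of_sg H hf hord D a hz1)
    · have h3 := hP (psi_inn_of_sg H hf hord D (z := y * z) (by rw [map_mul, hy, a]; rfl)
        (by rw [map_mul, hyd, hz1, one_mul]))
      rw [map_mul, map_mul, hys] at h3
      exact (Subgroup.mul_mem_cancel_left _ hsP).1 h3
  rw [splitClassCount_eq_relIndex (inn_le_chiKer S)]
  constructor
  · intro ht
    suffices hM : I ⊔ C = Cfsg.psoAut F ⇑Q by rw [hM, hpso2]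
    refine le_antisymm (sup_le hIpso (hCgen _ hIpso (H.psoAut_mem.2 ⟨s, hs, rfl⟩))) fun x hx => ?_
    obtain ⟨w, hw, rfl⟩ := H.psoAut_mem.1 hx
    rcases Int.units_eq_one_or (H.th w) with hw' | hw'
    · exact Subgroup.mem_sup_left (simAut_mem_inn H hw hw')
    · have h3 : simAut Q (toSim Q (w * s)) ∈ I ⊔ C :=
        Subgroup.mem_sup_left (simAut_mem_inn H (by rw [map_mul, hw, hs, one_mul]) (by rw [map_mul, hw', ht]; rfl))
      rw [map_mul, map_mul] at h3
      exact (Subgroup.mul_mem_cancel_right _ (Subgroup.mem_sup_right hyC)).1 h3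
  · intro ht
    rw [sup_eq_left.2 (hCgen I le_rfl (simAut_mem_inn H hs ht)), ← Subgroup.relIndex_mul_relIndex _ _ _ hIpso hpsoH,
      hI2, hpso2]

end Sub

end Cfsg.Agent.H58.OrthoField
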