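import Mathlib
import Cfsg.Agent.H58.OrthoField.Split
import Cfsg.Agent.H58.OrthoField.Plus

/-!
# Diagonal similitudes of the plus form and their spinor norms
-/

set_option autoImplicit false
set_option linter.unusedSectionVars false

namespace Cfsg.Agent.H58.OrthoField

open Matrix Module Cfsg.Agent.Orthogonal Cfsg.Agent.H58.OrthoAut Cfsg.Agent.H58.OrthoKlein Cfsg.Agent.H58.Twist
  Cfsg.Agent.H58.OrthoOuter
open QuadraticMap (polar)
open Cfsg.Agent.H52.OrthoRank (negSign)

variable {F : Type*} [Field F] [Fintype F] {m : ℕ}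

/-- A diagonal matrix. -/
noncomputable def diagGL (a b : Fin m → Fˣ) : GL (Fin m ⊕ Fin m) F :=
  GeneralLinearGroup.mkOfDetNeZero (Matrix.diagonal (Sum.elim (fun i => (a i : F)) fun i => (b i : F))) (by
    rw [det_diagonal]
    exact Finset.prod_ne_zero_iff.2 fun i _ => by cases i <;> simp)

theorem diagGL_mulVec (a b : Fin m → Fˣ) (v : Fin m ⊕ Fin m → F) (j : Fin m ⊕ Fin m) :
    ((diagGL a b : GL (Fin m ⊕ Fin m) F) : Matrix (Fin m ⊕ Fin m) (Fin m ⊕ Fin m) F) *ᵥ v = fun j =>
      Sum.elim (fun i => (a i : F)) (fun i => (b i : F)) j * v j :=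
  funext fun j => Matrix.mulVec_diagonal _ _ j

theorem diagGL_spec {a b : Fin m → Fˣ} {μ : Fˣ} (h : ∀ i, a i * b i = μ) (v : Fin m ⊕ Fin m → F) :
    formPlus F m (((diagGL a b : GL (Fin m ⊕ Fin m) F) : Matrix (Fin m ⊕ Fin m) (Fin m ⊕ Fin m) F) *ᵥ v) = (μ : F) * formPlus F m v := by
  simp only [formPlus_coe, Cfsg.quadFormPlus, Finset.mul_sum]
  refine Finset.sum_congr rfl fun i _ => ?_
  show (_ *ᵥ v) (Sum.inl i) * (_ *ᵥ v) (Sum.inr i) = _
  rw [show ((diagGL a b : GL (Fin m ⊕ Fin m) F) : Matrix (Fin m ⊕ Fin m) (Fin m ⊕ Fin m) F) = Matrix.diagonal (Sum.elim (fun i => (a i : F))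
    fun i => (b i : F)) from rfl, Matrix.mulVec_diagonal, Matrix.mulVec_diagonal, ← h i, Units.val_mul]
  simp only [Sum.elim_inl, Sum.elim_inr]
  ring

/-- A diagonal similitude. -/
noncomputable def diagSim {a b : Fin m → Fˣ} {μ : Fˣ} (h : ∀ i, a i * b i = μ) : sim (formPlus F m) :=
  ⟨diagGL a b, μ, diagGL_spec h⟩

theorem det_diagSim {a b : Fin m → Fˣ} {μ : Fˣ} (h : ∀ i, a i * b i = μ) :
    (((diagSim h : sim (formPlus F m)) : GL (Fin m ⊕ Fin m) F) : Matrix (Fin m ⊕ Fin m) (Fin m ⊕ Fin m) F).det = (μ : F) ^ m := by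
  show (Matrix.diagonal _).det = _
  rw [det_diagonal, Fintype.prod_sum_type, ← Finset.prod_mul_distrib]
  simp only [Sum.elim_inl, Sum.elim_inr, ← Units.val_mul, h, Finset.prod_const, Finset.card_univ, Fintype.card_fin]

theorem mu_diagSim (hm : 0 < m) {a b : Fin m → Fˣ} {μ : Fˣ} (h : ∀ i, a i * b i = μ) :
    mu (diagSim h : sim (formPlus F m)) = μ :=
  mu_unique ⟨_, by rw [formPlus_unitVec hm]; exact one_ne_zero⟩ (diagGL_spec h)

theorem ds_diagSim (H : Setup (formPlus F m) m) (hm : 0 < m) {a b : Fin m → Fˣ} {μ : Fˣ}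
    (h : ∀ i, a i * b i = μ) : H.ds (diagSim h) = 1 := by
  rw [H.ds_eq_one_iff, det_diagSim h, mu_diagSim hm h]

theorem sg_diagSim (H : Setup (formPlus F m) m) (hm : 0 < m) {a b : Fin m → Fˣ} {μ : Fˣ}
    (h : ∀ i, a i * b i = μ) : H.sg (diagSim h) = sqSign (μ : F) := by
  show sqSign (mu (diagSim h) : F) = _
  rw [mu_diagSim hm h]

/-- The split torus. -/
noncomputable def torus : (Fin m → Fˣ) →* Cfsg.isometryGroup F ⇑(formPlus F m) :=
  MonoidHom.mk' (fun t => ⟨diagGL t t⁻¹, (mem_isometryGroup_iff _ _).2 fun v => by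
      rw [diagGL_spec (a := t) (b := t⁻¹) (μ := 1) (fun i => mul_inv_cancel (t i)), Units.val_one, one_mul]⟩)
    fun t u => Subtype.ext (Units.ext (by
      show Matrix.diagonal _ = Matrix.diagonal _ * Matrix.diagonal _
      rw [diagonal_mul_diagonal]
      congr 1
      funext j; cases j <;> simp [mul_comm]))

theorem dt_torus (H : Setup (formPlus F m) m) (t : Fin m → Fˣ) : H.dt (torus t) = 1 := by
  rw [H.dt_eq_one_iff]
  show (Matrix.diagonal _).det = 1
  rw [det_diagonal, Fintype.prod_sum_type, ← Finset.prod_mul_distrib]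
  simp

theorem torus_single (i : Fin m) (t : Fˣ) :
    torus (Pi.mulSingle i t) = reflIso (formPlus F m) (Pi.single (Sum.inl i) 1 + Pi.single (Sum.inr i) 1) *
      reflIso (formPlus F m) (Pi.single (Sum.inl i) 1 + Pi.single (Sum.inr i) (t : F)) := by
  refine (toO (formPlus F m)).injective ?_
  rw [map_mul, reflIso, reflIso, MulEquiv.apply_symm_apply, MulEquiv.apply_symm_apply]
  refine O.ext_app fun y => ?_
  have hQu : formPlus F m (Pi.single (Sum.inl i) 1 + Pi.single (Sum.inr i) 1) = 1 := by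
    simp [formPlus_coe, Cfsg.quadFormPlus, Pi.single_apply]
  have hQw : formPlus F m (Pi.single (Sum.inl i) 1 + Pi.single (Sum.inr i) (t : F)) = t := by
    simp [formPlus_coe, Cfsg.quadFormPlus, Pi.single_apply]
  have hp : ∀ (s : F) (z : Fin m ⊕ Fin m → F),
      polar (formPlus F m) (Pi.single (Sum.inl i) 1 + Pi.single (Sum.inr i) s) z
        = z (Sum.inr i) + s * z (Sum.inl i) := by
    intro s z
    simp [polar_formPlus, Pi.single_apply, Finset.sum_add_distrib]
    ring
  rw [Subgroup.coe_mul, mul_app, rO_app, rO_app, hQu, hQw, hp, hp, toO_apply]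
  show ((diagGL (Pi.mulSingle i t) (Pi.mulSingle i t)⁻¹ : GL (Fin m ⊕ Fin m) F) : Matrix (Fin m ⊕ Fin m) (Fin m ⊕ Fin m) F) *ᵥ y = _
  rw [diagGL_mulVec _ _ _ (Sum.inl i)]
  funext j
  have ht := t.ne_zero
  rcases j with j | j <;> rcases eq_or_ne j i with rfl | hj
  · simp; field_simp; ring
  · simp [hj]
  · simp; field_simp; ring
  · simp [hj]

theorem th_torus (H : Setup (formPlus F m) m) (t : Fin m → Fˣ) : H.th (torus t) = ∏ i, sqSign (t i : F) := by
  let d : (Fin m → Fˣ) →* ℤˣ := MonoidHom.mk' (fun t => ∏ i, sqSign (t i : F)) fun t u => by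
    rw [← Finset.prod_mul_distrib]
    exact Finset.prod_congr rfl fun i _ => by
      rw [Pi.mul_apply, Units.val_mul, sqSign_mul H.two (t i).ne_zero (u i).ne_zero]
  suffices h : H.th.comp torus = d from DFunLike.congr_fun h t
  refine MonoidHom.functions_ext _ _ _ fun i u => ?_
  show H.th (torus (Pi.mulSingle i u)) = ∏ j, sqSign ((Pi.mulSingle i u : Fin m → Fˣ) j : F)
  rw [torus_single, (th_refl_pair H ?_ ?_).2]
  · rw [show formPlus F m (Pi.single (Sum.inl i) 1 + Pi.single (Sum.inr i) 1) = 1 by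
        simp [formPlus_coe, Cfsg.quadFormPlus, Pi.single_apply],
      show formPlus F m (Pi.single (Sum.inl i) 1 + Pi.single (Sum.inr i) (u : F)) = u by
        simp [formPlus_coe, Cfsg.quadFormPlus, Pi.single_apply], one_mul]
    rw [Finset.prod_eq_single i]
    · simp
    · intro j _ hj; simp [hj, sqSign_of_isSquare (IsSquare.one (α := F))]
    · simp
  · simp [formPlus_coe, Cfsg.quadFormPlus, Pi.single_apply]
  · simp [formPlus_coe, Cfsg.quadFormPlus, Pi.single_apply]

/-- A diagonal similitude of square multiplier is a scalar times a torus element. -/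
theorem diagSim_eq (c : Fˣ) {a b : Fin m → Fˣ} (h : ∀ i, a i * b i = c ^ 2) :
    (diagSim h : sim (formPlus F m)) = ⟨GeneralLinearGroup.scalar _ c, scalar_mem_sim c⟩ *
      toSim (formPlus F m) (torus fun i => c⁻¹ * a i) := by
  refine Subtype.ext (Units.ext ?_)
  rw [Subgroup.coe_mul, Units.val_mul, GeneralLinearGroup.coe_scalar, Matrix.scalar_apply]
  show Matrix.diagonal _ = Matrix.diagonal _ * Matrix.diagonal _
  rw [diagonal_mul_diagonal]
  congr 1
  funext j
  rcases j with i | i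
  · simp
  · have hi := congrArg Units.val (h i)
    simp only [Units.val_mul, Units.val_pow_eq_pow_val] at hi
    simp
    field_simp
    linear_combination hi

/-! ### The two reference elements -/

variable {F₀ : Type*} [Field F₀] [Fintype F₀] {e : F₀ →+* F} {σ : F ≃+* F}

theorem card_sq (hf : FixedBy e σ) (hord : orderOf σ = 2) : Fintype.card F = Fintype.card F₀ ^ 2 := by
  rw [Descent.card_eq_pow σ, hord, card_fixedField hf, Nat.card_eq_fintype_card]

/-- The square root in `F` of a non-square of the subfield. -/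
theorem sqSign_root (hf : FixedBy e σ) (hord : orderOf σ = 2) (h2 : (2 : F) ≠ 0) {ν : F₀} (hν : ¬ IsSquare ν)
    {c : F} (hc : c * c = e ν) : sqSign c = if Fintype.card F₀ % 4 = 1 then -1 else 1 := by
  have h20 : (2 : F₀) ≠ 0 := fun h => h2 (by rw [← map_ofNat e, h, map_zero])
  have hν0 : ν ≠ 0 := fun h => hν (h ▸ IsSquare.zero)
  have hc0 : c ≠ 0 := fun h => (map_ne_zero e).2 hν0 (by rw [← hc, h, mul_zero])
  have hch0 : ringChar F₀ ≠ 2 := fun h => h20 (by
    have := ringChar.Nat.cast_ringChar (R := F₀)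
    rw [h] at this; exact_mod_cast this)
  have hch : ringChar F ≠ 2 := fun h => h2 (by
    have := ringChar.Nat.cast_ringChar (R := F)
    rw [h] at this; exact_mod_cast this)
  have hneg : ν ^ (Fintype.card F₀ / 2) = -1 :=
    (FiniteField.pow_dichotomy hch0 hν0).resolve_left fun h => hν ((FiniteField.isSquare_iff hch0 hν0).2 h)
  set q := Fintype.card F₀
  have hq : q % 2 = 1 := FiniteField.odd_card_of_char_ne_two hch0
  obtain ⟨k, hk⟩ : ∃ k, q = 2 * k + 1 := ⟨q / 2, by omega⟩
  have hpow : c ^ (Fintype.card F / 2) = (-1) ^ (k + 1) := by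
    have e1 : Fintype.card F / 2 = 2 * (k * (k + 1)) := by
      rw [card_sq hf hord, show Fintype.card F₀ = q from rfl, hk,
        show (2 * k + 1) ^ 2 = 2 * (2 * (k * (k + 1))) + 1 by ring]
      omega
    rw [e1, pow_mul, pow_two, hc, ← map_pow, pow_mul, show k = q / 2 by omega, hneg, map_pow, map_neg, map_one]
  split_ifs with h4
  · refine sqSign_of_not_isSquare fun hs => ?_
    rw [(FiniteField.isSquare_iff hch hc0).1 hs] at hpow
    rw [(show Odd (k + 1) by rw [Nat.odd_iff]; omega).neg_one_pow] at hpow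
    exact h2 (by linear_combination hpow)
  · refine sqSign_of_isSquare ((FiniteField.isSquare_iff hch hc0).2 ?_)
    rw [hpow, (show Even (k + 1) by rw [Nat.even_iff]; omega).neg_one_pow]

theorem negSign_plus_two (hf : FixedBy e σ) (hord : orderOf σ = 2) (H : Setup (formPlus F m) m) :
    negSign (formPlus F m) H.nondeg H.two = 1 := by
  refine (H52.OrthoRank.negSign_plus F m H.two).trans ((OrthoWitness.sqSign_neg_one_pow ?_ m).2 ?_)
  · rw [← Nat.card_eq_fintype_card]; exact odd_natCard_of_two_ne_zero H.two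
  · rintro ⟨-, h3⟩
    rw [card_sq hf hord, Nat.pow_mod] at h3
    have : Fintype.card F₀ % 4 < 4 := Nat.mod_lt _ (by norm_num)
    interval_cases Fintype.card F₀ % 4 <;> simp_all

/-- The classes of the standard field automorphism of order two. -/
theorem count_plus_two (hm : 4 ≤ m) (H : Setup (formPlus F m) m) (hf : FixedBy e σ) (hord : orderOf σ = 2) :
    Cfsg.splitClassCount (chiKer (space_plus (K := F) (show 3 ≤ m by omega)))
      (Cfsg.Inn (Cfsg.POmega F ⇑(formPlus F m))) (semiAut 1 σ semi_one_plus)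
      = if Odd m ∧ Fintype.card F₀ % 4 = 1 then 2 else 4 := by
  have hm0 : 0 < m := by omega
  obtain ⟨ν, hν⟩ := exists_not_isSquare (fun h => H.two (by rw [← map_ofNat e, h, map_zero]) : (2 : F₀) ≠ 0)
  have hν0 : ν ≠ 0 := fun h => hν (h ▸ IsSquare.zero)
  set νu : F₀ˣ := Units.mk0 ν hν0 with hνu
  obtain ⟨c, hc⟩ := isSquare_map_two hf hord ν
  have hc0 : c ≠ 0 := fun h => (map_ne_zero e).2 hν0 (by rw [hc, h, mul_zero])
  set cu : Fˣ := Units.mk0 c hc0 with hcu
  have hab : ∀ i : Fin m, (fun _ : Fin m => νu) i * (fun _ : Fin m => (1 : F₀ˣ)) i = νu := fun i => mul_one _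
  set y : sim (formPlus F₀ m) := diagSim hab
  let D : Datum e (formPlus F₀ m) (formPlus F m) := basePlus e m
  have H1 := setup_sub H D
  have hab' : ∀ i : Fin m, Units.map e.toMonoidHom νu * (1 : Fˣ) = cu ^ 2 := fun i => Units.ext (by
    rw [mul_one, Units.val_pow_eq_pow_val, hcu, Units.val_mk0, pow_two, ← hc]; rfl)
  have hpsi : D.psi y = diagSim hab' := by
    refine Subtype.ext (Units.ext (Matrix.ext_iff_mulVec.2 fun v => ?_))
    refine (D.psiGL_mulVec y.1 v).trans ?_
    show ((Matrix.diagonal _).map e) *ᵥ v = (Matrix.diagonal _) *ᵥ v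
    rw [diagonal_map (map_zero e)]
    congr 2
    funext j; cases j <;> simp [hνu]
  have hys : simAut (formPlus F m) (D.psi y) = simAut (formPlus F m)
      (toSim (formPlus F m) (torus fun _ => cu⁻¹ * Units.map e.toMonoidHom νu)) := by
    rw [hpsi, diagSim_eq cu hab', simAut_scalar_mul H.nondeg H.five]
  obtain ⟨γ, -, -, hγ, hγd, -⟩ := OrthoWitness.plus (by
    rw [← Nat.card_eq_fintype_card]; exact odd_natCard_of_two_ne_zero H.two) H
  have hN : normProd (gmap σ) (1 : GL (Fin m ⊕ Fin m) F) (orderOf σ) = 1 := by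
    rw [hord, normProd_succ, normProd_one, one_mul, map_one]
  obtain ⟨h2c, h4c⟩ := count_two H (space_plus (K := F) (show 3 ≤ m by omega)) (negSign_plus_two hf hord H) hf hord
    (descends_one hf : D.Descends 1 σ) semi_one_plus hN hγ hγd
    (y := y) ((sg_diagSim H1 hm0 hab).trans (sqSign_of_not_isSquare hν)) (ds_diagSim H1 hm0 hab)
    (dt_torus H _) hys
  have hcν : cu⁻¹ * Units.map e.toMonoidHom νu = cu := by
    rw [inv_mul_eq_iff_eq_mul, ← pow_two, ← hab' ⟨0, hm0⟩, mul_one]
  have hth : H.th (torus fun _ : Fin m => cu⁻¹ * Units.map e.toMonoidHom νu)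
      = (if Fintype.card F₀ % 4 = 1 then -1 else 1) ^ m := by
    rw [th_torus, hcν, Finset.prod_const, Finset.card_univ, Fintype.card_fin, hcu, Units.val_mk0,
      sqSign_root hf hord H.two hν hc.symm]
  by_cases hcase : Odd m ∧ Fintype.card F₀ % 4 = 1
  · rw [if_pos hcase]
    exact h2c (by rw [hth, if_pos hcase.2, hcase.1.neg_one_pow])
  · rw [if_neg hcase]
    refine h4c ?_
    rw [hth]
    split_ifs with h4
    · exact (Nat.not_odd_iff_even.1 fun ho => hcase ⟨ho, h4⟩).neg_one_pow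
    · exact one_pow _

/-- The classes of the standard graph-field involution. -/
theorem count_graph_two (hm : 4 ≤ m + 1) (H : Setup (formPlus F (m + 1)) (m + 1)) (hf : FixedBy e σ)
    (hord : orderOf σ = 2) {ζ : F₀} (hζ : BinAniso 1 ζ) :
    Cfsg.splitClassCount (chiKer (space_plus (K := F) (show 3 ≤ m + 1 by omega)))
      (Cfsg.Inn (Cfsg.POmega F ⇑(formPlus F (m + 1))))
      (semiAut (reflSim (formPlus F (m + 1)) (unitVec F (m + 1) (by omega))).1 σ (semi_of_sim fixed_plus _))
      = if Odd (m + 1) ∧ Fintype.card F₀ % 4 = 1 then 4 else 2 := by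
  have hm3 : 3 ≤ m + 1 := by omega
  have hm0 : 0 < m + 1 := by omega
  set R := reflSim (formPlus F (m + 1)) (unitVec F (m + 1) hm0)
  obtain ⟨ν, hν⟩ := exists_not_isSquare (fun h => H.two (by rw [← map_ofNat e, h, map_zero]) : (2 : F₀) ≠ 0)
  have hν0 : ν ≠ 0 := fun h => hν (h ▸ IsSquare.zero)
  set νu : F₀ˣ := Units.mk0 ν hν0 with hνu
  set νF : Fˣ := Units.map e.toMonoidHom νu with hνF
  obtain ⟨c, hc⟩ := isSquare_map_two hf hord ν
  have hc0 : c ≠ 0 := fun h => (map_ne_zero e).2 hν0 (by rw [hc, h, mul_zero])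
  set cu : Fˣ := Units.mk0 c hc0 with hcu
  obtain ⟨α, hα⟩ := Descent.exists_normProd_eq σ (c := νF) (hf.apply ν)
  rw [hord, normProd_succ, normProd_one] at hα
  have hαns : ¬ IsSquare (α : F) := by
    rintro ⟨β, hβ⟩
    have hσσ : ∀ z, σ (σ z) = z := fun z => by
      have := Descent.pow_orderOf_apply σ z
      rwa [hord] at this
    have h1 : σ (β * σ β) = β * σ β := by rw [_root_.map_mul, hσσ, mul_comm]
    obtain ⟨x, hx⟩ := (hf _).1 h1
    refine hν ⟨x, e.injective ?_⟩
    have h2 := congrArg Units.val hα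
    rw [Units.val_mul, Descent.umap_coe, hβ, _root_.map_mul] at h2
    rw [_root_.map_mul, hx]
    refine Eq.trans (Eq.trans rfl h2.symm) ?_
    ring
  let a : Fin (m + 1) → Fˣ := Fin.cons α fun _ => νF
  let b : Fin (m + 1) → Fˣ := Fin.cons (Descent.umap σ α) fun _ => 1
  have hab : ∀ i, a i * b i = νF := Fin.cases hα fun i => by simp [a, b]
  have hab' : ∀ i, a i * b i = cu ^ 2 := fun i => (hab i).trans (Units.ext (by
    rw [Units.val_pow_eq_pow_val, hcu, Units.val_mk0, pow_two, ← hc]; rfl))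
  set X : sim (formPlus F (m + 1)) := diagSim hab
  have hfix : R.1 * gmap σ X.1 * R.1⁻¹ = X.1 := by
    rw [mul_inv_eq_iff_eq_mul]
    refine Units.ext (Matrix.ext_iff_mulVec.2 fun y => ?_)
    rw [Units.val_mul, Units.val_mul, ← mulVec_mulVec, ← mulVec_mulVec]
    have hR : ∀ z, (R.1 : Matrix (Fin (m + 1) ⊕ Fin (m + 1)) (Fin (m + 1) ⊕ Fin (m + 1)) F) *ᵥ z = z - (z (Sum.inr 0) + z (Sum.inl 0)) • unitVec F (m + 1) hm0 := by
      intro z
      show (((reflIso (formPlus F (m + 1)) (unitVec F (m + 1) hm0)).1 : GL (Fin (m + 1) ⊕ Fin (m + 1)) F) : Matrix (Fin (m + 1) ⊕ Fin (m + 1)) (Fin (m + 1) ⊕ Fin (m + 1)) F) *ᵥ z = _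
      rw [reflIso, toO_symm_apply, rO_app, formPlus_unitVec, inv_one, one_mul]
      congr 2
      simp [unitVec, polar_formPlus, Pi.single_apply, Finset.sum_add_distrib]
    have hX : ∀ z, (X.1 : Matrix (Fin (m + 1) ⊕ Fin (m + 1)) (Fin (m + 1) ⊕ Fin (m + 1)) F) *ᵥ z = fun j => Sum.elim (fun i => (a i : F)) (fun i => (b i : F)) j * z j :=
      fun z => diagGL_mulVec a b z (Sum.inl 0)
    have hσX : ∀ z, (gmap σ X.1 : Matrix (Fin (m + 1) ⊕ Fin (m + 1)) (Fin (m + 1) ⊕ Fin (m + 1)) F) *ᵥ z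
        = fun j => σ (Sum.elim (fun i => (a i : F)) (fun i => (b i : F)) j) * z j := fun z => by
      funext j
      show ((Matrix.diagonal _).map σ *ᵥ z) j = _
      rw [diagonal_map (map_zero σ), mulVec_diagonal]
    have hσσ : σ (σ (α : F)) = α := by
      have := Descent.pow_orderOf_apply σ (α : F)
      rwa [hord] at this
    have hσν : σ (νF : F) = νF := hf.apply ν
    rw [hσX, hR, hR, hX]
    funext j
    rcases j with j | j <;> refine Fin.cases ?_ (fun i => ?_) j <;>
      simp [a, b, unitVec, Pi.single_apply, Descent.umap_coe, hσσ, hσν] <;> ring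
  obtain ⟨D, hD⟩ := descends_refl hm3 hf hord hζ
  have H1 := setup_sub H D
  obtain ⟨M, hM⟩ := hD.exists_preimage hf hfix
  obtain ⟨y, hy⟩ := Datum.mem_range_psi (X := X)
    (exists_ne_zero_value H1.nondeg (by have := H1.five; omega)) hM
  have hmu : mu y = νu := by
    have h1 := D.mu_psi H.value y
    rw [hy, mu_diagSim hm0 hab] at h1
    exact Units.ext (e.injective (congrArg Units.val h1).symm)
  have hysg : (setup_sub H D).sg y = -1 := by
    show sqSign (mu y : F₀) = -1
    rw [hmu]; exact sqSign_of_not_isSquare hν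
  have hyds : (setup_sub H D).ds y = 1 := by
    rw [← chi_eq_ds (setup_sub H D) ((space_plus hm3).transport' D),
      ← chi_natural ((space_plus hm3).transport' D) (space_plus hm3) D, hy, chi_eq_ds H, ds_diagSim H hm0]
  have hys : simAut (formPlus F (m + 1)) (D.psi y) = simAut (formPlus F (m + 1))
      (toSim (formPlus F (m + 1)) (torus fun i => cu⁻¹ * a i)) := by
    rw [hy, show X = diagSim hab' from Subtype.ext rfl, diagSim_eq cu hab', simAut_scalar_mul H.nondeg H.five]
  obtain ⟨γ, -, -, hγ, hγd, -⟩ := OrthoWitness.plus (by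
    rw [← Nat.card_eq_fintype_card]; exact odd_natCard_of_two_ne_zero H.two) H
  obtain ⟨h2c, h4c⟩ := count_two H (space_plus (K := F) hm3) (negSign_plus_two hf hord H) hf hord hD
    (semi_of_sim fixed_plus R)
    (by rw [hord]; exact normProd_refl_two fixed_plus (by rw [formPlus_unitVec]; exact one_ne_zero) (unitVec_fixed _))
    hγ hγd hysg hyds (dt_torus H _) hys
  have hcν : cu⁻¹ * νF = cu := by
    rw [inv_mul_eq_iff_eq_mul, ← hab 0, hab' 0, pow_two]
  have hth : H.th (torus fun i => cu⁻¹ * a i)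
      = -(if Fintype.card F₀ % 4 = 1 then (-1 : ℤˣ) else 1) ^ (m + 1) := by
    rw [th_torus, Fin.prod_univ_succ]
    simp only [a, Fin.cons_zero, Fin.cons_succ, hcν, Finset.prod_const, Finset.card_univ, Fintype.card_fin]
    rw [Units.val_mul, Units.val_inv_eq_inv_val, sqSign_mul H.two (inv_ne_zero cu.ne_zero) α.ne_zero,
      sqSign_of_not_isSquare hαns, hcu, Units.val_mk0,
      show sqSign c⁻¹ = sqSign c by
        by_cases hs : IsSquare c
        · rw [sqSign_of_isSquare hs, sqSign_of_isSquare hs.inv]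
        · rw [sqSign_of_not_isSquare hs, sqSign_of_not_isSquare fun h => hs (by simpa using h.inv)],
      sqSign_root hf hord H.two hν hc.symm, pow_succ]
    split_ifs <;> simp
  by_cases hcase : Odd (m + 1) ∧ Fintype.card F₀ % 4 = 1
  · rw [if_pos hcase]
    exact h4c (by rw [hth, if_pos hcase.2, hcase.1.neg_one_pow, neg_neg])
  · rw [if_neg hcase]
    refine h2c ?_
    rw [hth]
    split_ifs with h4
    · rw [(Nat.not_odd_iff_even.1 fun ho => hcase ⟨ho, h4⟩).neg_one_pow]
    · rw [one_pow]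

end Cfsg.Agent.H58.OrthoField
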