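import Mathlib
import Cfsg.Agent.H58.OrthoField.Coset
import Cfsg.Agent.H58.OrthoField.PlusSplit

/-!
# Centralisers of field and graph-field automorphisms
-/

set_option autoImplicit false
set_option linter.unusedSectionVars false

namespace Cfsg.Agent.H58.OrthoField

open Matrix Module Cfsg.Agent.Orthogonal Cfsg.Agent.H58.OrthoAut Cfsg.Agent.H58.OrthoKlein Cfsg.Agent.H58.Twist
  Cfsg.Agent.H58.OrthoOuter
open QuadraticMap (polar)
open Cfsg.Agent.H52.OrthoRank (negSign)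

section Common

variable {F : Type*} [Field F] [Fintype F] {F₀ : Type*} [Field F₀] [Fintype F₀] {ι κ : Type} [Fintype ι]
  [DecidableEq ι] [Fintype κ] [DecidableEq κ] {e : F₀ →+* F} {σ : F ≃+* F}
  {Q : QuadraticForm F (ι → F)} {Q₁ : QuadraticForm F₀ (κ → F₀)} {g : GL ι F} {D : Datum e Q₁ Q} {m : ℕ}

/-- The centraliser in the inner-diagonal group. -/
theorem chiKer_centralizer_iso (S : Space Q m) (S₁ : Space Q₁ m) (hf : FixedBy e σ) (hD : D.Descends g σ)
    (h : Cfsg.IsSemisimilarityPair ⇑Q g σ) (hg : normProd (gmap σ) g (orderOf σ) = 1) :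
    Nonempty (↥(chiKer S ⊓ Subgroup.centralizer {semiAut g σ h}) ≃* ↥(chiKer S₁)) := by
  obtain ⟨f⟩ := centralizer_iso hf hD S.nondeg S.five h hg (chi S).ker
    (fun c => MonoidHom.mem_ker.2 (chi_scalar S c))
  refine ⟨f.trans (MulEquiv.subgroupCongr ?_)⟩
  show Subgroup.map _ _ = Subgroup.map _ _
  congr 1
  ext z
  rw [Subgroup.mem_comap, MonoidHom.mem_ker, MonoidHom.mem_ker, chi_natural S₁ S D]

/-- In characteristic two every inner-diagonal automorphism is inner. -/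
theorem chiKer_eq_inn_two (S : Space Q m) (h2 : (2 : F) = 0) : chiKer S = Cfsg.Inn (Cfsg.POmega F ⇑Q) := by
  refine le_antisymm ?_ (inn_le_chiKer S)
  rintro _ ⟨y, hy, rfl⟩
  rw [SetLike.mem_coe, MonoidHom.mem_ker, chi_two S h2] at hy
  set s := (toO Q).symm (isoPart h2 y) with hs
  have hsO : s ∈ Cfsg.Omega F ⇑Q := by
    rw [mem_omega_iff, hs, MulEquiv.apply_symm_apply, commutator_eq_ker_dickson S.nondeg S.gen h2, MonoidHom.mem_ker]
    exact hy
  rw [inn_eq]
  refine ⟨s, hsO, ?_⟩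
  show simAut Q (toSim Q s) = simAut Q y
  have e1 : toSim Q s = ⟨GeneralLinearGroup.scalar ι (sqrt2 h2 (mu y))⁻¹, scalar_mem_sim _⟩ * y := by
    refine Subtype.ext ?_
    rw [toSim_coe, hs, isoPart, MulEquiv.symm_apply_apply]
    rfl
  rw [e1, simAut_scalar_mul S.nondeg S.five]

theorem count_two_char (S : Space Q m) (h2 : (2 : F) = 0) (x : MulAut (Cfsg.POmega F ⇑Q)) :
    Cfsg.splitClassCount (chiKer S) (Cfsg.Inn (Cfsg.POmega F ⇑Q)) x = 1 :=
  count_eq_one (inn_le_chiKer S) (by rw [chiKer_eq_inn_two S h2]; exact le_sup_left)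

end Common

/-- A finite field has at most one automorphism of order two. -/
theorem eq_of_orderOf_two {F : Type*} [Field F] [Fintype F] {σ τ : F ≃+* F} (hσ : orderOf σ = 2)
    (hτ : orderOf τ = 2) : σ = τ := by
  obtain ⟨p, _⟩ := CharP.exists F
  have : Fact p.Prime := ⟨(CharP.char_is_prime_or_zero F p).resolve_right (fun h0 => by
    subst h0
    have := CharP.charP_to_charZero F
    exact (not_finite F))⟩
  letI := ZMod.algebra F p
  have key : ∀ (α : F ≃+* F) (x : ZMod p), α (algebraMap (ZMod p) F x) = algebraMap (ZMod p) F x := fun α x =>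
    RingHom.congr_fun (RingHom.ext_zmod ((α : F →+* F).comp (algebraMap (ZMod p) F)) (algebraMap (ZMod p) F)) x
  let φ : (F ≃+* F) ≃* Gal(F/ZMod p) :=
    { toFun := fun α => AlgEquiv.ofRingEquiv (f := α) (key α)
      invFun := fun α => α.toRingEquiv
      left_inv := fun α => rfl
      right_inv := fun α => rfl
      map_mul' := fun α β => rfl }
  have := Fintype.ofFinite Gal(F/ZMod p)
  classical
  have hle := IsCyclic.card_orderOf_eq_totient (α := Gal(F/ZMod p)) (d := 2) (by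
    rw [← hσ, ← φ.orderOf_eq σ]; exact orderOf_dvd_card)
  rw [show Nat.totient 2 = 1 from rfl, Finset.card_eq_one] at hle
  obtain ⟨a, ha⟩ := hle
  have h1 : φ σ = a := Finset.mem_singleton.1 (ha ▸ Finset.mem_filter.2 ⟨Finset.mem_univ _, (φ.orderOf_eq σ).trans hσ⟩)
  have h2 : φ τ = a := Finset.mem_singleton.1 (ha ▸ Finset.mem_filter.2 ⟨Finset.mem_univ _, (φ.orderOf_eq τ).trans hτ⟩)
  exact φ.injective (h1.trans h2.symm)

theorem two_eq_zero_iff {F : Type*} [Field F] [Fintype F] {p f : ℕ} [hp : Fact p.Prime]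
    (hF : Fintype.card F = p ^ f) (hf : 1 ≤ f) : p = 2 ↔ (2 : F) = 0 := by
  have hc : (p : F) = 0 := by
    have := Nat.cast_card_eq_zero F
    rw [hF, Nat.cast_pow] at this
    exact (pow_eq_zero_iff (by omega)).1 this
  constructor
  · rintro rfl; exact_mod_cast hc
  · intro h2
    by_contra hne
    obtain ⟨k, hk⟩ := hp.out.odd_of_ne_two hne
    rw [hk, Nat.cast_add, Nat.cast_mul, Nat.cast_two, h2, zero_mul, zero_add, Nat.cast_one] at hc
    exact one_ne_zero hc

section Plus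

variable {F : Type*} [Field F] [Fintype F] {m : ℕ}

theorem field_plus (hm : 4 ≤ m) (hgam : Cfsg.gammaPOmega F ⇑(formPlus F m) = ⊤) {p f : ℕ} [Fact p.Prime]
    (hF : Fintype.card F = p ^ f) (hf : 1 ≤ f) {x : MulAut (Cfsg.POmega F ⇑(formPlus F m))}
    (hx : Cfsg.IsFieldAutClassPOmega ⇑(formPlus F m) x) {r : ℕ} (hr : r.Prime) (hxr : orderOf x = r)
    (F₀ : Type*) [Field F₀] [Fintype F₀] (hF₀ : Fintype.card F₀ = p ^ (f / r)) :
    r ∣ f ∧ Nonempty (↥(chiKer (space_plus (K := F) (show 3 ≤ m by omega)) ⊓ Subgroup.centralizer {x}) ≃*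
        ↥(chiKer (space_plus (K := F₀) (show 3 ≤ m by omega)))) ∧
      ((Odd r ∨ p = 2) → Cfsg.splitClassCount (chiKer (space_plus (K := F) (show 3 ≤ m by omega)))
        (Cfsg.Inn (Cfsg.POmega F ⇑(formPlus F m))) x = 1) ∧
      ((r = 2 ∧ p ≠ 2 ∧ Odd m ∧ p ^ (f / 2) % 4 = 1) →
        Cfsg.splitClassCount (chiKer (space_plus (K := F) (show 3 ≤ m by omega)))
        (Cfsg.Inn (Cfsg.POmega F ⇑(formPlus F m))) x = 2) ∧
      ((r = 2 ∧ p ≠ 2 ∧ ¬ (Odd m ∧ p ^ (f / 2) % 4 = 1)) →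
        Cfsg.splitClassCount (chiKer (space_plus (K := F) (show 3 ≤ m by omega)))
        (Cfsg.Inn (Cfsg.POmega F ⇑(formPlus F m))) x = 4) := by
  have hm3 : 3 ≤ m := by omega
  have S := space_plus (K := F) hm3
  obtain ⟨σ, G, hord, rfl, hN, hG⟩ := fieldClass_normal (fun τ => fixed_plus) hgam S.nondeg S.five hx hr hxr
  obtain ⟨hd, e, he⟩ := exists_fixedBy (σ := σ) hF hord hF₀
  obtain ⟨D, hD⟩ := descends_plus_of_chi hm3 he hr hord hN (hG _)
  have hN' : normProd (gmap σ) G.1 (orderOf σ) = 1 := by rw [hord]; exact hN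
  obtain ⟨β, hβ, hβe⟩ := exists_conj_chi (space_plus hm3) he hD (descends_one he) (semi_of_sim fixed_plus G)
    semi_one_plus
  have : (chiKer (space_plus (K := F) hm3)).Normal := chiKer_normal _ hgam
  have hcount : Cfsg.splitClassCount (chiKer (space_plus (K := F) hm3)) (Cfsg.Inn (Cfsg.POmega F ⇑(formPlus F m)))
      (semiAut G.1 σ (semi_of_sim fixed_plus G)) = Cfsg.splitClassCount (chiKer (space_plus (K := F) hm3))
      (Cfsg.Inn (Cfsg.POmega F ⇑(formPlus F m))) (semiAut 1 σ semi_one_plus) := by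
    rw [← hβe, splitClassCount_conj]
  refine ⟨hd, chiKer_centralizer_iso _ _ he hD _ hN', fun h => ?_, fun h => ?_, fun h => ?_⟩
  · by_cases h2 : (2 : F) = 0
    · exact count_two_char _ h2 _
    · have hodd : Odd (orderOf σ) := hord ▸ h.resolve_right (fun hp => h2 ((two_eq_zero_iff hF hf).1 hp))
      have H : Setup (formPlus F m) m := ⟨S.nondeg, h2, S.card, S.five⟩
      have h20 : Odd (Fintype.card F₀) := by
        rw [← Nat.card_eq_fintype_card]
        exact odd_natCard_of_two_ne_zero fun h0 => h2 (by rw [← map_ofNat e, h0, map_zero])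
      obtain ⟨y, -, -, hy, hyd, -⟩ := OrthoWitness.plus h20 (setup_sub H D)
      exact count_odd_order H _ he hD _ hodd hy hyd
  all_goals
    obtain ⟨rfl, hp, hc⟩ := h
    have h2 : (2 : F) ≠ 0 := fun h0 => hp ((two_eq_zero_iff hF hf).2 h0)
    rw [hcount, count_plus_two hm ⟨S.nondeg, h2, S.card, S.five⟩ he hord, hF₀]
  · rw [if_pos hc]
  · rw [if_neg hc]

set_option maxHeartbeats 1600000 in
theorem graphField_plus {k : ℕ} (hm : 5 ≤ k + 1) (hgam : Cfsg.gammaPOmega F ⇑(formPlus F (k + 1)) = ⊤) {p f : ℕ}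
    [Fact p.Prime] (hF : Fintype.card F = p ^ f) (hf : 1 ≤ f) {x : MulAut (Cfsg.POmega F ⇑(formPlus F (k + 1)))}
    (hx : Cfsg.IsGraphFieldAutClassPOmegaPlus (k + 1) x) (hx2 : orderOf x = 2)
    (F₀ : Type*) [Field F₀] [Fintype F₀] (hF₀ : Fintype.card F₀ = p ^ (f / 2)) :
    Even f ∧
      (∀ y : MulAut (Cfsg.POmega F ⇑(formPlus F (k + 1))), Cfsg.IsGraphFieldAutClassPOmegaPlus (k + 1) y →
        orderOf y = 2 → Cfsg.IsConjUnder (chiKer (space_plus (K := F) (show 3 ≤ k + 1 by omega))) x y) ∧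
      (∃ (ζ : F₀) (hζ : BinAniso 1 ζ),
        Nonempty (↥(chiKer (space_plus (K := F) (show 3 ≤ k + 1 by omega)) ⊓ Subgroup.centralizer {x}) ≃*
          ↥(chiKer (space_minus (show 2 ≤ k by omega) hζ)))) ∧
      (p = 2 → Cfsg.splitClassCount (chiKer (space_plus (K := F) (show 3 ≤ k + 1 by omega)))
        (Cfsg.Inn (Cfsg.POmega F ⇑(formPlus F (k + 1)))) x = 1) ∧
      ((p ≠ 2 ∧ Odd (k + 1) ∧ p ^ (f / 2) % 4 = 1) →
        Cfsg.splitClassCount (chiKer (space_plus (K := F) (show 3 ≤ k + 1 by omega)))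
        (Cfsg.Inn (Cfsg.POmega F ⇑(formPlus F (k + 1)))) x = 4) ∧
      ((p ≠ 2 ∧ ¬ (Odd (k + 1) ∧ p ^ (f / 2) % 4 = 1)) →
        Cfsg.splitClassCount (chiKer (space_plus (K := F) (show 3 ≤ k + 1 by omega)))
        (Cfsg.Inn (Cfsg.POmega F ⇑(formPlus F (k + 1)))) x = 2) := by
  have hm3 : 3 ≤ k + 1 := by omega
  have S := space_plus (K := F) hm3
  obtain ⟨σ, G, hord, rfl, hN, hG⟩ := graphFieldClass_normal hm3 hgam hx Nat.prime_two hx2
  obtain ⟨hd, e, he⟩ := exists_fixedBy (σ := σ) hF hord hF₀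
  obtain ⟨ζ, hζ⟩ := exists_binAniso F₀
  obtain ⟨D, hD⟩ := (descends_minus_of_chi hm3 he Nat.prime_two hord hN hG).2 ζ hζ
  obtain ⟨D₁, hD₁⟩ := descends_refl hm3 he hord hζ
  have hN' : normProd (gmap σ) G.1 (orderOf σ) = 1 := by rw [hord]; exact hN
  obtain ⟨β, hβ, hβe⟩ := exists_conj_chi (space_plus hm3) he hD hD₁ (semi_of_sim fixed_plus G)
    (semi_of_sim fixed_plus _)
  have : (chiKer (space_plus (K := F) hm3)).Normal := chiKer_normal _ hgam
  have hcount : Cfsg.splitClassCount (chiKer (space_plus (K := F) hm3))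
      (Cfsg.Inn (Cfsg.POmega F ⇑(formPlus F (k + 1)))) (semiAut G.1 σ (semi_of_sim fixed_plus G))
      = Cfsg.splitClassCount (chiKer (space_plus (K := F) hm3)) (Cfsg.Inn (Cfsg.POmega F ⇑(formPlus F (k + 1))))
      (semiAut (reflSim (formPlus F (k + 1)) (unitVec F (k + 1) (by omega))).1 σ (semi_of_sim fixed_plus _)) := by
    rw [← hβe, splitClassCount_conj]
  refine ⟨even_iff_two_dvd.2 hd, fun y hy hy2 => ?_, ⟨ζ, hζ, chiKer_centralizer_iso _ _ he hD _ hN'⟩, fun h => ?_,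
    fun h => ?_, fun h => ?_⟩
  · obtain ⟨σ', G', hord', rfl, hN2, hG'⟩ := graphFieldClass_normal hm3 hgam hy Nat.prime_two hy2
    have hσ : σ' = σ := eq_of_orderOf_two hord' hord
    subst hσ
    obtain ⟨D', hD'⟩ := (descends_minus_of_chi hm3 he Nat.prime_two hord hN2 hG').2 ζ hζ
    obtain ⟨β', hβ', hβe'⟩ := exists_conj_chi (space_plus hm3) he hD hD' (semi_of_sim fixed_plus G)
      (semi_of_sim fixed_plus G')
    exact ⟨β', hβ', hβe'.symm⟩
  · exact count_two_char _ ((two_eq_zero_iff hF hf).1 h) _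
  all_goals
    obtain ⟨hp, hc⟩ := h
    have h2 : (2 : F) ≠ 0 := fun h0 => hp ((two_eq_zero_iff hF hf).2 h0)
    rw [hcount, count_graph_two (by omega) ⟨S.nondeg, h2, S.card, S.five⟩ he hord hζ, hF₀]
  · rw [if_pos hc]
  · rw [if_neg hc]

end Plus

section Minus

variable {F : Type*} [Field F] [Fintype F] {m : ℕ}

theorem field_minus (hm : 3 ≤ m) {a b : F} (hab : BinAniso a b) {p f : ℕ} [Fact p.Prime]
    (hF : Fintype.card F = p ^ f) {x : MulAut (Cfsg.POmega F ⇑(formMinus F m a b))}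
    (hx : Cfsg.IsFieldAutClassPOmegaMinus m x) {r : ℕ} (hr : r.Prime) (hxr : orderOf x = r)
    (F₀ : Type*) [Field F₀] [Fintype F₀] (hF₀ : Fintype.card F₀ = p ^ (f / r)) :
    Odd r ∧ r ∣ f ∧
      (∃ (ζ : F₀) (hζ : BinAniso 1 ζ),
        Nonempty (↥(chiKer (space_minus (show 2 ≤ m by omega) hab) ⊓ Subgroup.centralizer {x}) ≃*
          ↥(chiKer (space_minus (show 2 ≤ m by omega) hζ)))) ∧
      Cfsg.splitClassCount (chiKer (space_minus (show 2 ≤ m by omega) hab))
        (Cfsg.Inn (Cfsg.POmega F ⇑(formMinus F m a b))) x = 1 := by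
  have hm2 : 2 ≤ m := by omega
  obtain ⟨σ, g, h, hord, rfl, hN⟩ := minus_normal hm hab hx hr hxr
  obtain ⟨hd, e, he⟩ := exists_fixedBy (σ := σ) hF hord hF₀
  have hN' : normProd (gmap σ) g (orderOf σ) = 1 := by rw [hord]; exact hN
  obtain ⟨hodd, ζ, hζ, D, hD⟩ := descends_minus hm2 hab he hr hord h hN'
  refine ⟨hodd, hd, ⟨ζ, hζ, chiKer_centralizer_iso _ _ he hD _ hN'⟩, ?_⟩
  by_cases h2 : (2 : F) = 0
  · exact count_two_char _ h2 _
  · have S := space_minus hm2 hab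
    have H : Setup (formMinus F m a b) (m + 1) := ⟨S.nondeg, h2, S.card, S.five⟩
    have h20 : Odd (Fintype.card F₀) := by
      rw [← Nat.card_eq_fintype_card]
      exact odd_natCard_of_two_ne_zero fun h0 => h2 (by rw [← map_ofNat e, h0, map_zero])
    obtain ⟨y, -, -, hy, hyd, -⟩ := OrthoWitness.minus h20 hζ (setup_sub H D)
    exact count_odd_order H _ he hD _ (hord ▸ hodd) hy hyd

end Minus

end Cfsg.Agent.H58.OrthoField
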