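import Mathlib
import Cfsg.Agent.H58.OrthoField.Parts

/-!
# Odd dimension
-/

set_option autoImplicit false
set_option linter.unusedSectionVars false

namespace Cfsg.Agent.H58.OrthoField

open Matrix Module Cfsg.Agent.Orthogonal Cfsg.Agent.H58.OrthoAut Cfsg.Agent.H58.OrthoKlein Cfsg.Agent.H58.Twist
  Cfsg.Agent.H58.OrthoOuter
open QuadraticMap (polar)

variable {F : Type*} [Field F] [Fintype F] {ι : Type} [Fintype ι] [DecidableEq ι] {Q : QuadraticForm F (ι → F)}

/-- The standing hypotheses in odd dimension. -/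
structure OddSpace (Q : QuadraticForm F (ι → F)) : Prop where
  nondeg : Nondeg Q
  two : (2 : F) ≠ 0
  odd : Odd (Fintype.card ι)
  five : 5 ≤ Fintype.card ι

namespace OddSpace

theorem value (H : OddSpace Q) : ∃ v, Q v ≠ 0 := exists_ne_zero_value H.nondeg (by have := H.five; omega)

/-- Spinor norm on the matrix group. -/
noncomputable def th (H : OddSpace Q) : Cfsg.isometryGroup F ⇑Q →* ℤˣ :=
  (spinor Q H.nondeg H.two).comp (toO Q).toMonoidHom

/-- Sign of the determinant on the matrix group. -/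
noncomputable def dt (H : OddSpace Q) : Cfsg.isometryGroup F ⇑Q →* ℤˣ :=
  (detSign Q H.nondeg H.two).comp (toO Q).toMonoidHom

theorem dt_eq_one_iff (H : OddSpace Q) (s : Cfsg.isometryGroup F ⇑Q) :
    H.dt s = 1 ↔ (s.1 : Matrix ι ι F).det = 1 := by
  rw [← Setup.det_toO]; exact detSign_eq_one_iff H.nondeg H.two _

theorem mem_omega (H : OddSpace Q) (s : Cfsg.isometryGroup F ⇑Q) :
    s ∈ Cfsg.Omega F ⇑Q ↔ H.dt s = 1 ∧ H.th s = 1 := by
  rw [mem_omega_iff, mem_commutator_iff H.nondeg H.two]; rfl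

/-- Every similitude acts as a special isometry. -/
theorem exists_SO (H : OddSpace Q) (g : sim Q) :
    ∃ s : Cfsg.isometryGroup F ⇑Q, H.dt s = 1 ∧ simAut Q g = simAut Q (toSim Q s) := by
  obtain ⟨m, hm⟩ := H.odd
  set d := ((g : GL ι F) : Matrix ι ι F).det
  set μ : F := (mu g : F)
  have hμ : μ ≠ 0 := (mu g).ne_zero
  have hd : d ^ 2 = μ ^ (2 * m + 1) := hm ▸ det_sq_eq H.nondeg g
  have hd0 : d ≠ 0 := fun h => hμ (pow_eq_zero_iff (by omega) |>.1 (hd.symm.trans (by rw [h]; ring)))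
  set c : F := d / μ ^ m with hc
  have hc0 : c ≠ 0 := div_ne_zero hd0 (pow_ne_zero _ hμ)
  have hcc : c * c = μ := by
    rw [hc]; field_simp; linear_combination hd
  have hsc : ∀ (a : Fˣ) (v : ι → F), (a : F) ^ 2 * μ = 1 →
      Q ((((⟨GeneralLinearGroup.scalar ι a, scalar_mem_sim a⟩ : sim Q) * g : sim Q).1 : Matrix ι ι F) *ᵥ v) = Q v := by
    intro a v ha
    rw [Subgroup.coe_mul, Units.val_mul, ← mulVec_mulVec, GeneralLinearGroup.coe_scalar, Matrix.scalar_apply,
      ← Matrix.smul_one_eq_diagonal, smul_mulVec, one_mulVec, qmap_smul, mu_spec, ← mul_assoc, ha, one_mul]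
  let a : Fˣ := (Units.mk0 c hc0)⁻¹
  have ha : (a : F) ^ 2 * μ = 1 := by
    simp only [a, Units.val_inv_eq_inv_val, Units.val_mk0]; rw [← hcc]; field_simp
  refine ⟨⟨_, (mem_isometryGroup_iff _ _).2 fun v => hsc a v ha⟩, (H.dt_eq_one_iff _).2 ?_, ?_⟩
  · show (((⟨GeneralLinearGroup.scalar ι a, scalar_mem_sim a⟩ : sim Q) * g : sim Q).1 : Matrix ι ι F).det = 1
    rw [Subgroup.coe_mul, Units.val_mul, det_mul, GeneralLinearGroup.coe_scalar, Matrix.scalar_apply, det_diagonal,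
      Finset.prod_const, Finset.card_univ, hm, show (a : F) = c⁻¹ by simp [a], inv_pow, pow_succ c (2 * m),
      pow_mul c 2 m, pow_two c, hcc, hc]
    change (μ ^ m * (d / μ ^ m))⁻¹ * d = 1
    field_simp
  · show simAut Q g = simAut Q (⟨GeneralLinearGroup.scalar ι a, scalar_mem_sim a⟩ * g)
    rw [map_mul, Setup.scalar_simAut, one_mul]

theorem inn_iff (H : OddSpace Q) {s : Cfsg.isometryGroup F ⇑Q} (hd : H.dt s = 1) :
    simAut Q (toSim Q s) ∈ Cfsg.Inn (Cfsg.POmega F ⇑Q) ↔ H.th s = 1 := by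
  rw [inn_eq]
  constructor
  · rintro ⟨w, hw, e⟩
    have hk : simAut Q (toSim Q (s * w⁻¹)) = 1 := by
      rw [map_mul, map_mul, map_inv, map_inv, ← e]; exact mul_inv_cancel _
    obtain ⟨c, hc⟩ := exists_scalar_of_simAut_eq_one H.nondeg H.five hk
    obtain ⟨hw1, hw2⟩ := (H.mem_omega w).1 hw
    have hdet : H.dt (s * w⁻¹) = 1 := by rw [map_mul, map_inv, hd, hw1, inv_one, one_mul]
    obtain ⟨v, hv⟩ := H.value
    have hcc : (c : F) ^ 2 = 1 := by
      have h1 := (mem_isometryGroup_iff _ _).1 (s * w⁻¹).2 v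
      rw [show ((s * w⁻¹ : Cfsg.isometryGroup F ⇑Q).1 : GL ι F) = GeneralLinearGroup.scalar ι c from hc,
        GeneralLinearGroup.coe_scalar, Matrix.scalar_apply, ← Matrix.smul_one_eq_diagonal, smul_mulVec, one_mulVec,
        qmap_smul] at h1
      exact mul_right_cancel₀ hv (h1.trans (one_mul _).symm)
    have hc1 : (c : F) = 1 := by
      have h1 := (H.dt_eq_one_iff _).1 hdet
      rw [show ((s * w⁻¹ : Cfsg.isometryGroup F ⇑Q).1 : GL ι F) = GeneralLinearGroup.scalar ι c from hc,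
        GeneralLinearGroup.coe_scalar, Matrix.scalar_apply, det_diagonal, Finset.prod_const, Finset.card_univ] at h1
      obtain ⟨m, hm⟩ := H.odd
      rwa [hm, pow_succ, pow_mul, hcc, one_pow, one_mul] at h1
    have : s = w := mul_inv_eq_one.1 (Subtype.ext (hc.trans (by rw [show c = 1 from Units.ext hc1, map_one]; rfl)))
    rw [this, hw2]
  · intro h
    exact ⟨s, (H.mem_omega s).2 ⟨hd, h⟩, rfl⟩

theorem th_refl_pair (H : OddSpace Q) {u w : ι → F} (hu : Q u ≠ 0) (hw : Q w ≠ 0) :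
    H.dt (reflIso Q u * reflIso Q w) = 1 ∧ H.th (reflIso Q u * reflIso Q w) = sqSign (Q u * Q w) := by
  constructor
  · show detSign Q H.nondeg H.two (toO Q _) = 1
    rw [map_mul, reflIso, reflIso, MulEquiv.apply_symm_apply, MulEquiv.apply_symm_apply, map_mul,
      detSign_rO H.nondeg H.two hu, detSign_rO H.nondeg H.two hw]
    rfl
  · show spinor Q H.nondeg H.two (toO Q _) = _
    rw [map_mul, reflIso, reflIso, MulEquiv.apply_symm_apply, MulEquiv.apply_symm_apply, map_mul,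
      spinor_rO H.nondeg H.two hu, spinor_rO H.nondeg H.two hw, sqSign_mul H.two hu hw]

theorem exists_t (H : OddSpace Q) : ∃ t : Cfsg.isometryGroup F ⇑Q, H.dt t = 1 ∧ H.th t = -1 := by
  have hn : 2 ≤ finrank F (ι → F) := by rw [finrank_fintype_fun_eq_card]; have := H.five; omega
  obtain ⟨ν, hν⟩ := exists_not_isSquare H.two
  obtain ⟨u, hu⟩ := H.nondeg.exists_value hn 1
  obtain ⟨w, hw⟩ := H.nondeg.exists_value hn ν
  have hw0 : Q w ≠ 0 := by rw [hw]; exact fun h => hν (h ▸ IsSquare.zero)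
  obtain ⟨a, b⟩ := H.th_refl_pair (u := u) (by rw [hu]; exact one_ne_zero) hw0
  exact ⟨_, a, by rw [b, hu, hw, one_mul, sqSign_of_not_isSquare hν]⟩

theorem relIndex_inn (H : OddSpace Q) :
    (Cfsg.Inn (Cfsg.POmega F ⇑Q)).relIndex (simAut Q).range = 2 := by
  obtain ⟨t, ht, htt⟩ := H.exists_t
  rw [Subgroup.relIndex, Subgroup.index_eq_two_iff]
  refine ⟨⟨_, toSim Q t, rfl⟩, fun b => ?_⟩
  obtain ⟨_, y, rfl⟩ := b
  obtain ⟨s, hs, e⟩ := H.exists_SO y
  rw [Subgroup.mem_subgroupOf, Subgroup.mem_subgroupOf, Subgroup.coe_mul]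
  show Xor (simAut Q y * simAut Q (toSim Q t) ∈ _) (simAut Q y ∈ _)
  rw [e, ← map_mul, ← map_mul, H.inn_iff hs, H.inn_iff (by rw [map_mul, hs, ht, one_mul]), map_mul, htt]
  rcases Int.units_eq_one_or (H.th s) with h' | h' <;> rw [h'] <;> simp [Xor]

variable {F₀ : Type*} [Field F₀] [Fintype F₀] {κ : Type} [Fintype κ] [DecidableEq κ] {e : F₀ →+* F} {σ : F ≃+* F}
  {Q₁ : QuadraticForm F₀ (κ → F₀)} {g : GL ι F} {D : Datum e Q₁ Q}

theorem sub (H : OddSpace Q) (D : Datum e Q₁ Q) : OddSpace Q₁ :=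
  ⟨D.nondeg H.nondeg, fun h => H.two (by rw [← map_ofNat e, h, map_zero]), D.card_eq ▸ H.odd, D.card_eq ▸ H.five⟩

theorem count (H : OddSpace Q) (hf : FixedBy e σ) (hD : D.Descends g σ) (h : Cfsg.IsSemisimilarityPair ⇑Q g σ)
    (hg : normProd (gmap σ) g (orderOf σ) = 1) :
    (Odd (orderOf σ) →
      Cfsg.splitClassCount (simAut Q).range (Cfsg.Inn (Cfsg.POmega F ⇑Q)) (semiAut g σ h) = 1) ∧
    (orderOf σ = 2 →
      Cfsg.splitClassCount (simAut Q).range (Cfsg.Inn (Cfsg.POmega F ⇑Q)) (semiAut g σ h) = 2) := by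
  constructor
  · intro hodd
    refine count_eq_one inn_le_range ?_
    rintro _ ⟨y, rfl⟩
    obtain ⟨s, hs, e'⟩ := H.exists_SO y
    rw [e']
    rcases Int.units_eq_one_or (H.th s) with hth | hth
    · exact Subgroup.mem_sup_left ((H.inn_iff hs).2 hth)
    · have hn : 2 ≤ finrank F₀ (κ → F₀) := by
        rw [finrank_fintype_fun_eq_card]; have := (H.sub D).five; omega
      obtain ⟨ν, hν⟩ := exists_not_isSquare (H.sub D).two
      obtain ⟨u, hu⟩ := (H.sub D).nondeg.exists_value hn 1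
      obtain ⟨w, hw⟩ := (H.sub D).nondeg.exists_value hn ν
      have hν0 : ν ≠ 0 := fun h => hν (h ▸ IsSquare.zero)
      have hu0 : Q₁ u ≠ 0 := by rw [hu]; exact one_ne_zero
      have hw0 : Q₁ w ≠ 0 := by rw [hw]; exact hν0
      have hEu : Q (D.E (e ∘ u)) = D.k * 1 := by rw [D.spec, hu, map_one]
      have hEw : Q (D.E (e ∘ w)) = D.k * e ν := by rw [D.spec, hw]
      have hEu0 : Q (D.E (e ∘ u)) ≠ 0 := by rw [hEu, mul_one]; exact D.k_ne
      have hEw0 : Q (D.E (e ∘ w)) ≠ 0 := by rw [hEw]; exact mul_ne_zero D.k_ne ((map_ne_zero e).2 hν0)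
      obtain ⟨hd, ht⟩ := H.th_refl_pair hEu0 hEw0
      set t := reflIso Q (D.E (e ∘ u)) * reflIso Q (D.E (e ∘ w))
      have htth : H.th t = -1 := by
        rw [ht, hEu, hEw, sqSign_mul H.two (by simpa using D.k_ne) (mul_ne_zero D.k_ne ((map_ne_zero e).2 hν0)),
          sqSign_mul H.two D.k_ne ((map_ne_zero e).2 hν0), mul_one, ← mul_assoc, Int.units_mul_self, one_mul,
          sqSign_map_odd hf hodd H.two, sqSign_of_not_isSquare hν]
      have hC : simAut Q (toSim Q t) ∈ (simAut Q).range ⊓ Subgroup.centralizer {semiAut g σ h} := by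
        have e2 : toSim Q t = D.psi (reflSim Q₁ u * reflSim Q₁ w) := by
          rw [map_mul D.psi, D.psi_reflSim hu0, D.psi_reflSim hw0]; rfl
        rw [e2]
        exact ⟨⟨_, rfl⟩, Subgroup.mem_centralizer_singleton_iff.2
          (mul_inv_eq_iff_eq_mul.1 (hD.semiAut_psi hf h _)).symm⟩
      have h3 : simAut Q (toSim Q (s * t)) ∈
          Cfsg.Inn (Cfsg.POmega F ⇑Q) ⊔ (simAut Q).range ⊓ Subgroup.centralizer {semiAut g σ h} :=
        Subgroup.mem_sup_left ((H.inn_iff (by rw [map_mul, hs, hd, one_mul])).2 (by rw [map_mul, hth, htth]; rfl))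
      rw [map_mul, map_mul] at h3
      exact (Subgroup.mul_mem_cancel_right _ (Subgroup.mem_sup_right hC)).1 h3
  · intro hord
    rw [splitClassCount_eq_relIndex inn_le_range, sup_eq_left.2 ?_, H.relIndex_inn]
    intro β hβ
    have hβ' : β ∈ ((⊤ : Subgroup (sim Q)).comap D.psi).map ((simAut Q).comp D.psi) := by
      rw [← centralizer_eq hf hD H.nondeg H.five h hg ⊤ (fun c => trivial), ← MonoidHom.range_eq_map]
      exact hβ
    obtain ⟨z, -, rfl⟩ := hβ'
    have H1 := H.sub D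
    obtain ⟨s, hs, e1⟩ := H1.exists_SO z
    have e3 := (Datum.simAut_psi_eq_one_iff H.nondeg H.five D (z * (toSim Q₁ s)⁻¹)).2
      (by rw [map_mul, map_inv, e1, mul_inv_cancel])
    rw [map_mul, map_inv, map_mul, map_inv, mul_inv_eq_one] at e3
    rw [MonoidHom.comp_apply, e3, show D.psi (toSim Q₁ s) = toSim Q (D.psiI s) from rfl]
    have hdt : H.dt (D.psiI s) = 1 := by
      rw [H.dt_eq_one_iff, Datum.psiI_coe, D.det_psiGL, (H1.dt_eq_one_iff s).1 hs, map_one]
    rw [H.inn_iff hdt]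
    let c : O Q₁ →* ℤˣ := (H.th.comp D.psiI).comp (toO Q₁).symm.toMonoidHom
    let d : O Q₁ →* ℤˣ := if sqSign D.k = 1 then 1 else detSign Q₁ H1.nondeg H1.two
    have hcd : c = d := by
      refine hom_ext_rO H1.nondeg H1.two fun v hv => ?_
      have hEv : Q (D.E (e ∘ v)) ≠ 0 := by
        rw [D.spec]; exact mul_ne_zero D.k_ne ((map_ne_zero e).2 hv)
      have hpsi : D.psiI ((toO Q₁).symm (rO Q₁ v)) = reflIso Q (D.E (e ∘ v)) :=
        Subtype.ext (congrArg (fun z : sim Q => z.1) (D.psi_reflSim hv))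
      show H.th (D.psiI ((toO Q₁).symm (rO Q₁ v))) = d (rO Q₁ v)
      rw [hpsi]
      show spinor Q H.nondeg H.two (toO Q (reflIso Q _)) = _
      rw [reflIso, MulEquiv.apply_symm_apply, spinor_rO H.nondeg H.two hEv, D.spec,
        sqSign_mul H.two D.k_ne ((map_ne_zero e).2 hv), sqSign_of_isSquare (isSquare_map_two hf hord _), mul_one]
      rcases Int.units_eq_one_or (sqSign D.k) with hk | hk
      · simp only [d, hk, if_true, MonoidHom.one_apply]
      · simp only [d, hk, show ((-1 : ℤˣ) = 1) ↔ False from by decide, if_false, detSign_rO H1.nondeg H1.two hv]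
    have h' := DFunLike.congr_fun hcd (toO Q₁ s)
    simp only [c, MonoidHom.comp_apply, MulEquiv.coe_toMonoidHom, MulEquiv.symm_apply_apply] at h'
    rw [h']
    by_cases hk : sqSign D.k = 1
    · simp only [d, hk, if_true, MonoidHom.one_apply]
    · simp only [d, hk, if_false]
      exact hs

end OddSpace

theorem field_odd {m : ℕ} (hm : 3 ≤ m) (h2 : (2 : F) ≠ 0) {p f : ℕ} [Fact p.Prime]
    (hF : Fintype.card F = p ^ f) {x : MulAut (Cfsg.POmega F ⇑(formOdd F m))}
    (hx : Cfsg.IsFieldAutClassPOmega ⇑(formOdd F m) x) {r : ℕ} (hr : r.Prime) (hxr : orderOf x = r)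
    (F₀ : Type*) [Field F₀] [Fintype F₀] (hF₀ : Fintype.card F₀ = p ^ (f / r)) :
    r ∣ f ∧
      Nonempty (↥((simAut (formOdd F m)).range ⊓ Subgroup.centralizer {x}) ≃* ↥(simAut (formOdd F₀ m)).range) ∧
      (Odd r → Cfsg.splitClassCount (simAut (formOdd F m)).range (Cfsg.Inn (Cfsg.POmega F ⇑(formOdd F m))) x = 1) ∧
      (r = 2 → Cfsg.splitClassCount (simAut (formOdd F m)).range (Cfsg.Inn (Cfsg.POmega F ⇑(formOdd F m))) x = 2) := by
  have H : OddSpace (formOdd F m) :=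
    ⟨formOdd_nondeg F m h2, h2, ⟨m, by simp; omega⟩, by simp; omega⟩
  obtain ⟨σ, G, hord, rfl, hN, -⟩ :=
    fieldClass_normal (fun τ => fixed_odd) (gamma_odd hm h2) H.nondeg H.five hx hr hxr
  obtain ⟨hd, e, he⟩ := exists_fixedBy (σ := σ) hF hord hF₀
  have hN' : normProd (gmap σ) G.1 (orderOf σ) = 1 := by rw [hord]; exact hN
  obtain ⟨D, hD⟩ := descends_odd (by omega) h2 he (semi_of_sim fixed_odd G) hN'
  obtain ⟨c1, c2⟩ := H.count he hD (semi_of_sim fixed_odd G) hN'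
  obtain ⟨i⟩ := centralizer_iso he hD H.nondeg H.five (semi_of_sim fixed_odd G) hN' ⊤ (fun c => trivial)
  refine ⟨hd, ⟨(MulEquiv.subgroupCongr ?_).trans (i.trans (MulEquiv.subgroupCongr ?_))⟩,
    fun h => c1 (hord ▸ h), fun h => c2 (hord.trans h)⟩
  · rw [← MonoidHom.range_eq_map]
  · rw [Subgroup.comap_top, ← MonoidHom.range_eq_map]

end Cfsg.Agent.H58.OrthoField
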