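import Mathlib
import Cfsg.Agent.H58.OrthoField.Odd
import Cfsg.Agent.H58.LocalBalance

/-!
# Local balance at a descended semilinear automorphism
-/

set_option autoImplicit false
set_option linter.unusedSectionVars false

namespace Cfsg.Agent.H58.OrthoField

open Matrix Module Cfsg.Agent.Orthogonal Cfsg.Agent.H58.OrthoAut Cfsg.Agent.H58.OrthoKlein Cfsg.Agent.H58.Twist
  Cfsg.Agent.H58.OrthoOuter Cfsg.Agent.H58.LocalBalance
open QuadraticMap (polar)

section Even

variable {F : Type*} [Field F] [Finite F] {ι : Type} [Fintype ι] [DecidableEq ι] {Q : QuadraticForm F (ι → F)}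

/-- `PΩ` has even order in odd characteristic. -/
theorem two_dvd_card_POmega (hQ : Nondeg Q) (hn : 5 ≤ Fintype.card ι) (h2 : (2 : F) ≠ 0) :
    2 ∣ Nat.card (Cfsg.POmega F ⇑Q) := by
  obtain ⟨k, a, b, hfr, han⟩ := hQ.exists_frame
  have hk : 2 ≤ k := by
    have hr := hfr.finrank_kernel hQ
    rw [finrank_fintype_fun_eq_card] at hr
    have := finrank_le_two_of_aniso (hfr.nondeg_kernel hQ) han
    omega
  set i₀ : Fin k := ⟨0, by omega⟩
  set i₁ : Fin k := ⟨1, by omega⟩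
  have h01 : i₀ ≠ i₁ := by simp [i₀, i₁]
  have hv : ∀ i, Q (a i + b i) = 1 := fun i => by rw [map_add_polar, hfr.qe, hfr.qf, hfr.ef]; simp
  have hp : polar Q (a i₀ + b i₀) (a i₁ + b i₁) = 0 := by
    simp [QuadraticMap.polar_add_left, QuadraticMap.polar_add_right, hfr.ee, hfr.ff, hfr.ef, hfr.fe, h01]
  set o : O Q := rO Q (a i₀ + b i₀) * rO Q (a i₁ + b i₁) with ho
  have hoΩ : o ∈ commutator (O Q) := by
    rw [mem_commutator_iff hQ h2]
    constructor
    · rw [ho, map_mul, detSign_rO hQ h2 (by rw [hv]; exact one_ne_zero),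
        detSign_rO hQ h2 (by rw [hv]; exact one_ne_zero)]
      rfl
    · rw [ho, map_mul, spinor_rO hQ h2 (by rw [hv]; exact one_ne_zero),
        spinor_rO hQ h2 (by rw [hv]; exact one_ne_zero), hv, hv, Int.units_mul_self]
  have hoo : o * o = 1 := by
    refine O.ext_app fun x => ?_
    simp only [ho, Subgroup.coe_mul, mul_app, rO_app, Subgroup.coe_one, hv, inv_one, one_mul,
      QuadraticMap.polar_sub_right, polar_smul_right', polar_self', hp, QuadraticMap.polar_comm (⇑Q) (a i₁ + b i₁) (a i₀ + b i₀)]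
    show _ = x
    module
  have hne : QuotientGroup.mk' (Subgroup.center (Cfsg.Omega F ⇑Q)) ((omegaEquiv Q).symm ⟨o, hoΩ⟩) ≠ 1 := by
    intro h
    have hc := (QuotientGroup.eq_one_iff _).1 h
    have h1 : ∀ x, (((((omegaEquiv Q).symm ⟨o, hoΩ⟩ : Cfsg.Omega F ⇑Q) : Cfsg.isometryGroup F ⇑Q) : GL ι F) :
        Matrix ι ι F) *ᵥ x = (o : (ι → F) ≃ₗ[F] (ι → F)) x := fun x => by
      rw [← toO_apply, ← coe_omegaEquiv, MulEquiv.apply_symm_apply]
    have hu : (o : (ι → F) ≃ₗ[F] (ι → F)) (a i₀ + b i₀) = -(a i₀ + b i₀) := by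
      simp only [ho, Subgroup.coe_mul, mul_app, rO_app, hv, inv_one, one_mul, QuadraticMap.polar_comm (⇑Q) (a i₁ + b i₁) (a i₀ + b i₀),
        hp, zero_smul, sub_zero, polar_self', mul_one]
      module
    have hd : (o : (ι → F) ≃ₗ[F] (ι → F)) (a i₀ - b i₀) = a i₀ - b i₀ := by
      have hp1 : polar Q (a i₁ + b i₁) (a i₀ - b i₀) = 0 := by
        simp [QuadraticMap.polar_sub_right, QuadraticMap.polar_add_left, hfr.ee, hfr.ff, hfr.ef, hfr.fe, h01.symm]
      have hp0 : polar Q (a i₀ + b i₀) (a i₀ - b i₀) = 0 := by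
        simp [QuadraticMap.polar_sub_right, QuadraticMap.polar_add_left, hfr.ee, hfr.ff, hfr.ef, hfr.fe]
      simp only [ho, Subgroup.coe_mul, mul_app, rO_app, hv, inv_one, one_mul, hp1, hp0, zero_smul, sub_zero]
    have hne0 : ∀ c : F, a i₀ + c • b i₀ ≠ 0 := fun c h0 => by
      have := congrArg (polar Q (b i₀)) h0
      simp [QuadraticMap.polar_add_right, polar_smul_right', hfr.fe, hfr.ff] at this
    rcases center_omega_cases hQ (by rw [finrank_fintype_fun_eq_card]; exact hn) hc with hm | hm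
    · have h3 := h1 (a i₀ + b i₀)
      rw [hm, one_mulVec, hu] at h3
      refine hne0 1 ((smul_eq_zero.1 (show (2 : F) • (a i₀ + (1 : F) • b i₀) = 0 from ?_)).resolve_left h2)
      rw [one_smul, two_smul]
      nth_rewrite 1 [h3]
      exact neg_add_cancel _
    · have h3 := h1 (a i₀ - b i₀)
      rw [hm, neg_mulVec, one_mulVec, hd] at h3
      refine hne0 (-1) ((smul_eq_zero.1 (show (2 : F) • (a i₀ + (-1 : F) • b i₀) = 0 from ?_)).resolve_left h2)
      rw [neg_one_smul, ← sub_eq_add_neg, two_smul]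
      nth_rewrite 1 [← h3]
      exact neg_add_cancel _
  have hord : orderOf (QuotientGroup.mk' (Subgroup.center (Cfsg.Omega F ⇑Q)) ((omegaEquiv Q).symm ⟨o, hoΩ⟩)) = 2 :=
    orderOf_eq_prime (by
      rw [pow_two, ← map_mul, ← map_mul, show (⟨o, hoΩ⟩ : commutator (O Q)) * ⟨o, hoΩ⟩ = 1 from Subtype.ext hoo,
        map_one, map_one]) hne
  exact hord ▸ orderOf_dvd_natCard _

/-- The fourth power of a similitude acts as an inner automorphism. -/
theorem pow_four_mem_inn [Fintype F] (hQ : Nondeg Q) (hn : 5 ≤ Fintype.card ι) (z : sim Q) :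
    simAut Q z ^ 4 ∈ Cfsg.Inn (Cfsg.POmega F ⇑Q) := by
  have hv : ∃ v, Q v ≠ 0 := exists_ne_zero_value hQ (by omega)
  set c := (mu z)⁻¹
  let s : Cfsg.isometryGroup F ⇑Q := ⟨GeneralLinearGroup.scalar ι c * (z * z : sim Q).1,
    (mem_isometryGroup_iff _ _).2 fun v => by
      rw [Units.val_mul, ← mulVec_mulVec, GeneralLinearGroup.coe_scalar, Matrix.scalar_apply,
        ← Matrix.smul_one_eq_diagonal, smul_mulVec, one_mulVec, qmap_smul, mu_spec, mu_mul hv, Units.val_mul,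
        Units.val_inv_eq_inv_val]
      have := (mu z).ne_zero
      field_simp⟩
  have e1 : simAut Q z ^ 4 = simAut Q (toSim Q (s * s)) := by
    rw [map_mul, map_mul, show toSim Q s = ⟨GeneralLinearGroup.scalar ι c, scalar_mem_sim c⟩ * (z * z) from rfl,
      simAut_scalar_mul hQ hn, map_mul]
    simp only [pow_succ, pow_zero, one_mul, mul_assoc]
  rw [e1, inn_eq]
  refine ⟨s * s, ?_, rfl⟩
  show s * s ∈ Cfsg.Omega F ⇑Q
  rw [mem_omega_iff, map_mul]
  by_cases h2 : (2 : F) = 0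
  · have hgen : reflGroup Q = ⊤ :=
      reflGroup_eq_top hQ (Or.inr (by rw [finrank_fintype_fun_eq_card]; omega))
    rw [commutator_eq_ker_dickson hQ hgen h2, MonoidHom.mem_ker, map_mul, Int.units_mul_self]
  · rw [mem_commutator_iff hQ h2, map_mul, map_mul, Int.units_mul_self, Int.units_mul_self]
    exact ⟨rfl, rfl⟩

end Even

section Descended

variable {F : Type*} [Field F] [Fintype F] {F₀ : Type*} [Field F₀] [Fintype F₀] {ι κ : Type} [Fintype ι]
  [DecidableEq ι] [Fintype κ] [DecidableEq κ] {e : F₀ →+* F} {σ : F ≃+* F}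
  {Q : QuadraticForm F (ι → F)} {Q₁ : QuadraticForm F₀ (κ → F₀)} {g : GL ι F} {D : Datum e Q₁ Q}

theorem omega_conj_mem (X : sim Q) (s : Cfsg.isometryGroup F ⇑Q) (hs : s ∈ Cfsg.Omega F ⇑Q) :
    conjIso X s ∈ Cfsg.Omega F ⇑Q :=
  (omegaConj X ⟨s, hs⟩).2

/-- The subgroup coming from `Ω` over the subfield. -/
noncomputable def subOmega (D : Datum e Q₁ Q) : Subgroup (MulAut (Cfsg.POmega F ⇑Q)) :=
  (Cfsg.Omega F₀ ⇑Q₁).map (((simAut Q).comp D.psi).comp (toSim Q₁))

theorem exists_subHom (D : Datum e Q₁ Q) (hQ : Nondeg Q) (hn : 5 ≤ Fintype.card ι) :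
    ∃ f : Cfsg.POmega F₀ ⇑Q₁ →* MulAut (Cfsg.POmega F ⇑Q), Function.Injective f ∧ f.range = subOmega D := by
  let f₀ : Cfsg.Omega F₀ ⇑Q₁ →* MulAut (Cfsg.POmega F ⇑Q) :=
    (((simAut Q).comp D.psi).comp (toSim Q₁)).comp (Cfsg.Omega F₀ ⇑Q₁).subtype
  have hker : ∀ s, f₀ s = 1 ↔ s ∈ Subgroup.center (Cfsg.Omega F₀ ⇑Q₁) := by
    intro s
    show simAut Q (D.psi (toSim Q₁ s.1)) = 1 ↔ _
    rw [Datum.simAut_psi_eq_one_iff hQ hn D, ← QuotientGroup.eq_one_iff,
      ← (conj_injective (D.nondeg hQ) (D.card_eq ▸ hn)).eq_iff, map_one, conj_eq_simAut]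
    rfl
  refine ⟨QuotientGroup.lift _ f₀ fun s hs => (hker s).2 hs, (injective_iff_map_eq_one _).2 fun z hz => ?_, ?_⟩
  · induction z using QuotientGroup.induction_on with | _ s
    exact (QuotientGroup.eq_one_iff s).2 ((hker s).1 hz)
  · ext β
    constructor
    · rintro ⟨z, rfl⟩
      induction z using QuotientGroup.induction_on with | _ s
      exact ⟨s.1, s.2, rfl⟩
    · rintro ⟨s, hs, rfl⟩
      exact ⟨QuotientGroup.mk ⟨s, hs⟩, rfl⟩

theorem subOmega_le (D : Datum e Q₁ Q) (hf : FixedBy e σ) (hD : D.Descends g σ)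
    (h : Cfsg.IsSemisimilarityPair ⇑Q g σ) :
    subOmega D ≤ Cfsg.Inn (Cfsg.POmega F ⇑Q) ⊓ Subgroup.centralizer {semiAut g σ h} := by
  rintro _ ⟨s, hs, rfl⟩
  refine ⟨?_, Subgroup.mem_centralizer_singleton_iff.2 (mul_inv_eq_iff_eq_mul.1 (hD.semiAut_psi hf h _)).symm⟩
  rw [inn_eq]
  exact ⟨D.psiI s, D.map_omega_le ⟨s, hs, rfl⟩, rfl⟩

theorem mem_range_of_inn (hf : FixedBy e σ) (hD : D.Descends g σ) (hQ : Nondeg Q) (hn : 5 ≤ Fintype.card ι)
    (h : Cfsg.IsSemisimilarityPair ⇑Q g σ) (hg : normProd (gmap σ) g (orderOf σ) = 1)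
    {β : MulAut (Cfsg.POmega F ⇑Q)}
    (hβ : β ∈ Cfsg.Inn (Cfsg.POmega F ⇑Q) ⊓ Subgroup.centralizer {semiAut g σ h}) :
    ∃ z : sim Q₁, β = simAut Q (D.psi z) := by
  have hβ' : β ∈ ((⊤ : Subgroup (sim Q)).comap D.psi).map ((simAut Q).comp D.psi) := by
    rw [← centralizer_eq hf hD hQ hn h hg ⊤ (fun c => trivial), ← MonoidHom.range_eq_map]
    exact ⟨inn_le_range hβ.1, hβ.2⟩
  obtain ⟨z, -, rfl⟩ := hβ'
  exact ⟨z, rfl⟩

/-- Only powers of the semilinear automorphism centralise the subfield group. -/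
theorem commutant (hf : FixedBy e σ) (hD : D.Descends g σ) (hQ : Nondeg Q) (hn : 5 ≤ Fintype.card ι)
    (hgam : Cfsg.gammaPOmega F ⇑Q = ⊤) (h : Cfsg.IsSemisimilarityPair ⇑Q g σ)
    {y : MulAut (Cfsg.POmega F ⇑Q)} (hy : ∀ x ∈ subOmega D, y * x = x * y) :
    y ∈ Subgroup.zpowers (semiAut g σ h) := by
  obtain ⟨A, τ, hA, rfl⟩ := exists_semi hgam y
  have hn₁ : 5 ≤ Fintype.card κ := D.card_eq ▸ hn
  have hQ₁ := D.nondeg hQ
  obtain ⟨p, hp'⟩ := CharP.exists F₀
  have hp : p.Prime := (CharP.char_is_prime_or_zero F₀ p).resolve_right (fun h0 => by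
    subst h0
    have := CharP.charP_to_charZero F₀
    exact (not_finite F₀))
  have hpF : CharP F p := (RingHom.charP_iff e e.injective p).1 hp'
  have : Fact p.Prime := ⟨hp⟩
  -- the conjugation by `A τ` fixes the Eichler transformations over the subfield
  let s : ∀ (u w : κ → F₀) (hu : Q₁ u = 0) (hw : polar Q₁ u w = 0), Cfsg.isometryGroup F₀ ⇑Q₁ :=
    fun u w hu hw => (toO Q₁).symm (sie u w hu hw)
  have hfix : ∀ u w hu hw, A * gmap τ (D.psiGL (s u w hu hw).1) = D.psiGL (s u w hu hw).1 * A := by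
    intro u w hu hw
    set P := D.psi (toSim Q₁ (s u w hu hw))
    have hmem : simAut Q P ∈ subOmega D := ⟨_, sie_mem_omega hQ₁ hn₁ u w hu hw, rfl⟩
    have h1 := semiAut_conj hA P
    rw [hy _ hmem, mul_inv_cancel_right] at h1
    have h2 : simAut Q ((semiDatum hA).psi P * P⁻¹) = 1 := by rw [map_mul, map_inv, ← h1, mul_inv_cancel]
    obtain ⟨c, hc⟩ := (simAut_eq_one_iff hQ hn).1 h2
    rw [Subgroup.coe_mul, Subgroup.coe_inv, Datum.psi_coe, semiDatum_psiGL, mul_inv_eq_iff_eq_mul] at hc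
    change A * gmap τ (D.psiGL (s u w hu hw).1) * A⁻¹ = GeneralLinearGroup.scalar ι c * D.psiGL (s u w hu hw).1 at hc
    have hPp : D.psiGL (s u w hu hw).1 ^ p = 1 := by
      rw [← map_pow, show (s u w hu hw).1 ^ p = 1 from congrArg Subtype.val (sieLin_pow u w hu hw), map_one]
    have hpow := congrArg (· ^ p) hc
    simp only [conj_pow, Commute.mul_pow (GeneralLinearGroup.scalar_commute c _), ← map_pow] at hpow
    rw [show (s u w hu hw).1 ^ p = 1 from congrArg Subtype.val (sieLin_pow u w hu hw), map_one, map_one, mul_one,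
      mul_inv_cancel, mul_one] at hpow
    have hcp : (c : F) ^ p = 1 := by
      have := scalar_inj (ι := ι) (by omega) ((map_one _).trans hpow)
      rw [← Units.val_pow_eq_pow_val, ← this, Units.val_one]
    have hc1 : c = 1 := Units.ext (frobenius_inj F p (by simp [frobenius_def, hcp]))
    rw [hc1, map_one, one_mul] at hc
    exact (mul_inv_eq_iff_eq_mul.1 hc)
  let C : (κ → F₀) →+ (κ → F) := AddMonoidHom.mk' (fun x => D.E.symm ((A : Matrix ι ι F) *ᵥ (τ ∘ D.E (e ∘ x))))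
    fun x z => by
      rw [comp_add, map_add, show (τ ∘ (D.E (e ∘ x) + D.E (e ∘ z)) : ι → F) = τ ∘ D.E (e ∘ x) + τ ∘ D.E (e ∘ z) from
        funext fun i => map_add τ _ _, mulVec_add, map_add]
  have hC : ∀ u w hu hw x, C ((sie u w hu hw : (κ → F₀) ≃ₗ[F₀] (κ → F₀)) x) =
      ((s u w hu hw).1 : Matrix κ κ F₀).map e *ᵥ C x := by
    intro u w hu hw x
    refine D.E.injective ?_
    rw [← D.psiGL_mulVec]
    show D.E (D.E.symm _) = _ *ᵥ D.E (D.E.symm _)
    rw [D.E.apply_symm_apply, D.E.apply_symm_apply, mulVec_mulVec, ← Units.val_mul, ← hfix, Units.val_mul,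
      ← mulVec_mulVec]
    congr 1
    rw [show (sie u w hu hw : (κ → F₀) ≃ₗ[F₀] (κ → F₀)) x = ((s u w hu hw).1 : Matrix κ κ F₀) *ᵥ x from
      (toO_symm_apply _ _ _).symm, ← D.psiGL_base]
    exact funext fun j => RingHom.map_mulVec (τ : F →+* F) _ _ j
  letI := e.toAlgebra
  obtain ⟨a, ha⟩ : ∃ a : F, ∀ x, C x = a • (e ∘ x) := by
    have hl : ∀ l : F →ₗ[F₀] F₀, ∃ c : F₀, ∀ x i, l (C x i) = c * x i := by
      intro l
      let Cl : (κ → F₀) →+ (κ → F₀) := AddMonoidHom.mk' (fun x i => l (C x i)) fun x z => by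
        funext i; simp
      obtain ⟨c, hc⟩ := eq_scalar_of_commute hQ₁ hn₁ Cl fun u w hu hw x => by
        funext i
        show l (C ((sie u w hu hw : (κ → F₀) ≃ₗ[F₀] (κ → F₀)) x) i) =
          (sie u w hu hw : (κ → F₀) ≃ₗ[F₀] (κ → F₀)) (fun j => l (C x j)) i
        rw [hC, show (sie u w hu hw : (κ → F₀) ≃ₗ[F₀] (κ → F₀)) (fun j => l (C x j))
          = ((s u w hu hw).1 : Matrix κ κ F₀) *ᵥ (fun j => l (C x j)) from (toO_symm_apply _ _ _).symm]
        simp only [mulVec, dotProduct, Matrix.map_apply, map_sum]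
        refine Finset.sum_congr rfl fun j _ => ?_
        rw [show e (((s u w hu hw).1 : Matrix κ κ F₀) i j) * C x j
          = ((s u w hu hw).1 : Matrix κ κ F₀) i j • C x j from (Algebra.smul_def _ _).symm, map_smul, smul_eq_mul]
      exact ⟨c, fun x i => congrFun (hc x) i⟩
    obtain ⟨i₀⟩ : Nonempty κ := Fintype.card_pos_iff.1 (by omega)
    refine ⟨C (Pi.single i₀ 1) i₀, fun x => funext fun i => ?_⟩
    rw [← sub_eq_zero]
    refine (Module.forall_dual_apply_eq_zero_iff F₀ _).1 fun l => ?_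
    obtain ⟨c, hc⟩ := hl l
    rw [map_sub, hc, Pi.smul_apply, Function.comp_apply, smul_eq_mul, mul_comm (C _ i₀),
      show e (x i) * C (Pi.single i₀ 1) i₀ = x i • C (Pi.single i₀ 1) i₀ from (Algebra.smul_def _ _).symm,
      map_smul, hc, Pi.single_eq_same, mul_one, smul_eq_mul, mul_comm, sub_self]
  have hT : ∀ x : κ → F₀, (A : Matrix ι ι F) *ᵥ (τ ∘ D.E (e ∘ x)) = a • D.E (e ∘ x) := fun x => by
    rw [← map_smul, ← ha]
    exact (D.E.apply_symm_apply _).symm
  obtain ⟨i₀⟩ : Nonempty κ := Fintype.card_pos_iff.1 (by omega)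
  have ha0 : a ≠ 0 := by
    intro h0
    have h1 := hT (Pi.single i₀ 1)
    rw [h0, zero_smul] at h1
    have h2 : τ ∘ D.E (e ∘ Pi.single i₀ 1) = (0 : ι → F) := by
      have := congrArg (fun v => ((A⁻¹ : GL ι F) : Matrix ι ι F) *ᵥ v) h1
      simpa [mulVec_mulVec, ← Units.val_mul] using this
    have h3 : D.E (e ∘ Pi.single i₀ 1) = 0 := funext fun i => τ.injective ((congrFun h2 i).trans (map_zero τ).symm)
    have h4 := congrFun ((LinearEquiv.map_eq_zero_iff _).1 h3) i₀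
    simp at h4
  have hτ : ∀ t, τ (e t) = e t := by
    intro t
    have h1 := hT (t • Pi.single i₀ 1)
    rw [comp_smul', map_smul, show (τ ∘ (e t • D.E (e ∘ Pi.single i₀ 1)) : ι → F)
      = τ (e t) • (τ ∘ D.E (e ∘ Pi.single i₀ 1)) from funext fun i => _root_.map_mul τ _ _, mulVec_smul, hT,
      smul_smul, smul_smul, ← map_smul, ← map_smul] at h1
    have h2 := congrFun (D.E.injective h1) i₀
    simp only [Pi.smul_apply, Function.comp_apply, Pi.single_eq_same, map_one, smul_eq_mul, mul_one] at h2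
    exact mul_right_cancel₀ ha0 (by linear_combination h2)
  have := Descent.finite_ringEquiv (F := F)
  obtain ⟨⟨τ', hτ'⟩, hg'⟩ := FixedPoints.toAlgAut_surjective (Subgroup.zpowers σ) F
    (AlgEquiv.ofRingEquiv (f := τ) fun x : FixedPoints.subfield (Subgroup.zpowers σ) F => by
      obtain ⟨t, ht⟩ := (hf _).1 ((Descent.mem_fixedField σ).1 x.2)
      show τ (x : F) = x
      rw [← ht, hτ])
  obtain ⟨k, hk⟩ := (isOfFinOrder_of_finite σ).mem_powers_iff_mem_zpowers.2 hτ'
  have hk' : σ ^ k = τ' := hk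
  have hτk : σ ^ k = τ := RingEquiv.ext fun z => by rw [hk']; exact DFunLike.congr_fun hg' z
  subst hτk
  obtain ⟨hk2, ek⟩ := semi_pow h k
  have hN : ∀ (j : ℕ) (x : κ → F₀), ((normProd (gmap σ) g j : GL ι F) : Matrix ι ι F) *ᵥ ((σ ^ j : F ≃+* F) ∘ D.E (e ∘ x))
      = D.E (e ∘ x) := by
    intro j x
    induction j with
    | zero => rw [normProd, Units.val_one, one_mulVec]; rfl
    | succ j ih =>
      rw [normProd_succ, Units.val_mul, ← mulVec_mulVec, pow_succ']
      have h1 : ((gmap σ (normProd (gmap σ) g j) : GL ι F) : Matrix ι ι F) *ᵥ ((σ * σ ^ j : F ≃+* F) ∘ D.E (e ∘ x))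
          = σ ∘ (((normProd (gmap σ) g j : GL ι F) : Matrix ι ι F) *ᵥ ((σ ^ j : F ≃+* F) ∘ D.E (e ∘ x))) :=
        funext fun i => (RingHom.map_mulVec (σ : F →+* F) _ _ i).symm
      rw [h1, ih, hD]
  have hAN : A = GeneralLinearGroup.scalar ι (Units.mk0 a ha0) * normProd (gmap σ) g k := by
    refine Units.ext (Matrix.toLin'.injective ?_)
    let E' := baseEquiv ((σ ^ k : F ≃+* F) : F →+* F) D.E
    have h1 : (Matrix.toLin' (A : Matrix ι ι F)).comp (E' : (κ → F) →ₗ[F] (ι → F))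
        = (Matrix.toLin' ((GeneralLinearGroup.scalar ι (Units.mk0 a ha0) * normProd (gmap σ) g k : GL ι F) :
            Matrix ι ι F)).comp (E' : (κ → F) →ₗ[F] (ι → F)) := by
      refine linear_ext_base e fun x => ?_
      have e1 : E' (e ∘ x) = (σ ^ k : F ≃+* F) ∘ D.E (e ∘ x) := by
        have e0 : (e ∘ x : κ → F) = ((σ ^ k : F ≃+* F) : F →+* F) ∘ (e ∘ x) := funext fun i => (hτ (x i)).symm
        exact (congrArg E' e0).trans (baseEquiv_apply _ D.E (e ∘ x))
      simp only [LinearMap.comp_apply, LinearEquiv.coe_coe, Matrix.toLin'_apply, e1]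
      rw [hT, Units.val_mul, ← mulVec_mulVec, hN, GeneralLinearGroup.coe_scalar, Matrix.scalar_apply,
        ← Matrix.smul_one_eq_diagonal, smul_mulVec, one_mulVec, Units.val_mk0]
    refine LinearMap.ext fun v => ?_
    obtain ⟨z, rfl⟩ := E'.surjective v
    exact LinearMap.congr_fun h1 z
  obtain ⟨h', he'⟩ := semiAut_scalar hk2 hQ hn (Units.mk0 a ha0)
  rw [semi_congr hA h' hAN rfl, he', ← ek]
  exact Subgroup.pow_mem _ (Subgroup.mem_zpowers _) k

/-- The criterion at a descended semilinear automorphism of prime order. -/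
theorem core_iff (hf : FixedBy e σ) (hD : D.Descends g σ) (hQ : Nondeg Q) (hn : 5 ≤ Fintype.card ι)
    (hgam : Cfsg.gammaPOmega F ⇑Q = ⊤) (h : Cfsg.IsSemisimilarityPair ⇑Q g σ)
    (hg : normProd (gmap σ) g (orderOf σ) = 1) {p : ℕ} [hp : Fact p.Prime] (hpF : (p : F) ≠ 0)
    (hord : orderOf (semiAut g σ h) = p) (hσ : σ ≠ RingEquiv.refl F)
    (A : Subgroup (MulAut (Cfsg.POmega F ⇑Q))) (hle : Cfsg.Inn (Cfsg.POmega F ⇑Q) ≤ A) :
    Cfsg.pPrimeCore p ↥(A ⊓ Subgroup.centralizer {semiAut g σ h}) ≠ ⊥ ↔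
      Nat.Coprime p (Nat.card ↥(MonoidHom.eqLocus (semiAut g σ h).toMonoidHom (MonoidHom.id (Cfsg.POmega F ⇑Q)))) := by
  have hn₁ : 5 ≤ Fintype.card κ := D.card_eq ▸ hn
  have hQ₁ := D.nondeg hQ
  have hsimple : IsSimpleGroup (Cfsg.POmega F₀ ⇑Q₁) :=
    isSimpleGroup_POmega hQ₁ (by rw [finrank_fintype_fun_eq_card]; exact hn₁)
  obtain ⟨f, hfinj, hfr⟩ := exists_subHom D hQ hn
  have hfin : Finite (MulAut (Cfsg.POmega F ⇑Q)) := by
    have : Finite (Cfsg.POmega F ⇑Q) := Finite.of_surjective _ (QuotientGroup.mk'_surjective _)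
    exact Finite.of_injective (fun e => (e : _ → _)) DFunLike.coe_injective
  have hS := subOmega_le D hf hD h
  have hne : Cfsg.Inn (Cfsg.POmega F ⇑Q) ⊓ Subgroup.centralizer {semiAut g σ h} ≠ ⊥ := by
    intro hbot
    have h1 : f.range = ⊥ := le_bot_iff.1 (hfr.le.trans (hS.trans hbot.le))
    obtain ⟨z, hz⟩ := exists_ne (1 : Cfsg.POmega F₀ ⇑Q₁)
    exact hz (hfinj ((Subgroup.mem_bot.1 (h1 ▸ ⟨z, rfl⟩)).trans (map_one f).symm))
  rw [core_ne_bot_iff A hle hord hne ?_ ?_,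
    ← card_inn_inf_centralizer (conj_injective hQ hn) (semiAut g σ h)]
  · intro hd
    refine noPrimeSub_of (S := subOmega D) hS ?_ ?_ ?_
    · intro γ hγ x hx
      obtain ⟨z, rfl⟩ := mem_range_of_inn hf hD hQ hn h hg hγ
      obtain ⟨s, hs, rfl⟩ := hx
      refine ⟨conjIso z s, omega_conj_mem z s hs, ?_⟩
      show simAut Q (D.psi (toSim Q₁ (conjIso z s))) = _
      rw [Setup.toSim_conj, map_mul, map_mul, map_inv, map_mul, map_mul, map_inv]
      rfl
    · rw [← hfr]
      refine sub_of_hom f hfinj (simple_normal ?_)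
      by_cases hp2 : p = 2
      · subst hp2
        exact two_dvd_card_POmega hQ₁ hn₁ fun h0 => hpF (by
          rw [← map_natCast e, show ((2 : ℕ) : F₀) = 0 by exact_mod_cast h0, map_zero])
      · have hfin₁ : Finite (Cfsg.POmega F₀ ⇑Q₁) := Finite.of_surjective _ (QuotientGroup.mk'_surjective _)
        have hfin₂ : Finite (MulAut (Cfsg.POmega F₀ ⇑Q₁)) :=
          Finite.of_injective (fun e => (e : _ → _)) DFunLike.coe_injective
        have hd1 : p ∣ Nat.card (simAut Q₁).range := by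
          let L := (⊤ : Subgroup (sim Q₁))
          have hdvd : Nat.card ↥(Cfsg.Inn (Cfsg.POmega F ⇑Q) ⊓ Subgroup.centralizer {semiAut g σ h}) ∣
              Nat.card ((simAut Q).comp D.psi).range :=
            Subgroup.card_dvd_of_le fun β hβ => by
              obtain ⟨z, rfl⟩ := mem_range_of_inn hf hD hQ hn h hg hβ
              exact ⟨z, rfl⟩
          have hk : ((simAut Q).comp D.psi).ker = (simAut Q₁).ker := by
            ext z
            exact Datum.simAut_psi_eq_one_iff hQ hn D z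
          have he : Nat.card ((simAut Q).comp D.psi).range = Nat.card (simAut Q₁).range := by
            rw [← Subgroup.index_ker, hk, Subgroup.index_ker]
          exact he ▸ hd.trans hdvd
        obtain ⟨⟨_, z, rfl⟩, hz⟩ := exists_prime_orderOf_dvd_card' p hd1
        rw [← Subgroup.orderOf_coe] at hz
        have hmem : simAut Q₁ z ∈ Cfsg.Inn (Cfsg.POmega F₀ ⇑Q₁) := by
          have h4 := pow_four_mem_inn hQ₁ hn₁ z
          have hco : (4 : ℕ).Coprime (orderOf (simAut Q₁ z)) := by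
            have h2p : Nat.Coprime 2 p := (Nat.coprime_primes Nat.prime_two hp.out).2 (Ne.symm hp2)
            rw [show orderOf (simAut Q₁ z) = p from hz, show (4 : ℕ) = 2 ^ 2 from rfl]
            exact h2p.pow_left 2
          obtain ⟨j, hj⟩ := exists_pow_eq_self_of_coprime hco
          rw [← hj]
          exact Subgroup.pow_mem _ h4 j
        have hI : Nat.card (Cfsg.Inn (Cfsg.POmega F₀ ⇑Q₁)) = Nat.card (Cfsg.POmega F₀ ⇑Q₁) :=
          (Nat.card_congr (MonoidHom.ofInjective (conj_injective hQ₁ hn₁)).toEquiv).symm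
        rw [← hI]
        exact hz ▸ Subgroup.orderOf_dvd_natCard _ hmem
    · intro x hx hs
      obtain ⟨k, hk⟩ := Subgroup.mem_zpowers_iff.1 (commutant hf hD hQ hn hgam h (y := x) hs)
      obtain ⟨j, hj⟩ : ∃ j : ℕ, semiAut g σ h ^ j = x := by
        obtain ⟨j, hj⟩ := (isOfFinOrder_of_finite (semiAut g σ h)).mem_powers_iff_mem_zpowers.2
          (Subgroup.mem_zpowers_iff.2 ⟨k, hk⟩)
        exact ⟨j, hj⟩
      obtain ⟨z, hz⟩ := inn_le_range hx.1
      obtain ⟨h3, e3⟩ := semi_pow h j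
      have hσj : σ ^ j = RingEquiv.refl F := by
        refine semiAut_field h3 (semi_sim z.2) hQ hn ?_
        rw [← e3, hj, ← hz, simAut_eq]
      have hoσ : orderOf σ = p := by
        obtain ⟨hp', e4⟩ := semi_pow h p
        rw [show semiAut g σ h ^ p = 1 by rw [← hord]; exact pow_orderOf_eq_one _] at e4
        exact orderOf_eq_prime (eq_of_semiAut_eq_one hp' hQ hn e4.symm).1 hσ
      have hdvd : p ∣ j := hoσ ▸ orderOf_dvd_of_pow_eq_one hσj
      rw [← hj]
      exact orderOf_dvd_iff_pow_eq_one.1 (hord ▸ hdvd)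
  · exact fun y _ hy => commutant hf hD hQ hn hgam h fun x hx => hy x (hS hx)

end Descended

end Cfsg.Agent.H58.OrthoField
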