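import Mathlib
import Cfsg.Agent.H58.OrthoField.Balance

/-!
# Local balance: automorphisms outside the similitude group
-/

set_option autoImplicit false
set_option linter.unusedSectionVars false

namespace Cfsg.Agent.H58.OrthoField

open Matrix Module Cfsg.Agent.Orthogonal Cfsg.Agent.H58.OrthoAut Cfsg.Agent.H58.OrthoKlein Cfsg.Agent.H58.Twist
  Cfsg.Agent.H58.OrthoOuter Cfsg.Agent.H58.LocalBalance
open QuadraticMap (polar)

theorem natCast_ne_zero_of_ne {F : Type*} [Field F] {r p : ℕ} [CharP F r] [hr : Fact r.Prime] [hp : Fact p.Prime]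
    (h : p ≠ r) : (p : F) ≠ 0 := fun h0 =>
  h ((Nat.prime_dvd_prime_iff_eq hr.out hp.out).1 ((CharP.cast_eq_zero_iff F r p).1 h0)).symm

theorem balance_odd {F : Type*} [Field F] [Fintype F] {m : ℕ} (hm : 3 ≤ m) (h2 : (2 : F) ≠ 0) {p : ℕ}
    [hp : Fact p.Prime] (hpF : (p : F) ≠ 0) (A : Subgroup (MulAut (Cfsg.POmega F ⇑(formOdd F m))))
    (hle : Cfsg.Inn (Cfsg.POmega F ⇑(formOdd F m)) ≤ A) (x : MulAut (Cfsg.POmega F ⇑(formOdd F m)))
    (hord : orderOf x = p) (hnot : x ∉ (simAut (formOdd F m)).range) :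
    Cfsg.pPrimeCore p ↥(A ⊓ Subgroup.centralizer {x}) ≠ ⊥ ↔
      (Cfsg.IsFieldAutClassPOmega ⇑(formOdd F m) x ∧
        Nat.Coprime p (Nat.card ↥(MonoidHom.eqLocus x.toMonoidHom (MonoidHom.id (Cfsg.POmega F ⇑(formOdd F m)))))) := by
  have hn : 5 ≤ Fintype.card (Unit ⊕ (Fin m ⊕ Fin m)) := by simp; omega
  have hQ := formOdd_nondeg F m h2
  have hgam := gamma_odd (F := F) hm h2
  obtain ⟨g, σ, hg, rfl⟩ := exists_semi hgam x
  have hσ : σ ≠ RingEquiv.refl F := by
    rintro rfl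
    exact hnot ⟨⟨g, sim_of_semi hg⟩, (semiAut_eq_simAut hg).symm⟩
  obtain ⟨hoσ, G, hG, he, hN1⟩ := exists_normProd_one hg hQ hn hσ hp.out (pow_eq_one_of_orderOf hord)

  rw [← he] at hord ⊢
  have hf := fixedBy_subtype σ
  letI : Fintype (Descent.fixedField σ) := Fintype.ofFinite _
  have hN' : normProd (gmap σ) G (orderOf σ) = 1 := by rw [hoσ]; exact hN1
  obtain ⟨D, hD⟩ := descends_odd (by omega) h2 hf hG hN'
  obtain ⟨P, hP⟩ := exists_conj hf hD
    (show (baseOdd (Descent.fixedField σ).subtype m :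
      Datum _ (formOdd (Descent.fixedField σ) m) (formOdd F m)).Descends 1 σ from fun v => by
      show (1 : Matrix _ _ F) *ᵥ (σ ∘ ((Descent.fixedField σ).subtype ∘ v)) = (Descent.fixedField σ).subtype ∘ v
      rw [one_mulVec]
      exact funext fun i => hf.apply (v i))
    hG (semi_fixed fixed_odd)
  have hclass : Cfsg.IsFieldAutClassPOmega ⇑(formOdd F m) (semiAut G σ hG) :=
    ⟨simAut _ P, _, σ, hσ, isFieldAut_fld fixed_odd, hP⟩
  rw [core_iff hf hD hQ hn hgam hG hN' hpF hord hσ A hle]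
  exact ⟨fun h => ⟨hclass, h⟩, fun h => h.2⟩

end Cfsg.Agent.H58.OrthoField
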