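import Mathlib
import Cfsg.Agent.H58.FormCore
import Cfsg.Agent.H58.OrthoField.Balance

/-!
# Blocks of the centraliser of a similitude with scalar square

A block is a symmetric space over `K = F` or `K = F(√c)` sitting in the quadratic space so that the
similitude acts on it as multiplication by `θ`.
-/

set_option autoImplicit false
set_option linter.unusedSectionVars false

namespace Cfsg.Agent.H58.OrthoField

open Matrix Module Cfsg.Agent.Orthogonal Cfsg.Agent.H58.OrthoAut Cfsg.Agent.H58.OrthoKlein Cfsg.Agent.H58.Twist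
  Cfsg.Agent.H58.OrthoOuter Cfsg.Agent.H58.FormSim Cfsg.Agent.H58.FormInvariants Cfsg.Agent.H58.FormRoot
open QuadraticMap (polar)

universe u

theorem bf_sims {K : Type*} [Field K] {κ : Type} [Fintype κ] [DecidableEq κ] {H A : Matrix κ κ K} {c : K}
    (h : Sims H A c) (u z : κ → K) : bf H (A *ᵥ u) (A *ᵥ z) = c * bf H u z := by
  rw [bf_mulVec, h, bf_smul_mat]

/-! ### Additive maps and root elements -/

section Roots

variable {K : Type u} [Field K] {n : ℕ} {H : Matrix (Fin n) (Fin n) K}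

/-- A property of all roots. -/
def ForRoots (H : Matrix (Fin n) (Fin n) K) (P : Matrix (Fin n) (Fin n) K → Prop) : Prop :=
  ∀ v x, bf H v v = 0 → bf H v x = 0 → P (rt H v x)

variable (hn : 3 ≤ n) (hd : H.det ≠ 0) (hs : Hᵀ = H) (h2 : (2 : K) ≠ 0) [Fintype K]

include hn hd hs h2

/-- An additive map killing every `S z - z` is zero. -/
theorem eq_zero_of_roots {G : Type*} [AddCommGroup G] (f : (Fin n → K) →+ G)
    (hf : ∀ v x, bf H v v = 0 → bf H v x = 0 → ∀ z, f (rt H v x *ᵥ z) = f z) : f = 0 := by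
  have hD : ∀ v x, bf H v v = 0 → bf H v x = 0 → ∀ z,
      f (bf H v z • x - (bf H x z + bf H x x / 2 * bf H v z) • v) = 0 := fun v x hv hvx z => by
    have h := hf v x hv hvx z
    rw [rt_mulVec, show z + bf H v z • x - (bf H x z + bf H x x / 2 * bf H v z) • v
      = z + (bf H v z • x - (bf H x z + bf H x x / 2 * bf H v z) • v) by abel, map_add] at h
    exact add_eq_left.1 h
  obtain ⟨v, w, hv, hw, hvw⟩ := FormCore.exists_singular hn hd hs h2
  obtain ⟨p, hvp, hwp, hpp⟩ := FormCore.exists_aniso_perp hn hd hs h2 hv hw hvw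
  have hline : ∀ u, bf H u u = 0 → bf H u p = 0 → ∀ t : K, f (t • u) = 0 := by
    intro u hu hup t
    have h := hD u ((-t / bf H p p) • p) hu (by rw [bf_smul_right, hup, mul_zero]) p
    rw [hup, zero_smul, zero_sub, mul_zero, add_zero, bf_smul_left, div_mul_cancel₀ _ hpp, neg_smul, neg_neg] at h
    exact h
  have hperp : ∀ x, bf H v x = 0 → f x = 0 := by
    intro x hvx
    have h := hD v x hv hvx w
    rw [hvw, one_smul, mul_one, map_sub, hline v hv hvp, sub_zero] at h
    exact h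
  refine AddMonoidHom.ext fun z => ?_
  rw [show z = (z - bf H v z • w) + bf H v z • w by abel, map_add, hline w hw hwp,
    hperp _ (by rw [bf_sub_right, bf_smul_right, hvw, mul_one, sub_self]), add_zero]
  rfl

/-- An additive map commuting with every root element is a scalar. -/
theorem scalar_of_roots (C : (Fin n → K) →+ (Fin n → K))
    (hC : ∀ v x, bf H v v = 0 → bf H v x = 0 → ∀ z, C (rt H v x *ᵥ z) = rt H v x *ᵥ C z) :
    ∃ k : K, ∀ z, C z = k • z := by
  obtain ⟨v, w, hv, hw, hvw⟩ := FormCore.exists_singular hn hd hs h2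
  obtain ⟨p, hvp, hwp, hpp⟩ := FormCore.exists_aniso_perp hn hd hs h2 hv hw hvw
  have hD : ∀ u x, bf H u u = 0 → bf H u x = 0 → ∀ z,
      C (bf H u z • x - (bf H x z + bf H x x / 2 * bf H u z) • u)
        = bf H u (C z) • x - (bf H x (C z) + bf H x x / 2 * bf H u (C z)) • u := fun u x hu hux z => by
    have h := hC u x hu hux z
    rw [rt_mulVec, rt_mulVec, show z + bf H u z • x - (bf H x z + bf H x x / 2 * bf H u z) • u
      = z + (bf H u z • x - (bf H x z + bf H x x / 2 * bf H u z) • u) by abel, map_add,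
      add_sub_assoc, add_right_inj] at h
    exact h
  -- on a singular vector and on its orthogonal space
  have key : ∀ u, bf H u u = 0 → bf H u p = 0 → u ≠ 0 → ∃ ρ : K, (∀ t : K, C (t • u) = (t * ρ) • u) ∧
      ∀ y, bf H u y = 0 → bf H u (C y) = 0 ∧ ∀ x, bf H u x = 0 → bf H x (C y) = ρ * bf H x y := by
    intro u hu hup hu0
    have h1 : ∀ y, bf H u y = 0 → ∀ x, bf H u x = 0 → C (bf H x y • u) =
        (bf H x (C y) + bf H x x / 2 * bf H u (C y)) • u - bf H u (C y) • x := fun y hy x hx => by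
      have h := hD u x hu hx y
      rw [hy, zero_smul, mul_zero, add_zero, zero_sub, map_neg] at h
      rw [← neg_sub, ← h, neg_neg]
    have hCu : ∀ y, bf H u y = 0 → bf H u (C y) = 0 := by
      intro y hy
      have e1 := h1 y hy p hup
      have e2 := h1 y hy (p + p) (by rw [bf_add_right, hup, add_zero])
      rw [bf_add_left, add_smul, map_add, e1] at e2
      simp only [bf_add_left, bf_add_right, smul_add] at e2
      have e3 : (bf H p p * bf H u (C y)) • u = 0 := by
        rw [← sub_eq_zero] at e2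
        rw [← neg_eq_zero, ← e2]
        match_scalars <;> field_simp <;> ring
      exact (mul_eq_zero.1 ((smul_eq_zero.1 e3).resolve_right hu0)).resolve_left hpp
    refine ⟨bf H p (C ((bf H p p)⁻¹ • p)), fun t => ?_, fun y hy => ⟨hCu y hy, fun x hx => ?_⟩⟩
    · have h := h1 ((bf H p p)⁻¹ • p) (by rw [bf_smul_right, hup, mul_zero]) (t • p) (by rw [bf_smul_right, hup, mul_zero])
      rw [hCu _ (by rw [bf_smul_right, hup, mul_zero]), zero_smul, sub_zero, mul_zero, add_zero, bf_smul_left,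
        bf_smul_left, bf_smul_right, inv_mul_cancel₀ hpp, mul_one] at h
      exact h
    · have h := h1 y hy x hx
      have h' := h1 ((bf H p p)⁻¹ • p) (by rw [bf_smul_right, hup, mul_zero]) ((bf H x y) • p)
        (by rw [bf_smul_right, hup, mul_zero])
      rw [hCu _ (by rw [bf_smul_right, hup, mul_zero]), zero_smul, sub_zero, mul_zero, add_zero, bf_smul_left,
        bf_smul_left, bf_smul_right, inv_mul_cancel₀ hpp, mul_one] at h'
      rw [hCu y hy, zero_smul, sub_zero, mul_zero, add_zero, h'] at h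
      rw [← smul_left_injective K hu0 h, mul_comm]
  have hv0 : v ≠ 0 := fun h => by rw [h, bf_zero_left] at hvw; exact zero_ne_one hvw
  have hw0 : w ≠ 0 := fun h => by rw [h, bf_zero_right] at hvw; exact zero_ne_one hvw
  obtain ⟨ρ, hρ, hρ'⟩ := key v hv hvp hv0
  obtain ⟨ρ₁, hρ₁, hρ₁'⟩ := key w hw hwp hw0
  have hp1 := (hρ' p hvp).2 p hvp
  rw [(hρ₁' p hwp).2 p hwp] at hp1
  have hρρ : ρ₁ = ρ := mul_right_cancel₀ hpp hp1
  subst hρρ
  refine ⟨ρ₁, fun z => ?_⟩
  set q := z - bf H w z • v - bf H v z • w with hqdef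
  have hq1 : bf H v q = 0 := by rw [hqdef]; simp [bf_sub_right, bf_smul_right, hv, hvw]
  have hq2 : bf H w q = 0 := by rw [hqdef]; simp [bf_sub_right, bf_smul_right, hw, bf_comm hs w v, hvw]
  have hq : C q = ρ₁ • q := by
    rw [← sub_eq_zero]
    refine bf_eq_zero_left hd fun y => ?_
    rw [bf_comm hs, show y = (y - bf H v y • w) + bf H v y • w by abel, bf_add_left, bf_smul_left,
      bf_sub_right H (y - _), bf_sub_right H w, bf_smul_right, bf_smul_right,
      (hρ' q hq1).2 _ (by rw [bf_sub_right, bf_smul_right, hvw, mul_one, sub_self]), (hρ₁' q hq2).1, hq2]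
    ring
  rw [show z = q + bf H w z • v + bf H v z • w by rw [hqdef]; abel, map_add, map_add, hq, hρ, hρ₁, smul_add,
    smul_add, smul_smul, smul_smul, mul_comm ρ₁, mul_comm ρ₁]

/-- A vector fixed by every root element is zero. -/
theorem fixed_eq_zero (z : Fin n → K) (hz : ∀ v x, bf H v v = 0 → bf H v x = 0 → rt H v x *ᵥ z = z) : z = 0 := by
  refine bf_eq_zero_left hd fun y => ?_
  rw [bf_comm hs]
  let f : (Fin n → K) →+ K := AddMonoidHom.mk' (fun y => bf H y z) fun a b => bf_add_left H a b z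
  have h : f = 0 := eq_zero_of_roots hn hd hs h2 f fun v x hv hvx y => by
    show bf H (rt H v x *ᵥ y) z = bf H y z
    conv_lhs => rw [← hz v x hv hvx]
    rw [bf_sims (rt_sims hs h2 hv hvx), one_mul]
  exact DFunLike.congr_fun h y

end Roots

/-! ### Blocks -/

section Blocks

variable {F : Type u} [Field F] [Fintype F] {ι : Type} [Fintype ι] [DecidableEq ι]

/-- A block of `g` over `K`. -/
structure Block (Q : QuadraticForm F (ι → F)) (g : Matrix ι ι F) (K : Type u) [Field K] where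
  /-- the dimension -/
  n : ℕ
  /-- the embedding of the scalars -/
  e : F →+* K
  /-- the eigenvalue -/
  θ : K
  /-- the inclusion -/
  E : (Fin n → K) →+ (ι → F)
  /-- the projection -/
  P : (ι → F) →+ (Fin n → K)
  /-- the matrix of the form -/
  H : Matrix (Fin n) (Fin n) K
  /-- the functional -/
  l : K →+ F
  /-- the projection as a combination of `1` and `g` -/
  α : F
  /-- the projection as a combination of `1` and `g` -/
  β : F
  symm : Hᵀ = H
  P_E : ∀ z, P (E z) = z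
  g_E : ∀ z, g *ᵥ E z = E (θ • z)
  E_smul : ∀ (t : F) z, E (e t • z) = t • E z
  E_P : ∀ w, E (P w) = α • w + β • (g *ᵥ w)
  l_polar : ∀ z w, polar Q (E z) w = l (bf H z (P w))
  l_nondeg : ∀ k, (∀ a, l (a * k) = 0) → k = 0
  gen : ∀ k : K, ∃ s t : F, k = e s + e t * θ

/-- The isometries of `Q` commuting with `g`. -/
def cent (Q : QuadraticForm F (ι → F)) (g : GL ι F) : Subgroup (Cfsg.isometryGroup F ⇑Q) :=
  (Subgroup.centralizer {g}).comap (Cfsg.isometryGroup F ⇑Q).subtype

variable {Q : QuadraticForm F (ι → F)} {g : GL ι F} {K : Type u} [Field K]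

/-- The action on vectors. -/
abbrev cv (s : cent Q g) (w : ι → F) : ι → F := (s.1.1 : Matrix ι ι F) *ᵥ w

theorem cv_comm (s : cent Q g) (w : ι → F) :
    (g : Matrix ι ι F) *ᵥ cv s w = cv s ((g : Matrix ι ι F) *ᵥ w) := by
  have h : s.1.1 * g = g * s.1.1 := Subgroup.mem_centralizer_singleton_iff.1 s.2
  rw [cv, cv, mulVec_mulVec, mulVec_mulVec, ← Units.val_mul, ← Units.val_mul, h]

theorem cv_polar (s : cent Q g) (v w : ι → F) : polar Q (cv s v) (cv s w) = polar Q v w := by
  have h := (mem_isometryGroup_iff _ _).1 s.1.2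
  simp only [cv, polar, ← mulVec_add, h]

theorem cv_mul (s t : cent Q g) (w : ι → F) : cv (s * t) w = cv s (cv t w) := by
  rw [cv, cv, cv, mulVec_mulVec, ← Units.val_mul]
  rfl

theorem cv_one (w : ι → F) : cv (1 : cent Q g) w = w := one_mulVec w

namespace Block

variable (B : Block Q (g : Matrix ι ι F) K)

theorem E_injective : Function.Injective B.E := fun z z' h => by rw [← B.P_E z, h, B.P_E]

theorem P_g (w : ι → F) : B.P ((g : Matrix ι ι F) *ᵥ w) = B.θ • B.P w :=
  B.E_injective (by rw [B.E_P, ← B.g_E, B.E_P, mulVec_add, mulVec_smul, mulVec_smul])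

theorem P_smul (t : F) (w : ι → F) : B.P (t • w) = B.e t • B.P w :=
  B.E_injective (by rw [B.E_P, B.E_smul, B.E_P, mulVec_smul]; module)

theorem polar_EP (w : ι → F) (z : Fin B.n → K) : polar Q (B.E z) (B.E (B.P w)) = polar Q (B.E z) w := by
  rw [B.l_polar, B.l_polar, B.P_E]

theorem det_ne (hQ : Nondeg Q) : B.H.det ≠ 0 := by
  intro h0
  obtain ⟨z, hz0, hz⟩ := Matrix.exists_mulVec_eq_zero_iff.2 h0
  refine hz0 (B.E_injective ((hQ _ fun w => ?_).trans (map_zero _).symm))
  rw [B.l_polar, bf_comm B.symm, bf, hz, dotProduct_zero, map_zero]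

theorem cv_E (s : cent Q g) (z : Fin B.n → K) : cv s (B.E z) = B.E (B.P (cv s (B.E z))) := by
  conv_lhs => rw [← B.P_E z, B.E_P]
  show (s.1.1 : Matrix ι ι F) *ᵥ (B.α • B.E z + B.β • ((g : Matrix ι ι F) *ᵥ B.E z)) = _
  rw [mulVec_add, mulVec_smul, mulVec_smul, B.E_P, cv_comm s (B.E z)]

/-- The restriction to the block, as a linear map. -/
noncomputable def resLin (s : cent Q g) : (Fin B.n → K) →ₗ[K] (Fin B.n → K) where
  toFun z := B.P (cv s (B.E z))
  map_add' z z' := by simp only [cv, map_add, mulVec_add]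
  map_smul' k z := by
    obtain ⟨a, b, rfl⟩ := B.gen k
    simp only [RingHom.id_apply, add_smul, mul_smul, map_add, B.E_smul, cv, mulVec_add, mulVec_smul, B.P_smul]
    rw [← B.g_E, show (s.1.1 : Matrix ι ι F) *ᵥ ((g : Matrix ι ι F) *ᵥ B.E z) = _ from (cv_comm s (B.E z)).symm, B.P_g]

/-- The restriction to the block. -/
noncomputable def res : cent Q g →* GL (Fin B.n) K :=
  MonoidHom.toHomUnits
    { toFun := fun s => LinearMap.toMatrix' (B.resLin s)
      map_one' := by
        refine (congrArg _ (LinearMap.ext fun z => ?_)).trans LinearMap.toMatrix'_one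
        show B.P (cv (1 : cent Q g) (B.E z)) = z
        rw [cv_one, B.P_E]
      map_mul' := fun s t => by
        refine (congrArg _ (LinearMap.ext fun z => ?_)).trans (LinearMap.toMatrix'_mul _ _)
        show B.P (cv (s * t) (B.E z)) = B.P (cv s (B.E (B.P (cv t (B.E z)))))
        rw [cv_mul, ← B.cv_E] }

theorem res_mulVec (s : cent Q g) (z : Fin B.n → K) :
    (B.res s : Matrix (Fin B.n) (Fin B.n) K) *ᵥ z = B.P (cv s (B.E z)) :=
  LinearMap.toMatrix'_mulVec (B.resLin s) z

theorem E_res (s : cent Q g) (z : Fin B.n → K) :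
    B.E ((B.res s : Matrix (Fin B.n) (Fin B.n) K) *ᵥ z) = cv s (B.E z) := by rw [res_mulVec, ← B.cv_E]

/-- The isometries of the block. -/
def iso (B : Block Q (g : Matrix ι ι F) K) : Subgroup (GL (Fin B.n) K) where
  carrier := {A | ∀ u v, bf B.H ((A : Matrix (Fin B.n) (Fin B.n) K) *ᵥ u) ((A : Matrix (Fin B.n) (Fin B.n) K) *ᵥ v) = bf B.H u v}
  one_mem' u v := by simp
  mul_mem' {A C} hA hC u v := by rw [Units.val_mul, ← mulVec_mulVec, ← mulVec_mulVec, hA, hC]
  inv_mem' {A} hA u v := by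
    rw [← hA]
    simp only [mulVec_mulVec, ← Units.val_mul, mul_inv_cancel, Units.val_one, one_mulVec]

theorem mem_iso_iff (A : GL (Fin B.n) K) :
    A ∈ B.iso ↔ Sims B.H (A : Matrix (Fin B.n) (Fin B.n) K) 1 :=
  ⟨fun h => bf_inj fun u v => by rw [← bf_mulVec, one_smul]; exact h u v,
    fun h u v => by rw [bf_sims h, one_mul]⟩

theorem res_mem (s : cent Q g) : B.res s ∈ B.iso := by
  intro u v
  refine sub_eq_zero.1 (B.l_nondeg _ fun a => ?_)
  rw [mul_sub, map_sub, sub_eq_zero, ← bf_smul_right, ← mulVec_smul, ← bf_smul_right]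
  nth_rewrite 1 [← B.P_E ((B.res s : Matrix (Fin B.n) (Fin B.n) K) *ᵥ (a • v))]
  rw [← B.l_polar, B.E_res, B.E_res, cv_polar, B.l_polar, B.P_E]

/-- The extension by the identity, as a linear map. -/
noncomputable def extLin (A : Matrix (Fin B.n) (Fin B.n) K) : (ι → F) →ₗ[F] (ι → F) where
  toFun w := w - B.E (B.P w) + B.E (A *ᵥ B.P w)
  map_add' v w := by simp only [map_add, mulVec_add]; abel
  map_smul' t w := by
    simp only [RingHom.id_apply, B.P_smul, mulVec_smul, B.E_smul, smul_add, smul_sub]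

theorem P_extLin (A : Matrix (Fin B.n) (Fin B.n) K) (w : ι → F) : B.P (B.extLin A w) = A *ᵥ B.P w := by
  show B.P (w - B.E (B.P w) + B.E (A *ᵥ B.P w)) = _
  rw [map_add, map_sub, B.P_E, B.P_E, sub_self, zero_add]

/-- The extension by the identity, on the general linear group. -/
noncomputable def extGL : B.iso →* GL ι F :=
  MonoidHom.toHomUnits
    { toFun := fun A => LinearMap.toMatrix' (B.extLin (A.1 : Matrix (Fin B.n) (Fin B.n) K))
      map_one' := by
        refine (congrArg _ (LinearMap.ext fun w => ?_)).trans LinearMap.toMatrix'_one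
        show w - B.E (B.P w) + B.E ((((1 : B.iso) : GL (Fin B.n) K) : Matrix (Fin B.n) (Fin B.n) K) *ᵥ B.P w) = w
        rw [OneMemClass.coe_one, Units.val_one, one_mulVec, sub_add_cancel]
      map_mul' := fun A C => by
        refine (congrArg _ (LinearMap.ext fun w => ?_)).trans (LinearMap.toMatrix'_mul _ _)
        show w - _ + _ = B.extLin _ (B.extLin _ w)
        show _ = B.extLin _ w - B.E (B.P (B.extLin _ w)) + B.E (_ *ᵥ B.P (B.extLin _ w))
        rw [B.P_extLin, Subgroup.coe_mul, Units.val_mul, ← mulVec_mulVec]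
        show _ = w - B.E (B.P w) + B.E _ - _ + _
        rw [add_sub_cancel_right] }

theorem extGL_mulVec (A : B.iso) (w : ι → F) :
    (B.extGL A : Matrix ι ι F) *ᵥ w = w - B.E (B.P w) + B.E ((A.1 : Matrix (Fin B.n) (Fin B.n) K) *ᵥ B.P w) :=
  LinearMap.toMatrix'_mulVec (B.extLin _) w

theorem extGL_polar (A : B.iso) (v w : ι → F) :
    polar Q ((B.extGL A : Matrix ι ι F) *ᵥ v) ((B.extGL A : Matrix ι ι F) *ᵥ w) = polar Q v w := by
  set d := (A.1 : Matrix (Fin B.n) (Fin B.n) K) *ᵥ B.P v - B.P v with hd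
  set d' := (A.1 : Matrix (Fin B.n) (Fin B.n) K) *ᵥ B.P w - B.P w with hd'
  have ev : (B.extGL A : Matrix ι ι F) *ᵥ v = v + B.E d := by rw [extGL_mulVec, hd, map_sub]; abel
  have ew : (B.extGL A : Matrix ι ι F) *ᵥ w = w + B.E d' := by rw [extGL_mulVec, hd', map_sub]; abel
  have h0 : bf B.H d (B.P w) + bf B.H d' (B.P v) + bf B.H d d' = 0 := by
    have h := A.2 (B.P v) (B.P w)
    rw [hd, hd']
    simp only [bf_sub_left, bf_sub_right]
    rw [bf_comm B.symm ((A.1 : Matrix (Fin B.n) (Fin B.n) K) *ᵥ B.P w) (B.P v), bf_comm B.symm (B.P w) (B.P v)]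
    linear_combination h
  rw [ev, ew, QuadraticMap.polar_add_left, QuadraticMap.polar_add_right, QuadraticMap.polar_add_right,
    QuadraticMap.polar_comm (⇑Q) v (B.E d'), B.l_polar, B.l_polar, B.l_polar, B.P_E]
  have h1 : B.l (bf B.H d' (B.P v)) + (B.l (bf B.H d (B.P w)) + B.l (bf B.H d d')) = 0 := by
    rw [← map_add, ← map_add, ← map_zero B.l]
    congr 1
    linear_combination h0
  linear_combination h1

theorem extGL_mem (h2 : (2 : F) ≠ 0) (A : B.iso) : B.extGL A ∈ Cfsg.isometryGroup F ⇑Q :=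
  (mem_isometryGroup_iff _ _).2 fun v => mul_left_cancel₀ h2 (by
    rw [← polar_self', ← polar_self', extGL_polar])

theorem extGL_comm (A : B.iso) : B.extGL A * g = g * B.extGL A := by
  refine Units.ext (Matrix.ext_iff_mulVec.2 fun w => ?_)
  rw [Units.val_mul, Units.val_mul, ← mulVec_mulVec, ← mulVec_mulVec, extGL_mulVec, extGL_mulVec, mulVec_add,
    mulVec_sub, B.g_E, B.g_E, B.P_g, mulVec_smul]

/-- The extension by the identity. -/
noncomputable def ext (h2 : (2 : F) ≠ 0) : B.iso →* cent Q g :=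
  (B.extGL.codRestrict _ (B.extGL_mem h2)).codRestrict _ fun A =>
    Subgroup.mem_centralizer_singleton_iff.2 (B.extGL_comm A)

theorem ext_mulVec (h2 : (2 : F) ≠ 0) (A : B.iso) (w : ι → F) :
    cv (B.ext h2 A) w = w - B.E (B.P w) + B.E ((A.1 : Matrix (Fin B.n) (Fin B.n) K) *ᵥ B.P w) := B.extGL_mulVec A w

theorem res_ext (h2 : (2 : F) ≠ 0) (A : B.iso) : B.res (B.ext h2 A) = A.1 := by
  refine Units.ext (Matrix.ext_iff_mulVec.2 fun z => ?_)
  rw [res_mulVec, ext_mulVec, B.P_E, sub_self, zero_add, B.P_E]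

include B in
theorem two_ne (h2 : (2 : F) ≠ 0) : (2 : K) ≠ 0 := fun h =>
  h2 (B.e.injective (by rw [map_ofNat, map_zero, h]))

include B in
theorem ringChar_eq : ringChar K = ringChar F := by
  have : CharP K (ringChar F) := (RingHom.charP_iff B.e B.e.injective _).1 inferInstance
  exact ringChar.eq K _

/-- A root element as an element of the block's isometry group. -/
noncomputable def root (h2 : (2 : F) ≠ 0) (hQ : Nondeg Q) {v x : Fin B.n → K} (hv : bf B.H v v = 0)
    (hvx : bf B.H v x = 0) : B.iso :=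
  ⟨GeneralLinearGroup.mkOfDetNeZero (rt B.H v x) (by
      rw [rt_det B.symm (B.two_ne h2) (B.det_ne hQ) hv hvx]; exact one_ne_zero),
    (B.mem_iso_iff _).2 (rt_sims B.symm (B.two_ne h2) hv hvx)⟩

theorem root_pow (h2 : (2 : F) ≠ 0) (hQ : Nondeg Q) {v x : Fin B.n → K} (hv : bf B.H v v = 0)
    (hvx : bf B.H v x = 0) : B.root h2 hQ hv hvx ^ ringChar F = 1 := by
  refine Subtype.ext (Units.ext ?_)
  rw [Subgroup.coe_pow, Units.val_pow_eq_pow_val, ← B.ringChar_eq]
  show rt B.H v x ^ ringChar K = _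
  rw [rt_pow B.symm (B.two_ne h2) hv hvx, ringChar.Nat.cast_ringChar, zero_smul]
  simp [rt, bf_zero_left]

end Block

/-- An isometry of odd order dividing `p` lies in `Ω`. -/
theorem omega_of_odd_pow (hQ : Nondeg Q) (h2 : (2 : F) ≠ 0) {s : Cfsg.isometryGroup F ⇑Q} {p : ℕ} (hp : Odd p)
    (hs : s ^ p = 1) : s ∈ Cfsg.Omega F ⇑Q := by
  have h1 : ∀ χ : O Q →* ℤˣ, χ (toO Q s) = 1 := fun χ => by
    have h := congrArg χ (congrArg (toO Q) hs)
    rw [map_pow, map_pow, map_one, map_one] at h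
    rcases Int.units_eq_one_or (χ (toO Q s)) with e | e
    · exact e
    · rw [e, hp.neg_one_pow] at h; exact absurd h (by decide)
  rw [mem_omega_iff, mem_commutator_iff hQ h2]
  exact ⟨h1 _, h1 _⟩

/-- An element of order dividing `char F` centralised by `semiAut A τ` commutes with it exactly. -/
theorem exact_of_pow (hQ : Nondeg Q) (hn : 5 ≤ Fintype.card ι) {A : GL ι F} {τ : F ≃+* F}
    (hA : Cfsg.IsSemisimilarityPair ⇑Q A τ) {s : Cfsg.isometryGroup F ⇑Q} {p : ℕ} [Fact p.Prime] [CharP F p]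
    (hs : s ^ p = 1)
    (hc : semiAut A τ hA * simAut Q (toSim Q s) = simAut Q (toSim Q s) * semiAut A τ hA) :
    A * gmap τ s.1 = s.1 * A := by
  have h1 := semiAut_conj hA (toSim Q s)
  rw [hc, mul_inv_cancel_right] at h1
  have h2 : simAut Q ((semiDatum hA).psi (toSim Q s) * (toSim Q s)⁻¹) = 1 := by
    rw [map_mul, map_inv, ← h1, mul_inv_cancel]
  obtain ⟨c, hc⟩ := (simAut_eq_one_iff hQ hn).1 h2
  rw [Subgroup.coe_mul, Subgroup.coe_inv, Datum.psi_coe, semiDatum_psiGL, mul_inv_eq_iff_eq_mul] at hc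
  change A * gmap τ s.1 * A⁻¹ = GeneralLinearGroup.scalar ι c * s.1 at hc
  have hsp : s.1 ^ p = 1 := congrArg Subtype.val hs
  have hpow := congrArg (· ^ p) hc
  simp only [conj_pow, Commute.mul_pow (GeneralLinearGroup.scalar_commute c _), ← map_pow, hsp, map_one, mul_one,
    mul_inv_cancel] at hpow
  have hcp : (c : F) ^ p = 1 := by
    have := scalar_inj (ι := ι) (by omega) ((map_one _).trans hpow)
    rw [← Units.val_pow_eq_pow_val, ← this, Units.val_one]
  have hc1 : c = 1 := Units.ext (frobenius_inj F p (by simp [frobenius_def, hcp]))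
  rw [hc1, map_one, one_mul] at hc
  exact mul_inv_eq_iff_eq_mul.1 hc

/-- The subgroup `Inn ∩ C(x)`. -/
abbrev innCent (x : MulAut (Cfsg.POmega F ⇑Q)) : Subgroup (MulAut (Cfsg.POmega F ⇑Q)) :=
  Cfsg.Inn (Cfsg.POmega F ⇑Q) ⊓ Subgroup.centralizer {x}

theorem simAut_mem_innCent {G : sim Q} {s : cent Q G.1} (hs : s.1 ∈ Cfsg.Omega F ⇑Q) :
    simAut Q (toSim Q s.1) ∈ innCent (simAut Q G) := by
  refine ⟨by rw [inn_eq]; exact ⟨_, hs, rfl⟩, Subgroup.mem_centralizer_singleton_iff.2 ?_⟩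
  rw [← map_mul, ← map_mul]
  exact congrArg _ (Subtype.ext (Subgroup.mem_centralizer_singleton_iff.1 s.2))

/-- A vector map of a semilinear automorphism. -/
noncomputable def semiL (A : GL ι F) (τ : F ≃+* F) : (ι → F) →+ (ι → F) :=
  AddMonoidHom.mk' (fun w => (A : Matrix ι ι F) *ᵥ (τ ∘ w)) fun v w => by
    rw [← mulVec_add]; congr 1; funext i; exact map_add τ _ _

theorem semiL_apply (A : GL ι F) (τ : F ≃+* F) (w : ι → F) : semiL A τ w = (A : Matrix ι ι F) *ᵥ (τ ∘ w) := rfl

theorem semiL_smul (A : GL ι F) (τ : F ≃+* F) (t : F) (w : ι → F) : semiL A τ (t • w) = τ t • semiL A τ w := by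
  rw [semiL_apply, semiL_apply, ← mulVec_smul]; congr 1; funext i; exact _root_.map_mul τ _ _

theorem semiL_injective (A : GL ι F) (τ : F ≃+* F) : Function.Injective (semiL A τ) := fun v w h => by
  have h' := congrArg (fun y => ((A⁻¹ : GL ι F) : Matrix ι ι F) *ᵥ y) h
  simp only [semiL_apply, mulVec_mulVec, ← Units.val_mul, inv_mul_cancel, Units.val_one, one_mulVec] at h'
  exact funext fun i => τ.injective (congrFun h' i)

theorem semiL_mul (A : GL ι F) (τ : F ≃+* F) (X : GL ι F) (w : ι → F) :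
    semiL A τ ((X : Matrix ι ι F) *ᵥ w) = ((A * gmap τ X : GL ι F) : Matrix ι ι F) *ᵥ (τ ∘ w) := by
  rw [semiL_apply, Units.val_mul, ← mulVec_mulVec]
  congr 1
  exact funext fun i => RingHom.map_mulVec (τ : F →+* F) _ w i

namespace Block

variable {G : sim Q} (B : Block Q (G.1 : Matrix ι ι F) K) (h2 : (2 : F) ≠ 0) (hQ : Nondeg Q)

theorem root_omega {v x : Fin B.n → K} (hv : bf B.H v v = 0) (hvx : bf B.H v x = 0) :
    (B.ext h2 (B.root h2 hQ hv hvx)).1 ∈ Cfsg.Omega F ⇑Q ∧
      (B.ext h2 (B.root h2 hQ hv hvx)).1 ^ ringChar F = 1 := by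
  have h : (B.ext h2 (B.root h2 hQ hv hvx)).1 ^ ringChar F = 1 := by
    rw [← Subgroup.coe_pow, ← map_pow, B.root_pow, map_one, Subgroup.coe_one]
  exact ⟨omega_of_odd_pow hQ h2 (FormCore.odd_ringChar h2) h, h⟩

include h2 hQ in
/-- An odd order subgroup of `Inn ∩ C(x)` normalised by it acts on the block by scalars. -/
theorem res_scalar [Fintype K] (hn : 3 ≤ B.n) (hn5 : 5 ≤ Fintype.card ι)
    (M : Subgroup (MulAut (Cfsg.POmega F ⇑Q)))
    (hM : ∀ g ∈ innCent (simAut Q G), ∀ y ∈ M, g * y * g⁻¹ ∈ M) (hodd : Odd (Nat.card M))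
    (s : cent Q G.1) (hs : s.1 ∈ Cfsg.Omega F ⇑Q) (hsM : simAut Q (toSim Q s.1) ∈ M) :
    ∃ c : Kˣ, B.res s = GeneralLinearGroup.scalar (Fin B.n) c := by
  let f : cent Q G.1 →* MulAut (Cfsg.POmega F ⇑Q) := ((simAut Q).comp (toSim Q)).comp (cent Q G.1).subtype
  let T : Subgroup (cent Q G.1) := M.comap f ⊓ (Cfsg.Omega F ⇑Q).subgroupOf (cent Q G.1)
  let π : B.iso →* GL (Fin B.n) K ⧸ Subgroup.center (GL (Fin B.n) K) :=
    (QuotientGroup.mk' _).comp B.iso.subtype
  let resI : cent Q G.1 →* B.iso := B.res.codRestrict _ B.res_mem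
  have hker : ∀ A : B.iso, π A = 1 ↔ ∃ c : Kˣ, (A : GL (Fin B.n) K) = GeneralLinearGroup.scalar (Fin B.n) c := by
    intro A
    show (QuotientGroup.mk (A : GL (Fin B.n) K) : GL (Fin B.n) K ⧸ _) = 1 ↔ _
    rw [QuotientGroup.eq_one_iff, GeneralLinearGroup.center_eq_range_scalar]
    exact ⟨fun ⟨c, hc⟩ => ⟨c, hc.symm⟩, fun ⟨c, hc⟩ => ⟨c, hc.symm⟩⟩
  let φ := π.comp (resI.comp T.subtype)
  let ψ := f.comp T.subtype
  have hle : ψ.ker ≤ φ.ker := by
    intro t ht
    obtain ⟨c, hc⟩ := (simAut_eq_one_iff hQ hn5).1 (MonoidHom.mem_ker.1 ht)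
    refine MonoidHom.mem_ker.2 ((hker _).2 ⟨Units.map B.e.toMonoidHom c, Units.ext (Matrix.ext_iff_mulVec.2 fun z => ?_)⟩)
    show (B.res t.1 : Matrix (Fin B.n) (Fin B.n) K) *ᵥ z = _
    rw [res_mulVec, cv, show t.1.1.1 = GeneralLinearGroup.scalar ι c from hc, GeneralLinearGroup.coe_scalar,
      GeneralLinearGroup.coe_scalar, Matrix.scalar_apply, Matrix.scalar_apply, ← Matrix.smul_one_eq_diagonal,
      ← Matrix.smul_one_eq_diagonal, smul_mulVec, smul_mulVec, one_mulVec, one_mulVec, B.P_smul, B.P_E]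
    rfl
  have hoddM' : Odd (Nat.card φ.range) := by
    have h1 : Nat.card φ.range ∣ Nat.card M := by
      rw [← Subgroup.index_ker]
      refine (Subgroup.index_dvd_of_le hle).trans ?_
      rw [Subgroup.index_ker]
      exact Subgroup.card_dvd_of_le (by rintro _ ⟨t, rfl⟩; exact t.2.1)
    exact hodd.of_dvd_nat h1
  have hbot : φ.range = ⊥ := by
    refine FormCore.odd_eq_bot (H := B.H) π hn (B.two_ne h2) ⟨B.det_ne hQ, Or.inl B.symm⟩
      (fun A hA => ⟨1, by rw [Units.val_one]; exact (B.mem_iso_iff A).1 hA⟩)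
      (fun A hA _ => (B.mem_iso_iff A).2 hA) hker φ.range (by rintro _ ⟨t, rfl⟩; exact ⟨_, rfl⟩) hoddM' ?_
    rintro A - - hA _ ⟨t, rfl⟩
    have hA1 : (B.ext h2 A).1 ^ ringChar F = 1 := by
      rw [← Subgroup.coe_pow, ← map_pow, show A ^ ringChar F = 1 from Subtype.ext (Units.ext (by
        rw [Subgroup.coe_pow, Units.val_pow_eq_pow_val, ← B.ringChar_eq, hA]; rfl)), map_one, Subgroup.coe_one]
    have hAΩ := omega_of_odd_pow hQ h2 (FormCore.odd_ringChar h2) hA1
    refine ⟨⟨B.ext h2 A * t.1 * (B.ext h2 A)⁻¹, ?_, ?_⟩, ?_⟩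
    · show f _ ∈ M
      rw [map_mul, map_mul, map_inv]
      exact hM _ (simAut_mem_innCent hAΩ) _ t.2.1
    · show ((B.ext h2 A * t.1 * (B.ext h2 A)⁻¹ : cent Q G.1) : Cfsg.isometryGroup F ⇑Q) ∈ Cfsg.Omega F ⇑Q
      rw [Subgroup.coe_mul, Subgroup.coe_mul, Subgroup.coe_inv]
      exact mul_mem (mul_mem hAΩ t.2.2) (inv_mem hAΩ)
    · show π (resI (B.ext h2 A * t.1 * (B.ext h2 A)⁻¹)) = π A * π (resI t.1) * (π A)⁻¹
      rw [map_mul, map_mul, map_mul, map_mul, map_inv, map_inv,
        show resI (B.ext h2 A) = A from Subtype.ext (B.res_ext h2 A)]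
  obtain ⟨c, hc⟩ := (hker _).1 ((Subgroup.eq_bot_iff_forall _).1 hbot _ ⟨⟨s, hsM, hs⟩, rfl⟩)
  exact ⟨c, hc⟩

include h2 hQ in
/-- A semilinear automorphism centralising `Inn ∩ C(x)` is a scalar on the block. -/
theorem semi_scalar [Fintype K] (hn : 3 ≤ B.n) (hn5 : 5 ≤ Fintype.card ι) {A : GL ι F} {τ : F ≃+* F}
    (hA : Cfsg.IsSemisimilarityPair ⇑Q A τ)
    (hc : ∀ y ∈ innCent (simAut Q G), semiAut A τ hA * y = y * semiAut A τ hA) :
    τ = RingEquiv.refl F ∧ ∃ k : K, k ≠ 0 ∧ ∀ z, semiL A τ (B.E z) = B.E (k • z) := by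
  have : Fact (ringChar F).Prime := ⟨CharP.char_is_prime F (ringChar F)⟩
  have h2K := B.two_ne h2
  have hd := B.det_ne hQ
  have hcomm : ∀ v x, ∀ (hv : bf B.H v v = 0) (hvx : bf B.H v x = 0) (w : ι → F),
      semiL A τ (w - B.E (B.P w) + B.E (rt B.H v x *ᵥ B.P w))
        = semiL A τ w - B.E (B.P (semiL A τ w)) + B.E (rt B.H v x *ᵥ B.P (semiL A τ w)) := by
    intro v x hv hvx w
    obtain ⟨hΩ, hp⟩ := B.root_omega h2 hQ hv hvx
    have h := exact_of_pow hQ hn5 hA hp (hc _ (simAut_mem_innCent hΩ))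
    have h1 := semiL_mul A τ (B.ext h2 (B.root h2 hQ hv hvx)).1.1 w
    rw [h, Units.val_mul, ← mulVec_mulVec] at h1
    change semiL A τ (cv (B.ext h2 (B.root h2 hQ hv hvx)) w) = cv (B.ext h2 (B.root h2 hQ hv hvx)) (semiL A τ w) at h1
    rw [ext_mulVec, ext_mulVec] at h1
    exact h1
  let D : (Fin B.n → K) →+ (ι → F) := AddMonoidHom.mk'
    (fun z => semiL A τ (B.E z) - B.E (B.P (semiL A τ (B.E z)))) fun z z' => by
      simp only [map_add]; abel
  have hD : D = 0 := eq_zero_of_roots hn hd B.symm h2K D fun v x hv hvx z => by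
    show semiL A τ _ - B.E (B.P (semiL A τ _)) = semiL A τ _ - _
    have h := hcomm v x hv hvx (B.E z)
    rw [B.P_E, sub_self, zero_add] at h
    rw [h, map_add, map_sub, B.P_E, B.P_E, sub_self, zero_add]
    abel
  obtain ⟨k, hk⟩ := scalar_of_roots hn hd B.symm h2K (B.P.comp ((semiL A τ).comp B.E)) fun v x hv hvx z => by
    show B.P (semiL A τ (B.E _)) = _ *ᵥ B.P (semiL A τ (B.E z))
    have h := hcomm v x hv hvx (B.E z)
    rw [B.P_E, sub_self, zero_add] at h
    rw [h, map_add, map_sub, B.P_E, B.P_E, sub_self, zero_add]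
  have hL : ∀ z, semiL A τ (B.E z) = B.E (k • z) := fun z => by
    rw [← show B.P (semiL A τ (B.E z)) = k • z from hk z]
    exact sub_eq_zero.1 (DFunLike.congr_fun hD z)
  have hk0 : k ≠ 0 := by
    intro h0
    have h := hL (Pi.single ⟨0, by omega⟩ 1)
    rw [h0, zero_smul, map_zero] at h
    have h' := B.E_injective ((semiL_injective A τ (h.trans (map_zero _).symm)).trans (map_zero B.E).symm)
    simpa using congrFun h' ⟨0, by omega⟩
  refine ⟨RingEquiv.ext fun t => ?_, k, hk0, hL⟩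
  have h := hL (B.e t • Pi.single ⟨0, by omega⟩ 1)
  rw [B.E_smul, semiL_smul, hL, ← B.E_smul, smul_smul, smul_smul] at h
  have h' := congrFun (B.E_injective h) ⟨0, by omega⟩
  simp only [Pi.smul_apply, Pi.single_eq_same, smul_eq_mul, mul_one] at h'
  exact B.e.injective (mul_right_cancel₀ hk0 (h'.trans (mul_comm _ _)))

end Block

end Blocks

end Cfsg.Agent.H58.OrthoField
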