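import Mathlib
import Cfsg.Agent.H58.OrthoField.GraphBlock

/-!
# The core of the centraliser of an involutory graph automorphism is trivial
-/

set_option autoImplicit false
set_option linter.unusedSectionVars false

namespace Cfsg.Agent.H58.OrthoField

open Matrix Module Cfsg.Agent.Orthogonal Cfsg.Agent.H58.OrthoAut Cfsg.Agent.H58.OrthoKlein Cfsg.Agent.H58.Twist
  Cfsg.Agent.H58.OrthoOuter Cfsg.Agent.H58.LocalBalance Cfsg.Agent.H58.FormSim Cfsg.Agent.H58.FormRoot
open QuadraticMap (polar)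

universe u

variable {F : Type u} [Field F] [Fintype F] {ι : Type} [Fintype ι] [DecidableEq ι] {Q : QuadraticForm F (ι → F)}

/-! ### Eigenspaces of an involution -/

section Eigen

variable {g : GL ι F}

/-- The eigenspace. -/
noncomputable def eig (g : GL ι F) (s : F) : Submodule F (ι → F) :=
  LinearMap.ker (Matrix.toLin' (g : Matrix ι ι F) - s • LinearMap.id)

theorem mem_eig {s : F} {v : ι → F} : v ∈ eig g s ↔ (g : Matrix ι ι F) *ᵥ v = s • v := by
  simp [eig, sub_eq_zero]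

/-- The projection to the eigenspace. -/
noncomputable def eigProj (h2 : (2 : F) ≠ 0) (hg : g * g = 1) {s : F} (hs : s * s = 1) :
    (ι → F) →ₗ[F] eig g s :=
  LinearMap.codRestrict _ ((2 : F)⁻¹ • LinearMap.id + (s / 2) • Matrix.toLin' (g : Matrix ι ι F)) fun v => by
    simp only [mem_eig, LinearMap.add_apply, LinearMap.smul_apply, LinearMap.id_apply, Matrix.toLin'_apply,
      mulVec_add, mulVec_smul, mulVec_mulVec, ← Units.val_mul, hg, Units.val_one, one_mulVec, smul_add, smul_smul]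
    rw [show s * (s / 2) = (2 : F)⁻¹ by rw [← mul_div_assoc, hs, one_div]]
    rw [show s * (2 : F)⁻¹ = s / 2 by rw [div_eq_mul_inv], add_comm]

theorem coe_eigProj (h2 : (2 : F) ≠ 0) (hg : g * g = 1) {s : F} (hs : s * s = 1) (v : ι → F) :
    ((eigProj h2 hg hs v : eig g s) : ι → F) = (2 : F)⁻¹ • v + (s / 2) • ((g : Matrix ι ι F) *ᵥ v) := rfl

theorem eigProj_apply_eig (h2 : (2 : F) ≠ 0) (hg : g * g = 1) {s : F} (hs : s * s = 1) {v : ι → F}
    (hv : v ∈ eig g s) : ((eigProj h2 hg hs v : eig g s) : ι → F) = v := by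
  rw [coe_eigProj, mem_eig.1 hv, smul_smul, ← add_smul, show (2 : F)⁻¹ + s / 2 * s = 1 by
    field_simp; linear_combination hs, one_smul]

theorem eigProj_apply_other (h2 : (2 : F) ≠ 0) (hg : g * g = 1) {s t : F} (hs : s * s = 1) (hst : s * t = -1)
    {v : ι → F} (hv : v ∈ eig g t) : ((eigProj h2 hg hs v : eig g s) : ι → F) = 0 := by
  rw [coe_eigProj, mem_eig.1 hv, smul_smul, ← add_smul, show (2 : F)⁻¹ + s / 2 * t = 0 by
    field_simp; linear_combination hst, zero_smul]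

omit [Fintype F] in
theorem neg_sq_one : (-1 : F) * -1 = 1 := by ring

/-- The decomposition into the two eigenspaces. -/
noncomputable def eigEquiv (h2 : (2 : F) ≠ 0) (hg : g * g = 1) :
    (ι → F) ≃ₗ[F] eig g (1 : F) × eig g (-1 : F) :=
  LinearEquiv.ofLinearMap ((eigProj h2 hg (one_mul 1)).prod (eigProj h2 hg neg_sq_one))
    (LinearMap.coprod (eig g (1 : F)).subtype (eig g (-1 : F)).subtype)
    (LinearMap.ext fun p => by
      refine Prod.ext (Subtype.ext ?_) (Subtype.ext ?_)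
      · show ((eigProj h2 hg _ (p.1.1 + p.2.1) : eig g (1 : F)) : ι → F) = p.1.1
        rw [map_add, Submodule.coe_add, eigProj_apply_eig h2 hg _ p.1.2,
          eigProj_apply_other h2 hg _ (by ring) p.2.2, add_zero]
      · show ((eigProj h2 hg _ (p.1.1 + p.2.1) : eig g (-1 : F)) : ι → F) = p.2.1
        rw [map_add, Submodule.coe_add, eigProj_apply_eig h2 hg _ p.2.2,
          eigProj_apply_other h2 hg _ (by ring) p.1.2, zero_add])
    (LinearMap.ext fun v => by
      show ((eigProj h2 hg (one_mul 1) v : eig g (1 : F)) : ι → F) + ((eigProj h2 hg neg_sq_one v : eig g (-1 : F)) : ι → F) = v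
      rw [coe_eigProj, coe_eigProj]
      match_scalars <;> field_simp <;> ring)

theorem eig_dim (h2 : (2 : F) ≠ 0) (hg : g * g = 1) :
    finrank F (eig g (1 : F)) + finrank F (eig g (-1 : F)) = Fintype.card ι := by
  rw [← Module.finrank_prod, ← (eigEquiv h2 hg).finrank_eq, finrank_fintype_fun_eq_card]

theorem det_invol (h2 : (2 : F) ≠ 0) (hg : g * g = 1) :
    (g : Matrix ι ι F).det = (-1) ^ finrank F (eig g (-1 : F)) := by
  have h : Matrix.toLin' (g : Matrix ι ι F) =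
      ((eigEquiv h2 hg).symm : _ →ₗ[F] (ι → F)) ∘ₗ (LinearMap.prodMap LinearMap.id ((-1 : F) • LinearMap.id)) ∘ₗ
        ((eigEquiv h2 hg : (ι → F) ≃ₗ[F] _) : (ι → F) →ₗ[F] eig g (1 : F) × eig g (-1 : F)) := LinearMap.ext fun v => by
    show _ = ((eigProj h2 hg (one_mul 1) v : eig g (1 : F)) : ι → F) + (((-1 : F) • eigProj h2 hg neg_sq_one v : eig g (-1 : F)) : ι → F)
    rw [Submodule.coe_smul, coe_eigProj, coe_eigProj, Matrix.toLin'_apply]
    match_scalars <;> field_simp <;> ring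
  rw [← LinearMap.det_toLin', h]
  nth_rewrite 2 [← LinearEquiv.symm_symm (eigEquiv h2 hg)]
  rw [LinearMap.det_conj, LinearMap.det_prodMap, LinearMap.det_id, LinearMap.det_smul, LinearMap.det_id, one_mul, mul_one]

/-- The block of an eigenvalue of an isometric involution. -/
theorem exists_eigBlock (h2 : (2 : F) ≠ 0) (hg : g * g = 1)
    (hiso : ∀ v w, polar Q ((g : Matrix ι ι F) *ᵥ v) ((g : Matrix ι ι F) *ᵥ w) = polar Q v w) {s : F} (hs : s * s = 1) :
    ∃ B : Block Q (g : Matrix ι ι F) F, B.n = finrank F (eig g s) ∧ B.θ = s ∧ B.α = (2 : F)⁻¹ ∧ B.β = s / 2 ∧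
      B.e = RingHom.id F ∧ ∀ k, B.l k = k := by
  let b : (Fin (finrank F (eig g s)) → F) ≃ₗ[F] eig g s := (Module.finBasis F (eig g s)).equivFun.symm
  let E : (Fin (finrank F (eig g s)) → F) →ₗ[F] (ι → F) :=
    (eig g s).subtype ∘ₗ (b : (Fin (finrank F (eig g s)) → F) →ₗ[F] eig g s)
  let P : (ι → F) →ₗ[F] (Fin (finrank F (eig g s)) → F) :=
    (b.symm : eig g s →ₗ[F] (Fin (finrank F (eig g s)) → F)) ∘ₗ eigProj h2 hg hs
  let Bl : LinearMap.BilinForm F (Fin (finrank F (eig g s)) → F) := LinearMap.BilinForm.comp Q.polarBilin E E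
  have hbf : ∀ z z', bf (LinearMap.BilinForm.toMatrix' Bl) z z' = polar Q (E z) (E z') := fun z z' =>
    (Matrix.toBilin'_apply' _ z z').symm.trans
      (LinearMap.congr_fun₂ (Matrix.toBilin'_toMatrix' Bl) z z')
  have hEm : ∀ z, (g : Matrix ι ι F) *ᵥ E z = s • E z := fun z => mem_eig.1 (b z).2
  have hEP : ∀ w, E (P w) = (eigProj h2 hg hs w : ι → F) := fun w => by
    show ((b (b.symm (eigProj h2 hg hs w)) : eig g s) : ι → F) = _
    rw [LinearEquiv.apply_symm_apply]
  refine ⟨⟨finrank F (eig g s), RingHom.id F, s, E.toAddMonoidHom, P.toAddMonoidHom, LinearMap.BilinForm.toMatrix' Bl,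
    AddMonoidHom.id F, (2 : F)⁻¹, s / 2, ?_, ?_, ?_, ?_, ?_, ?_, ?_, ?_⟩, rfl, rfl, rfl, rfl, rfl, fun _ => rfl⟩
  · ext i j
    rw [Matrix.transpose_apply, LinearMap.BilinForm.toMatrix'_apply, LinearMap.BilinForm.toMatrix'_apply]
    exact QuadraticMap.polar_comm _ _ _
  · intro z
    show b.symm (eigProj h2 hg hs (E z)) = z
    rw [show eigProj h2 hg hs (E z) = b z from Subtype.ext (eigProj_apply_eig h2 hg hs (b z).2),
      LinearEquiv.symm_apply_apply]
  · intro z
    exact (hEm z).trans (map_smul E s z).symm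
  · exact fun t z => map_smul E t z
  · exact fun w => (hEP w).trans (coe_eigProj h2 hg hs w)
  · intro z w
    show polar Q (E z) w = bf _ z (P w)
    rw [hbf, hEP, coe_eigProj, QuadraticMap.polar_add_right, polar_smul_right', polar_smul_right']
    have h := hiso (E z) w
    rw [hEm, polar_smul_left'] at h
    field_simp
    linear_combination -h
  · intro k hk
    simpa using hk 1
  · exact fun k => ⟨k, 0, by simp⟩

end Eigen

/-! ### The general part -/

variable {M : ℕ}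

/-- A similitude whose automorphism has order two squares to a scalar. -/
theorem sq_scalar (S : Space Q M) {g : sim Q} (hord : orderOf (simAut Q g) = 2) :
    ∃ c : Fˣ, g.1 * g.1 = GeneralLinearGroup.scalar ι c := by
  have h : simAut Q (g * g) = 1 := by rw [map_mul, ← pow_two, ← hord, pow_orderOf_eq_one]
  exact (simAut_eq_one_iff S.nondeg S.five).1 h

/-- Elements of odd order in `Inn ∩ C(x)` lift to isometries commuting with `g`. -/
theorem exists_lift (S : Space Q M) {g : sim Q} {c : Fˣ} (hg : g.1 * g.1 = GeneralLinearGroup.scalar ι c)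
    {y : MulAut (Cfsg.POmega F ⇑Q)} (hy : y ∈ innCent (simAut Q g)) {N : ℕ} (hN : Odd N) (hyN : y ^ N = 1) :
    ∃ s : cent Q g.1, s.1 ∈ Cfsg.Omega F ⇑Q ∧ simAut Q (toSim Q s.1) = y := by
  obtain ⟨hyI, hyC⟩ := hy
  rw [inn_eq] at hyI
  obtain ⟨s, hs, rfl⟩ := hyI
  have h1 : simAut Q (g * toSim Q s * (toSim Q s * g)⁻¹) = 1 := by
    rw [map_mul, map_inv, map_mul, map_mul, mul_inv_eq_one]
    exact (Subgroup.mem_centralizer_singleton_iff.1 hyC).symm
  obtain ⟨k, hk⟩ := (simAut_eq_one_iff S.nondeg S.five).1 h1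
  rw [Subgroup.coe_mul, Subgroup.coe_inv, Subgroup.coe_mul, Subgroup.coe_mul, toSim_coe, mul_inv_eq_iff_eq_mul] at hk
  have hcen := fun (d : Fˣ) (X : GL ι F) => (GeneralLinearGroup.scalar_commute d X)
  have hn0 : 0 < Fintype.card ι := by have := S.five; omega
  have hk2 : k * k = 1 := by
    refine scalar_inj (ι := ι) hn0 ?_
    have e : g.1 * g.1 * s.1 = GeneralLinearGroup.scalar ι (k * k) * (s.1 * (g.1 * g.1)) := by
      rw [mul_assoc, hk, ← mul_assoc, ← hcen k g.1, mul_assoc, ← mul_assoc g.1, hk, map_mul]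
      simp only [mul_assoc]
    rw [hg, hcen c s.1] at e
    rw [map_one]
    exact mul_right_cancel (e.symm.trans (one_mul _).symm)
  have hpow : ∀ j : ℕ, g.1 * s.1 ^ j = GeneralLinearGroup.scalar ι (k ^ j) * (s.1 ^ j * g.1) := by
    intro j
    induction j with
    | zero => simp
    | succ j ih =>
      rw [pow_succ, ← mul_assoc, ih, pow_succ, map_mul]
      simp only [mul_assoc]
      congr 1
      rw [hk, ← mul_assoc, ← hcen k (s.1 ^ j), mul_assoc]
  obtain ⟨d, hd⟩ : ∃ d : Fˣ, s.1 ^ N = GeneralLinearGroup.scalar ι d := by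
    have h : simAut Q (toSim Q s ^ N) = 1 := by rw [map_pow]; exact hyN
    obtain ⟨d, hd⟩ := (simAut_eq_one_iff S.nondeg S.five).1 h
    exact ⟨d, by rw [← hd]; rfl⟩
  have hkN : k ^ N = 1 := by
    refine scalar_inj (ι := ι) hn0 ?_
    have e := hpow N
    rw [hd, ← hcen d g.1] at e
    rw [map_one]
    exact mul_right_cancel (e.symm.trans (one_mul _).symm)
  have hk1 : k = 1 := by
    obtain ⟨j, rfl⟩ := hN
    rw [pow_succ, pow_mul, pow_two, hk2, one_pow, one_mul] at hkN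
    exact hkN
  rw [hk1, map_one, one_mul] at hk
  exact ⟨⟨s, Subgroup.mem_centralizer_singleton_iff.2 hk.symm⟩, hs, rfl⟩

/-- Reduction of the theorem to statements on the lifts and on the semilinear centralisers. -/
theorem core_eq_bot_of (S : Space Q M) (hgam : Cfsg.gammaPOmega F ⇑Q = ⊤) {g : sim Q}
    (hord : orderOf (simAut Q g) = 2) {c : Fˣ} (hg : g.1 * g.1 = GeneralLinearGroup.scalar ι c)
    (hlift : ∀ W : Subgroup (MulAut (Cfsg.POmega F ⇑Q)),
      (∀ x ∈ innCent (simAut Q g), ∀ y ∈ W, x * y * x⁻¹ ∈ W) → Odd (Nat.card W) →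
      ∀ s : cent Q g.1, s.1 ∈ Cfsg.Omega F ⇑Q → simAut Q (toSim Q s.1) ∈ W →
        simAut Q (toSim Q s.1) = 1 ∨ simAut Q (toSim Q s.1) = simAut Q g)
    (hsemi : ∀ (A : GL ι F) (τ : F ≃+* F) (hA : Cfsg.IsSemisimilarityPair ⇑Q A τ) (k : Fˣ),
      (∀ w, semiL A τ ((g.1 : Matrix ι ι F) *ᵥ w) = (k : F) • ((g.1 : Matrix ι ι F) *ᵥ semiL A τ w)) →
      (∀ y ∈ innCent (simAut Q g), semiAut A τ hA * y = y * semiAut A τ hA) →
      τ = RingEquiv.refl F ∧ ∃ a : Fˣ, A = GeneralLinearGroup.scalar ι a ∨ A = GeneralLinearGroup.scalar ι a * g.1)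
    (A : Subgroup (MulAut (Cfsg.POmega F ⇑Q))) (hle : Cfsg.Inn (Cfsg.POmega F ⇑Q) ≤ A) :
    Cfsg.pPrimeCore 2 ↥(A ⊓ Subgroup.centralizer {simAut Q g}) = ⊥ := by
  have : Finite (Cfsg.POmega F ⇑Q) := Finite.of_surjective _ (QuotientGroup.mk'_surjective _)
  have : Finite (MulAut (Cfsg.POmega F ⇑Q)) := Finite.of_injective (fun e => (e : _ → _)) DFunLike.coe_injective
  refine core_eq_bot A hle hord ?_ ?_
  · intro W hW hnW hco
    have hodd : Odd (Nat.card W) := Nat.coprime_two_right.1 hco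
    rw [Subgroup.eq_bot_iff_forall]
    intro y hy
    have hyN : y ^ Nat.card W = 1 := congrArg Subtype.val (pow_card_eq_one' (x := (⟨y, hy⟩ : W)))
    obtain ⟨s, hs, rfl⟩ := exists_lift S hg (hW hy) hodd hyN
    refine (hlift W hnW hodd s hs hy).resolve_right fun h => ?_
    have hd : 2 ∣ Nat.card W := hord ▸ Subgroup.orderOf_dvd_natCard W (h ▸ hy)
    exact Nat.not_even_iff_odd.2 hodd (even_iff_two_dvd.2 hd)
  · intro y hy hc
    obtain ⟨B, τ, hB, rfl⟩ := exists_semi hgam y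
    have h1 := semiAut_conj hB g
    rw [Subgroup.mem_centralizer_singleton_iff.1 hy, mul_inv_cancel_right] at h1
    have h2 : simAut Q ((semiDatum hB).psi g * g⁻¹) = 1 := by rw [map_mul, map_inv, ← h1, mul_inv_cancel]
    obtain ⟨k, hk⟩ := (simAut_eq_one_iff S.nondeg S.five).1 h2
    rw [Subgroup.coe_mul, Subgroup.coe_inv, Datum.psi_coe, semiDatum_psiGL, mul_inv_eq_iff_eq_mul] at hk
    change B * gmap τ g.1 * B⁻¹ = GeneralLinearGroup.scalar ι k * g.1 at hk
    rw [mul_inv_eq_iff_eq_mul] at hk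
    obtain ⟨rfl, a, ha⟩ := hsemi B τ hB k (fun w => by
      rw [semiL_mul, hk, Units.val_mul, Units.val_mul, ← mulVec_mulVec, ← mulVec_mulVec, GeneralLinearGroup.coe_scalar,
        Matrix.scalar_apply, ← Matrix.smul_one_eq_diagonal, smul_mulVec, one_mulVec]
      rfl) hc
    rw [semiAut_eq_simAut]
    rcases ha with e | e
    · rw [(simAut_eq_one_iff (g := (⟨B, sim_of_semi hB⟩ : sim Q)) S.nondeg S.five).2 ⟨a, e⟩]
      exact one_mem _
    · rw [show (⟨B, sim_of_semi hB⟩ : sim Q) = ⟨GeneralLinearGroup.scalar ι a, scalar_mem_sim a⟩ * g from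
        Subtype.ext e, map_mul, (simAut_eq_one_iff (g := (⟨GeneralLinearGroup.scalar ι a, scalar_mem_sim a⟩ : sim Q))
          S.nondeg S.five).2 ⟨a, rfl⟩, one_mul]
      exact Subgroup.mem_zpowers _

theorem scalar_of_mulVec' {A : GL ι F} {a : F} (hn : 0 < Fintype.card ι) (h : ∀ w, (A : Matrix ι ι F) *ᵥ w = a • w) :
    ∃ b : Fˣ, A = GeneralLinearGroup.scalar ι b := by
  have ha : a ≠ 0 := fun h0 => by
    obtain ⟨i⟩ : Nonempty ι := Fintype.card_pos_iff.1 hn
    have e := h (((A⁻¹ : GL ι F) : Matrix ι ι F) *ᵥ Pi.single i 1)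
    rw [mulVec_mulVec, ← Units.val_mul, mul_inv_cancel, Units.val_one, one_mulVec, h0, zero_smul] at e
    simpa using congrFun e i
  refine ⟨Units.mk0 a ha, Units.ext (Matrix.ext_iff_mulVec.2 fun w => ?_)⟩
  rw [h, GeneralLinearGroup.coe_scalar, Matrix.scalar_apply, ← Matrix.smul_one_eq_diagonal, smul_mulVec, one_mulVec,
    Units.val_mk0]

theorem Block.exists_aniso {K : Type u} [Field K] {g : GL ι F} (B : Block Q (g : Matrix ι ι F) K)
    (h2 : (2 : F) ≠ 0) (hQ : Nondeg Q) (hn : 0 < B.n) : ∃ u, bf B.H u u ≠ 0 := by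
  by_contra hc
  push Not at hc
  have hK := B.two_ne h2
  have h0 : (Pi.single ⟨0, hn⟩ 1 : Fin B.n → K) = 0 := bf_eq_zero_left (B.det_ne hQ) fun v => by
    have h := hc (Pi.single ⟨0, hn⟩ 1 + v)
    rw [bf_add_left, bf_add_right, bf_add_right, hc, hc, bf_comm B.symm v] at h
    exact (mul_eq_zero.1 (show (2 : K) * bf B.H (Pi.single ⟨0, hn⟩ 1) v = 0 by linear_combination h)).resolve_left hK
  simpa using congrFun h0 ⟨0, hn⟩

/-- The multiplier and the scalar on a block. -/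
theorem Block.mul_self_eq {K : Type u} [Field K] {g : GL ι F} (B : Block Q (g : Matrix ι ι F) K)
    (h2 : (2 : F) ≠ 0) (hQ : Nondeg Q) (hn : 0 < B.n) {A : Matrix ι ι F} {μ : F}
    (hμ : ∀ v, Q (A *ᵥ v) = μ * Q v) {k : K} (hA : ∀ z, A *ᵥ B.E z = B.E (k • z)) : k * k = B.e μ := by
  obtain ⟨u, hu⟩ := B.exists_aniso h2 hQ hn
  have key : ∀ z z', B.l (k * k * bf B.H z z') = B.l (B.e μ * bf B.H z z') := by
    intro z z'
    have hp : polar Q (A *ᵥ B.E z) (A *ᵥ B.E z') = μ * polar Q (B.E z) (B.E z') := by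
      simp only [polar, ← mulVec_add, hμ]; ring
    rw [← polar_smul_right', ← B.E_smul, hA, hA, B.l_polar, B.l_polar, B.P_E, B.P_E,
      bf_smul_left, bf_smul_right, bf_smul_right, ← mul_assoc] at hp
    exact hp
  refine sub_eq_zero.1 (B.l_nondeg _ fun a => ?_)
  have h := key u ((a / bf B.H u u) • u)
  rw [bf_smul_right, div_mul_cancel₀ _ hu] at h
  rw [mul_sub, map_sub, mul_comm a, mul_comm a, h, sub_self]

/-! ### Two blocks: the square case -/

section Square

variable (S : Space Q M) (h2 : (2 : F) ≠ 0)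

include S h2

/-- On a block of odd dimension an element of odd order acts by a sign. -/
theorem Block.res_sign {K : Type u} [Field K] [Fintype K] {G : sim Q} (B : Block Q (G.1 : Matrix ι ι F) K)
    (hn : Odd B.n ∨ 3 ≤ B.n)
    (W : Subgroup (MulAut (Cfsg.POmega F ⇑Q)))
    (hW : ∀ g ∈ innCent (simAut Q G), ∀ y ∈ W, g * y * g⁻¹ ∈ W) (hodd : Odd (Nat.card W))
    (s : cent Q G.1) (hs : s.1 ∈ Cfsg.Omega F ⇑Q) (hsW : simAut Q (toSim Q s.1) ∈ W) :
    ∃ k : F, k * k = 1 ∧ ∀ z, cv s (B.E z) = k • B.E z := by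
  obtain ⟨c, hc⟩ : ∃ c : K, ∀ z, (B.res s : Matrix (Fin B.n) (Fin B.n) K) *ᵥ z = c • z := by
    rcases (show B.n = 1 ∨ 3 ≤ B.n by rcases hn with ⟨j, hj⟩ | h <;> omega) with h1 | h3
    · let i₀ : Fin B.n := ⟨0, by omega⟩
      have hi : ∀ i, i = i₀ := fun i => Fin.ext (show i.1 = 0 by omega)
      refine ⟨(B.res s : Matrix (Fin B.n) (Fin B.n) K) i₀ i₀, fun z => funext fun i => ?_⟩
      rw [hi i, mulVec, dotProduct, Fintype.sum_eq_single i₀ fun j hj => absurd (hi j) hj]
      rfl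
    · obtain ⟨c, hc⟩ := B.res_scalar h2 S.nondeg h3 S.five W hW hodd s hs hsW
      exact ⟨c, fun z => by
        rw [hc, GeneralLinearGroup.coe_scalar, Matrix.scalar_apply, ← Matrix.smul_one_eq_diagonal, smul_mulVec,
          one_mulVec]⟩
  have hcE : ∀ z, cv s (B.E z) = B.E (c • z) := fun z => by rw [← hc, B.E_res]
  have hn0 : 0 < B.n := by rcases hn with ⟨j, hj⟩ | h <;> omega
  have hc2 : c * c = 1 := by
    rw [B.mul_self_eq h2 S.nondeg hn0 (μ := 1) (fun v => by
      rw [one_mul]; exact (mem_isometryGroup_iff _ _).1 s.1.2 v) hcE, map_one]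
  rcases mul_self_eq_one_iff.1 hc2 with rfl | rfl
  · exact ⟨1, one_mul 1, fun z => by rw [hcE, one_smul, one_smul]⟩
  · exact ⟨-1, by ring, fun z => by rw [hcE, neg_one_smul, map_neg, neg_one_smul]⟩

theorem core_eq_bot_square (hM : 4 ≤ M) (hgam : Cfsg.gammaPOmega F ⇑Q = ⊤) (g : sim Q) (hg : g.1 * g.1 = 1)
    (hmu : ∀ v, Q ((g.1 : Matrix ι ι F) *ᵥ v) = Q v) (hdet : (g.1 : Matrix ι ι F).det ≠ 1)
    (hord : orderOf (simAut Q g) = 2)
    (A : Subgroup (MulAut (Cfsg.POmega F ⇑Q))) (hle : Cfsg.Inn (Cfsg.POmega F ⇑Q) ≤ A) :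
    Cfsg.pPrimeCore 2 ↥(A ⊓ Subgroup.centralizer {simAut Q g}) = ⊥ := by
  have hiso : ∀ v w, polar Q ((g.1 : Matrix ι ι F) *ᵥ v) ((g.1 : Matrix ι ι F) *ᵥ w) = polar Q v w := fun v w => by
    simp only [polar, ← mulVec_add, hmu]
  have hneg : Odd (finrank F (eig g.1 (-1 : F))) := by
    rcases Nat.even_or_odd (finrank F (eig g.1 (-1 : F))) with h | h
    · rw [det_invol h2 hg, h.neg_one_pow] at hdet; exact absurd rfl hdet
    · exact h
  have hsum := eig_dim h2 hg
  rw [S.card] at hsum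
  obtain ⟨s₀, hs₀, hbig, ho, ho'⟩ : ∃ s : F, s * s = 1 ∧ 3 ≤ finrank F (eig g.1 s) ∧
      Odd (finrank F (eig g.1 s)) ∧ Odd (finrank F (eig g.1 (-s))) := by
    have hpos : Odd (finrank F (eig g.1 (1 : F))) := by
      obtain ⟨j, hj⟩ := hneg
      exact ⟨M - j - 1, by omega⟩
    by_cases h : 3 ≤ finrank F (eig g.1 (1 : F))
    · exact ⟨1, one_mul 1, h, hpos, hneg⟩
    · exact ⟨-1, by ring, by omega, hneg, by rwa [neg_neg]⟩
  obtain ⟨B, hBn, hBθ, hBα, hBβ, hBe, hBl⟩ := exists_eigBlock (Q := Q) h2 hg hiso hs₀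
  obtain ⟨B', hB'n, hB'θ, hB'α, hB'β, hB'e, hB'l⟩ := exists_eigBlock (Q := Q) h2 hg hiso
    (show -s₀ * -s₀ = 1 by rw [neg_mul_neg, hs₀])
  have hsplit : ∀ w, B.E (B.P w) + B'.E (B'.P w) = w := fun w => by
    rw [B.E_P, B'.E_P, hBα, hBβ, hB'α, hB'β]
    match_scalars <;> field_simp <;> ring
  have hdiff : ∀ w, B.E (B.P w) - B'.E (B'.P w) = s₀ • ((g.1 : Matrix ι ι F) *ᵥ w) := fun w => by
    rw [B.E_P, B'.E_P, hBα, hBβ, hB'α, hB'β]
    match_scalars <;> field_simp <;> ring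
  have hn0 : 0 < Fintype.card ι := by have := S.five; omega
  -- a matrix acting by signs on the two blocks
  have htwo : ∀ (X : GL ι F) (a b : F), a * a = b * b → (∀ z, (X : Matrix ι ι F) *ᵥ B.E z = a • B.E z) →
      (∀ z, (X : Matrix ι ι F) *ᵥ B'.E z = b • B'.E z) →
      ∃ d : Fˣ, X = GeneralLinearGroup.scalar ι d ∨ X = GeneralLinearGroup.scalar ι d * g.1 := by
    intro X a b hab hXa hXb
    rcases mul_self_eq_mul_self_iff.1 hab with rfl | rfl
    · obtain ⟨d, hd⟩ := scalar_of_mulVec' (a := a) (A := X) hn0 fun w => by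
        conv_lhs => rw [← hsplit w, mulVec_add, hXa, hXb, ← smul_add, hsplit]
      exact ⟨d, Or.inl hd⟩
    · obtain ⟨d, hd⟩ := scalar_of_mulVec' (a := -b * s₀) (A := X * g.1⁻¹) hn0 fun w => by
        obtain ⟨w, rfl⟩ : ∃ v, (g.1 : Matrix ι ι F) *ᵥ v = w :=
          ⟨((g.1⁻¹ : GL ι F) : Matrix ι ι F) *ᵥ w, by
            rw [mulVec_mulVec, ← Units.val_mul, mul_inv_cancel, Units.val_one, one_mulVec]⟩
        rw [mulVec_mulVec, ← Units.val_mul, inv_mul_cancel_right, mul_smul, ← hdiff]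
        conv_lhs => rw [← hsplit w, mulVec_add, hXa, hXb]
        rw [smul_sub, neg_smul, neg_smul, sub_neg_eq_add]
      exact ⟨d, Or.inr (by rw [← hd, inv_mul_cancel_right])⟩
  refine core_eq_bot_of S hgam hord (c := 1) (by rw [hg, map_one]) ?_ ?_ A hle
  · intro W hW hodd s hs hsW
    obtain ⟨a, ha, hXa⟩ := B.res_sign S h2 (Or.inl (hBn ▸ ho)) W hW hodd s hs hsW
    obtain ⟨b, hb, hXb⟩ := B'.res_sign S h2 (Or.inl (hB'n ▸ ho')) W hW hodd s hs hsW
    obtain ⟨d, e | e⟩ := htwo s.1.1 a b (ha.trans hb.symm) hXa hXb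
    · exact Or.inl ((simAut_eq_one_iff S.nondeg S.five).2 ⟨d, by rw [toSim_coe, e]⟩)
    · refine Or.inr ?_
      rw [show toSim Q s.1 = ⟨GeneralLinearGroup.scalar ι d, scalar_mem_sim d⟩ * g from Subtype.ext e, map_mul,
        (simAut_eq_one_iff S.nondeg S.five).2 ⟨d, rfl⟩, one_mul]
  · intro X τ hX k hk hc
    obtain ⟨rfl, a, ha0, ha⟩ := B.semi_scalar h2 S.nondeg (hBn ▸ hbig) S.five hX hc
    have hlin : ∀ w, semiL X (RingEquiv.refl F) w = (X : Matrix ι ι F) *ᵥ w := fun w => rfl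
    have hXa : ∀ z, (X : Matrix ι ι F) *ᵥ B.E z = a • B.E z := fun z => by
      rw [← hlin, ha, ← B.E_smul, hBe]; rfl
    have hk1 : (k : F) = 1 := by
      let z₀ : Fin B.n → F := Pi.single ⟨0, by omega⟩ 1
      have h := hk (B.E z₀)
      rw [B.g_E, ha, ha, B.g_E] at h
      rw [← B.E_smul, hBe, hBθ, RingHom.id_apply] at h
      have h' := congrFun (B.E_injective h) ⟨0, by omega⟩
      simp only [z₀, Pi.smul_apply, Pi.single_eq_same, smul_eq_mul, mul_one] at h'
      have hs0 : s₀ ≠ 0 := fun h0 => by simp [h0] at hs₀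
      refine mul_right_cancel₀ (mul_ne_zero hs0 ha0) ?_
      linear_combination -h'
    have hB'L : ∀ z, (X : Matrix ι ι F) *ᵥ B'.E z = B'.E (B'.P ((X : Matrix ι ι F) *ᵥ B'.E z)) := fun z => by
      have h := hk (B'.E z)
      rw [hk1, one_smul, hlin, hlin] at h
      rw [B'.E_P, ← h, ← mulVec_smul, ← mulVec_smul, ← mulVec_add, ← B'.E_P, B'.P_E]
    obtain ⟨b, hXb⟩ : ∃ b : F, ∀ z, (X : Matrix ι ι F) *ᵥ B'.E z = b • B'.E z := by
      rcases (show B'.n = 1 ∨ 3 ≤ B'.n by rw [hB'n]; obtain ⟨j, hj⟩ := ho'; omega) with h1 | h3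
      · let i₀ : Fin B'.n := ⟨0, by omega⟩
        refine ⟨B'.P ((X : Matrix ι ι F) *ᵥ B'.E (Pi.single i₀ 1)) i₀, fun z => ?_⟩
        have hz : ∀ z : Fin B'.n → F, z = z i₀ • Pi.single i₀ 1 := fun z => funext fun i => by
          rw [show i = i₀ from Fin.ext (show i.1 = 0 by omega)]; simp
        have hsm : ∀ (t : F) z, B'.E (t • z) = t • B'.E z := fun t z => by
          have := B'.E_smul t z
          rwa [hB'e] at this
        conv_lhs => rw [hz z, hsm, mulVec_smul, hB'L, hz (B'.P _), hsm, smul_smul]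
        conv_rhs => rw [hz z, hsm, smul_smul]
        rw [mul_comm]
      · obtain ⟨-, b, -, hb⟩ := B'.semi_scalar h2 S.nondeg h3 S.five hX hc
        exact ⟨b, fun z => by rw [← hlin, hb, ← B'.E_smul, hB'e]; rfl⟩
    obtain ⟨μ, hμ⟩ := sim_of_semi hX
    have hsa := B.mul_self_eq h2 S.nondeg (by omega) hμ (k := a) fun z => by rw [← hlin, ha]
    have hsb := B'.mul_self_eq h2 S.nondeg (by rw [hB'n]; exact ho'.pos) hμ (k := b) fun z => by
      rw [hXb, ← B'.E_smul, hB'e]; rfl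
    rw [hBe] at hsa
    rw [hB'e] at hsb
    exact ⟨rfl, htwo X a b (hsa.trans hsb.symm) hXa hXb⟩

end Square

/-! ### One block: the non-square case -/

section Quad

variable {g : GL ι F} {c : F}

theorem fact_nonsquare (hc : ¬ IsSquare c) : Fact (∀ r : F, r ^ 2 ≠ c + 0 * r) :=
  ⟨fun r h => hc ⟨r, by rw [← pow_two, h]; ring⟩⟩

/-- The action of `F(√c)` through `g`. -/
noncomputable def quadHom (hg : ∀ w, (g : Matrix ι ι F) *ᵥ ((g : Matrix ι ι F) *ᵥ w) = c • w) :
    QuadraticAlgebra F c 0 →ₐ[F] Module.End F (ι → F) :=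
  QuadraticAlgebra.lift ⟨Matrix.toLin' (g : Matrix ι ι F), LinearMap.ext fun w => by simp [hg]⟩

theorem quadHom_apply (hg : ∀ w, (g : Matrix ι ι F) *ᵥ ((g : Matrix ι ι F) *ᵥ w) = c • w)
    (k : QuadraticAlgebra F c 0) (w : ι → F) :
    quadHom hg k w = k.re • w + k.im • ((g : Matrix ι ι F) *ᵥ w) := by
  simp [quadHom]

theorem quad_det (hc : ¬ IsSquare c) (hg : ∀ w, (g : Matrix ι ι F) *ᵥ ((g : Matrix ι ι F) *ᵥ w) = c • w) {M : ℕ}
    (hcard : Fintype.card ι = 2 * M) : (g : Matrix ι ι F).det = (-c) ^ M := by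
  have := fact_nonsquare hc
  letI : Module (QuadraticAlgebra F c 0) (ι → F) := Module.compHom _ (quadHom hg).toRingHom
  have hsmul : ∀ (k : (QuadraticAlgebra F c 0)) (w : ι → F), k • w = k.re • w + k.im • ((g : Matrix ι ι F) *ᵥ w) := quadHom_apply hg
  have : IsScalarTower F (QuadraticAlgebra F c 0) (ι → F) := ⟨fun t k w => by
    rw [hsmul, hsmul, QuadraticAlgebra.re_smul, QuadraticAlgebra.im_smul, smul_add, smul_smul, smul_smul, smul_eq_mul,
      smul_eq_mul]⟩
  have : Module.Finite (QuadraticAlgebra F c 0) (ι → F) := Module.Finite.of_restrictScalars_finite F (QuadraticAlgebra F c 0) _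
  have hM : finrank (QuadraticAlgebra F c 0) (ι → F) = M := by
    have h := Module.finrank_mul_finrank F (QuadraticAlgebra F c 0) (ι → F)
    rw [QuadraticAlgebra.finrank_eq_two, finrank_fintype_fun_eq_card, hcard] at h
    omega
  let f : (ι → F) →ₗ[(QuadraticAlgebra F c 0)] (ι → F) := (QuadraticAlgebra.omega : (QuadraticAlgebra F c 0)) • LinearMap.id
  have hf : f.restrictScalars F = Matrix.toLin' (g : Matrix ι ι F) := LinearMap.ext fun w => by
    show (QuadraticAlgebra.omega : (QuadraticAlgebra F c 0)) • w = _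
    rw [hsmul, QuadraticAlgebra.omega_re, QuadraticAlgebra.omega_im, zero_smul, one_smul, zero_add,
      Matrix.toLin'_apply]
  rw [← LinearMap.det_toLin', ← hf, LinearMap.det_restrictScalars, LinearMap.det_smul, LinearMap.det_id, mul_one, hM,
    map_pow, Algebra.norm_apply]
  congr 1
  rw [show Algebra.lmul F (QuadraticAlgebra F c 0) (QuadraticAlgebra.omega : (QuadraticAlgebra F c 0)) = DistribSMul.toLinearMap F (QuadraticAlgebra F c 0) (QuadraticAlgebra.omega : (QuadraticAlgebra F c 0)) from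
    LinearMap.ext fun _ => rfl, QuadraticAlgebra.det_toLinearMap_eq_norm, QuadraticAlgebra.norm_def,
    QuadraticAlgebra.omega_re, QuadraticAlgebra.omega_im]
  ring

theorem exists_quadBlock (hc : ¬ IsSquare c) (hg : ∀ w, (g : Matrix ι ι F) *ᵥ ((g : Matrix ι ι F) *ᵥ w) = c • w)
    {M : ℕ} (hcard : Fintype.card ι = 2 * M)
    (hadj : ∀ v w, polar Q ((g : Matrix ι ι F) *ᵥ v) w = polar Q v ((g : Matrix ι ι F) *ᵥ w)) :
    ∃ (K : Type u) (_ : Field K) (_ : Fintype K) (B : Block Q (g : Matrix ι ι F) K),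
      B.n = M ∧ B.θ * B.θ = B.e c ∧ (∀ w, B.E (B.P w) = w) ∧ ∀ t, B.θ ≠ B.e t := by
  have := fact_nonsquare hc
  letI : Module (QuadraticAlgebra F c 0) (ι → F) := Module.compHom _ (quadHom hg).toRingHom
  have hsmul : ∀ (k : (QuadraticAlgebra F c 0)) (w : ι → F), k • w = k.re • w + k.im • ((g : Matrix ι ι F) *ᵥ w) := quadHom_apply hg
  have : IsScalarTower F (QuadraticAlgebra F c 0) (ι → F) := ⟨fun t k w => by
    rw [hsmul, hsmul, QuadraticAlgebra.re_smul, QuadraticAlgebra.im_smul, smul_add, smul_smul, smul_smul, smul_eq_mul,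
      smul_eq_mul]⟩
  have : Module.Finite (QuadraticAlgebra F c 0) (ι → F) := Module.Finite.of_restrictScalars_finite F (QuadraticAlgebra F c 0) _
  have hM : finrank (QuadraticAlgebra F c 0) (ι → F) = M := by
    have h := Module.finrank_mul_finrank F (QuadraticAlgebra F c 0) (ι → F)
    rw [QuadraticAlgebra.finrank_eq_two, finrank_fintype_fun_eq_card, hcard] at h
    omega
  letI : Fintype (QuadraticAlgebra F c 0) := Fintype.ofEquiv (F × F) (QuadraticAlgebra.equivProd c 0).symm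
  let bK : (ι → F) →ₗ[(QuadraticAlgebra F c 0)] (ι → F) →ₗ[(QuadraticAlgebra F c 0)] (QuadraticAlgebra F c 0) := LinearMap.mk₂ (QuadraticAlgebra F c 0)
    (fun v w => ⟨polar Q ((g : Matrix ι ι F) *ᵥ v) w, polar Q v w⟩)
    (fun v v' w => by ext <;> simp [mulVec_add, QuadraticMap.polar_add_left])
    (fun k v w => by
      ext <;> simp only [hsmul, mulVec_add, mulVec_smul, hg, QuadraticMap.polar_add_left, polar_smul_left',
        smul_eq_mul, QuadraticAlgebra.re_mul, QuadraticAlgebra.im_mul] <;> ring)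
    (fun v w w' => by ext <;> simp [QuadraticMap.polar_add_right])
    (fun k v w => by
      ext <;> simp only [hsmul, QuadraticMap.polar_add_right, polar_smul_right', smul_eq_mul, ← hadj, hg,
        polar_smul_left', QuadraticAlgebra.re_mul, QuadraticAlgebra.im_mul] <;> ring)
  let b : (Fin (finrank (QuadraticAlgebra F c 0) (ι → F)) → (QuadraticAlgebra F c 0)) ≃ₗ[(QuadraticAlgebra F c 0)] (ι → F) := (Module.finBasis (QuadraticAlgebra F c 0) (ι → F)).equivFun.symm
  let Bl : LinearMap.BilinForm (QuadraticAlgebra F c 0) (Fin (finrank (QuadraticAlgebra F c 0) (ι → F)) → (QuadraticAlgebra F c 0)) :=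
    LinearMap.BilinForm.comp bK (b : (Fin (finrank (QuadraticAlgebra F c 0) (ι → F)) → (QuadraticAlgebra F c 0)) →ₗ[(QuadraticAlgebra F c 0)] (ι → F))
      (b : (Fin (finrank (QuadraticAlgebra F c 0) (ι → F)) → (QuadraticAlgebra F c 0)) →ₗ[(QuadraticAlgebra F c 0)] (ι → F))
  have hbf : ∀ z z', bf (LinearMap.BilinForm.toMatrix' Bl) z z' = bK (b z) (b z') := fun z z' =>
    (Matrix.toBilin'_apply' _ z z').symm.trans
      (LinearMap.congr_fun₂ (Matrix.toBilin'_toMatrix' Bl) z z')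
  refine ⟨(QuadraticAlgebra F c 0), inferInstance, inferInstance, ⟨finrank (QuadraticAlgebra F c 0) (ι → F), algebraMap F (QuadraticAlgebra F c 0), QuadraticAlgebra.omega,
    b.toLinearMap.toAddMonoidHom, b.symm.toLinearMap.toAddMonoidHom, LinearMap.BilinForm.toMatrix' Bl,
    AddMonoidHom.mk' QuadraticAlgebra.im (fun _ _ => rfl), 1, 0, ?_, ?_, ?_, ?_, ?_, ?_, ?_, ?_⟩, hM, ?_, ?_, ?_⟩
  · refine Matrix.ext fun i j => ?_
    rw [Matrix.transpose_apply, LinearMap.BilinForm.toMatrix'_apply, LinearMap.BilinForm.toMatrix'_apply]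
    show bK (b _) (b _) = bK (b _) (b _)
    ext
    · show polar Q ((g : Matrix ι ι F) *ᵥ _) _ = polar Q ((g : Matrix ι ι F) *ᵥ _) _
      rw [hadj, QuadraticMap.polar_comm]
    · exact QuadraticMap.polar_comm _ _ _
  · exact fun z => b.symm_apply_apply z
  · intro z
    show (g : Matrix ι ι F) *ᵥ b z = b ((QuadraticAlgebra.omega : (QuadraticAlgebra F c 0)) • z)
    rw [map_smul, hsmul, QuadraticAlgebra.omega_re, QuadraticAlgebra.omega_im, zero_smul, one_smul, zero_add]
  · intro t z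
    show b (algebraMap F (QuadraticAlgebra F c 0) t • z) = t • b z
    rw [map_smul, algebraMap_smul]
  · intro w
    show b (b.symm w) = _
    rw [LinearEquiv.apply_symm_apply, one_smul, zero_smul, add_zero]
  · intro z w
    show polar Q (b z) w = (bf _ z (b.symm w)).im
    rw [hbf, LinearEquiv.apply_symm_apply]
    rfl
  · intro k hk
    have h1 : (1 * k : (QuadraticAlgebra F c 0)).im = 0 := hk 1
    have h2 : ((QuadraticAlgebra.omega : (QuadraticAlgebra F c 0)) * k).im = 0 := hk _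
    rw [one_mul] at h1
    rw [QuadraticAlgebra.im_mul, QuadraticAlgebra.omega_re, QuadraticAlgebra.omega_im, h1] at h2
    ext
    · simpa using h2
    · exact h1
  · intro k
    refine ⟨k.re, k.im, ?_⟩
    ext <;> simp [← QuadraticAlgebra.C_eq_algebraMap]
  · ext <;> simp [← QuadraticAlgebra.C_eq_algebraMap]
  · exact fun w => b.apply_symm_apply w
  · intro t h
    have := congrArg QuadraticAlgebra.im h
    simp [← QuadraticAlgebra.C_eq_algebraMap] at this

end Quad

theorem core_eq_bot_nonsquare (S : Space Q M) (h2 : (2 : F) ≠ 0) (hM : 4 ≤ M)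
    (hgam : Cfsg.gammaPOmega F ⇑Q = ⊤) (g : sim Q) {c : Fˣ} (hg : g.1 * g.1 = GeneralLinearGroup.scalar ι c)
    (hc : ¬ IsSquare (c : F)) (hmu : ∀ v, Q ((g.1 : Matrix ι ι F) *ᵥ v) = (c : F) * Q v)
    (hord : orderOf (simAut Q g) = 2)
    (A : Subgroup (MulAut (Cfsg.POmega F ⇑Q))) (hle : Cfsg.Inn (Cfsg.POmega F ⇑Q) ≤ A) :
    Cfsg.pPrimeCore 2 ↥(A ⊓ Subgroup.centralizer {simAut Q g}) = ⊥ := by
  have hgg : ∀ w, (g.1 : Matrix ι ι F) *ᵥ ((g.1 : Matrix ι ι F) *ᵥ w) = (c : F) • w := fun w => by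
    rw [mulVec_mulVec, ← Units.val_mul, hg, GeneralLinearGroup.coe_scalar, Matrix.scalar_apply,
      ← Matrix.smul_one_eq_diagonal, smul_mulVec, one_mulVec]
  have hadj : ∀ v w, polar Q ((g.1 : Matrix ι ι F) *ᵥ v) w = polar Q v ((g.1 : Matrix ι ι F) *ᵥ w) := by
    intro v w
    have h : polar Q ((g.1 : Matrix ι ι F) *ᵥ v) ((g.1 : Matrix ι ι F) *ᵥ ((g.1 : Matrix ι ι F) *ᵥ w)) =
        (c : F) * polar Q v ((g.1 : Matrix ι ι F) *ᵥ w) := by
      simp only [polar, ← mulVec_add, hmu]; ring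
    rw [hgg, polar_smul_right'] at h
    exact mul_left_cancel₀ c.ne_zero h
  obtain ⟨K, _, _, B, hBn, hθ, hEP, hind⟩ := exists_quadBlock (Q := Q) hc hgg S.card hadj
  have hn0 : 0 < Fintype.card ι := by have := S.five; omega
  refine core_eq_bot_of S hgam hord hg ?_ ?_ A hle
  · intro W hW hodd s hs hsW
    obtain ⟨a, -, ha⟩ := B.res_sign S h2 (Or.inr (by omega)) W hW hodd s hs hsW
    obtain ⟨d, hd⟩ := scalar_of_mulVec' (A := s.1.1) (a := a) hn0 fun w => by
      conv_lhs => rw [← hEP w]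
      exact (ha _).trans (by rw [hEP])
    exact Or.inl ((simAut_eq_one_iff S.nondeg S.five).2 ⟨d, by rw [toSim_coe, hd]⟩)
  · intro X τ hX k _ hcc
    obtain ⟨rfl, a, ha0, ha⟩ := B.semi_scalar h2 S.nondeg (by omega) S.five hX hcc
    obtain ⟨μ, hμ⟩ := sim_of_semi hX
    have hsa := B.mul_self_eq h2 S.nondeg (by omega) hμ (k := a) fun z => ha z
    obtain ⟨s, t, rfl⟩ := B.gen a
    refine ⟨rfl, ?_⟩
    have hX' : ∀ w, (X : Matrix ι ι F) *ᵥ w = s • w + t • ((g.1 : Matrix ι ι F) *ᵥ w) := by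
      intro w
      conv_lhs => rw [← hEP w]
      show semiL X (RingEquiv.refl F) _ = _
      refine (ha (B.P w)).trans ?_
      rw [add_smul, mul_smul, map_add, B.E_smul, B.E_smul, ← B.g_E, hEP]
    have hst : s = 0 ∨ t = 0 := by
      by_contra hne
      push Not at hne
      refine hind (((μ : F) - s * s - t * t * c) / (2 * (s * t))) ?_
      have h2K := B.two_ne h2
      have hne' : B.e (2 * (s * t)) ≠ 0 := (map_ne_zero B.e).2 (mul_ne_zero h2 (mul_ne_zero hne.1 hne.2))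
      rw [map_div₀, eq_div_iff hne']
      simp only [map_sub, _root_.map_mul, map_ofNat]
      linear_combination hsa - B.e t * B.e t * hθ
    rcases hst with rfl | rfl
    · obtain ⟨d, hd⟩ := scalar_of_mulVec' (A := X * g.1⁻¹) (a := t) hn0 fun w => by
        obtain ⟨w, rfl⟩ : ∃ v, (g.1 : Matrix ι ι F) *ᵥ v = w :=
          ⟨((g.1⁻¹ : GL ι F) : Matrix ι ι F) *ᵥ w, by
            rw [mulVec_mulVec, ← Units.val_mul, mul_inv_cancel, Units.val_one, one_mulVec]⟩
        rw [mulVec_mulVec, ← Units.val_mul, inv_mul_cancel_right, hX', zero_smul, zero_add]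
      exact ⟨d, Or.inr (by rw [← hd, inv_mul_cancel_right])⟩
    · obtain ⟨d, hd⟩ := scalar_of_mulVec' (A := X) (a := s) hn0 fun w => by rw [hX', zero_smul, add_zero]
      exact ⟨d, Or.inl hd⟩

/-- The core of the centraliser of an involutory graph automorphism is trivial. -/
theorem graph_core_eq_bot (S : Space Q M) (h2 : (2 : F) ≠ 0) (hM : 4 ≤ M)
    (hgam : Cfsg.gammaPOmega F ⇑Q = ⊤) (g : sim Q) (hchi : chi S g = -1) (hord : orderOf (simAut Q g) = 2)
    (A : Subgroup (MulAut (Cfsg.POmega F ⇑Q))) (hle : Cfsg.Inn (Cfsg.POmega F ⇑Q) ≤ A) :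
    Cfsg.pPrimeCore 2 ↥(A ⊓ Subgroup.centralizer {simAut Q g}) = ⊥ := by
  obtain ⟨c, hg⟩ := sq_scalar S hord
  have hne : ∀ h : sim Q, chi S h = -1 → ((h.1 : Matrix ι ι F).det ≠ (mu h : F) ^ M) := fun h hh e => by
    rw [chi_odd S h2, dsign, if_pos e] at hh
    exact absurd hh (by decide)
  by_cases hc : IsSquare (c : F)
  · obtain ⟨l, hl⟩ := hc
    have hl0 : l ≠ 0 := fun h0 => c.ne_zero (by rw [hl, h0, mul_zero])
    set g' : sim Q := ⟨GeneralLinearGroup.scalar ι (Units.mk0 l hl0)⁻¹, scalar_mem_sim _⟩ * g with hg'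
    have hx : simAut Q g' = simAut Q g := by
      rw [hg', map_mul, (simAut_eq_one_iff S.nondeg S.five).2 ⟨_, rfl⟩, one_mul]
    have hchi' : chi S g' = -1 := by rw [hg', map_mul, chi_scalar, one_mul, hchi]
    have hsq : g'.1 * g'.1 = 1 := by
      show GeneralLinearGroup.scalar ι _ * g.1 * (GeneralLinearGroup.scalar ι _ * g.1) = 1
      rw [mul_assoc, ← mul_assoc g.1, ← (GeneralLinearGroup.scalar_commute _ g.1), mul_assoc, hg, ← map_mul,
        ← map_mul, ← map_one (GeneralLinearGroup.scalar ι (R := F))]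
      congr 1
      refine Units.ext ?_
      simp only [Units.val_mul, Units.val_inv_eq_inv_val, Units.val_mk0, Units.val_one, hl]
      field_simp
    have hmu2 : mu g' * mu g' = 1 := by
      rw [← mu_mul S.value]
      refine mu_unique S.value fun v => ?_
      rw [Subgroup.coe_mul, hsq, Units.val_one, one_mulVec, Units.val_one, one_mul]
    rcases mul_self_eq_one_iff.1 (show (mu g' : F) * mu g' = 1 by rw [← Units.val_mul, hmu2, Units.val_one]) with e | e
    · rw [← hx]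
      refine core_eq_bot_square S h2 hM hgam g' hsq (fun v => by rw [mu_spec, e, one_mul]) (fun hd => ?_)
        (hx ▸ hord) A hle
      exact hne g' hchi' (by rw [hd, e, one_pow])
    · -- the eigenspaces would be totally singular of dimension `M`
      refine absurd ?_ (hne g' hchi')
      have hts : ∀ s : F, s * s = 1 → TotSing Q (eig g'.1 s) := fun s hs v hv => by
        have h := mu_spec g' v
        rw [mem_eig.1 hv, qmap_smul, pow_two, hs, one_mul, e, neg_one_mul] at h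
        exact (mul_eq_zero.1 (show (2 : F) * Q v = 0 by linear_combination h)).resolve_left h2
      have h1 := TotSing.two_mul_finrank_le S.nondeg (hts 1 (one_mul 1))
      have h1' := TotSing.two_mul_finrank_le S.nondeg (hts (-1) (by ring))
      rw [finrank_fintype_fun_eq_card, S.card] at h1 h1'
      have hsum := eig_dim h2 hsq
      rw [S.card] at hsum
      rw [det_invol h2 hsq, show finrank F (eig g'.1 (-1 : F)) = M by omega, e]
  · have hmu2 : mu g * mu g = c * c := by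
      rw [← mu_mul S.value]
      refine mu_unique S.value fun v => ?_
      rw [Subgroup.coe_mul, hg, GeneralLinearGroup.coe_scalar, Matrix.scalar_apply, ← Matrix.smul_one_eq_diagonal,
        smul_mulVec, one_mulVec, qmap_smul, Units.val_mul, pow_two]
    rcases mul_self_eq_mul_self_iff.1 (show (mu g : F) * mu g = c * c by rw [← Units.val_mul, hmu2, Units.val_mul]) with e | e
    · exact core_eq_bot_nonsquare S h2 hM hgam g hg hc (fun v => by rw [mu_spec, e]) hord A hle
    · refine absurd ?_ (hne g hchi)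
      have hgg : ∀ w, (g.1 : Matrix ι ι F) *ᵥ ((g.1 : Matrix ι ι F) *ᵥ w) = (c : F) • w := fun w => by
        rw [mulVec_mulVec, ← Units.val_mul, hg, GeneralLinearGroup.coe_scalar, Matrix.scalar_apply,
          ← Matrix.smul_one_eq_diagonal, smul_mulVec, one_mulVec]
      rw [quad_det hc hgg S.card, e]

end Cfsg.Agent.H58.OrthoField
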