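import Mathlib
import Cfsg.Agent.H58.OrthoField.BalanceMain
import Cfsg.Agent.H58.OrthoField.GraphInvol

/-!
# Local balance for the minus type
-/

set_option autoImplicit false
set_option linter.unusedSectionVars false

namespace Cfsg.Agent.H58.OrthoField

open Matrix Module Cfsg.Agent.Orthogonal Cfsg.Agent.H58.OrthoAut Cfsg.Agent.H58.OrthoKlein Cfsg.Agent.H58.Twist
  Cfsg.Agent.H58.OrthoOuter Cfsg.Agent.H58.LocalBalance
open QuadraticMap (polar)

universe u

/-- A semilinear map intertwined with `σ` by a similitude is the transported field automorphism. -/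
theorem semiAut_eq_autIso_fld {F : Type*} [Field F] {ι : Type} [Fintype ι] [DecidableEq ι]
    {Q Q' : QuadraticForm F (ι → F)} {σ : F ≃+* F} (hσ : Fixed Q' σ)
    (D : Datum ((RingEquiv.refl F : F ≃+* F) : F →+* F) Q' Q) {g : GL ι F}
    (h : Cfsg.IsSemisimilarityPair ⇑Q g σ) (hg : ∀ z, (g : Matrix ι ι F) *ᵥ (σ ∘ D.E z) = D.E (σ ∘ z)) :
    semiAut g σ h = D.autIso (fld σ hσ) := by
  refine D.eq_autIso fun z => ?_
  induction z using QuotientGroup.induction_on with | _ s
  show (semiDatum h).iso (D.iso (QuotientGroup.mk s)) = D.iso ((semiDatum (semi_fixed hσ)).iso (QuotientGroup.mk s))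
  rw [Datum.iso_mk, Datum.iso_mk, Datum.iso_mk, Datum.iso_mk]
  refine congrArg QuotientGroup.mk (Subtype.ext (Subtype.ext ?_))
  rw [Datum.psiO_coe, Datum.psiO_coe, Datum.psiO_coe, Datum.psiO_coe, semiDatum_psiGL, semiDatum_psiGL, one_mul,
    inv_one, mul_one, mul_inv_eq_iff_eq_mul]
  refine Units.ext (Matrix.ext_iff_mulVec.2 fun y => ?_)
  obtain ⟨z, rfl⟩ : ∃ z, σ ∘ D.E z = y := ⟨D.E.symm (σ.symm ∘ y), funext fun i => by simp⟩
  have hpsi : ∀ (X : GL ι F) (w : ι → F), (D.psiGL X : Matrix ι ι F) *ᵥ D.E w = D.E ((X : Matrix ι ι F) *ᵥ w) :=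
    fun X w => D.psiGL_mulVec X w
  have hmap : ∀ (X : GL ι F) (w : ι → F),
      ((GeneralLinearGroup.map (σ : F →+* F) X : GL ι F) : Matrix ι ι F) *ᵥ (σ ∘ w) = σ ∘ ((X : Matrix ι ι F) *ᵥ w) :=
    fun X w => funext fun j => (RingHom.map_mulVec (σ : F →+* F) _ w j).symm
  rw [Units.val_mul, Units.val_mul, ← mulVec_mulVec, ← mulVec_mulVec, hmap, hpsi, hg, hg, hpsi, hmap]

set_option maxHeartbeats 1000000 in
theorem balance_minus {F : Type u} [Field F] [Fintype F] {m : ℕ} (hm : 3 ≤ m) {a b : F} (hab : BinAniso a b) {p : ℕ}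
    [hp : Fact p.Prime] (hpF : (p : F) ≠ 0) (A : Subgroup (MulAut (Cfsg.POmega F ⇑(formMinus F m a b))))
    (hle : Cfsg.Inn (Cfsg.POmega F ⇑(formMinus F m a b)) ≤ A) (x : MulAut (Cfsg.POmega F ⇑(formMinus F m a b)))
    (hord : orderOf x = p) (hnot : x ∉ chiKer (space_minus (show 2 ≤ m by omega) hab)) :
    Cfsg.pPrimeCore p ↥(A ⊓ Subgroup.centralizer {x}) ≠ ⊥ ↔
      (Cfsg.IsFieldAutClassPOmegaMinus m x ∧
        Nat.Coprime p
          (Nat.card ↥(MonoidHom.eqLocus x.toMonoidHom (MonoidHom.id (Cfsg.POmega F ⇑(formMinus F m a b)))))) := by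
  have hm2 : 2 ≤ m := by omega
  have S := space_minus hm2 hab
  have hgam := gamma_minus (F := F) hm hab
  obtain ⟨g, σ, hg, rfl⟩ := exists_semi hgam x
  by_cases hσ : σ = RingEquiv.refl F
  · -- an involutory graph automorphism
    subst hσ
    have hx : semiAut g (RingEquiv.refl F) hg = simAut _ ⟨g, sim_of_semi hg⟩ := semiAut_eq_simAut hg
    rw [hx] at hord hnot ⊢
    set G : sim (formMinus F m a b) := ⟨g, sim_of_semi hg⟩
    have hchi : chi (space_minus hm2 hab) G = -1 :=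
      (Int.units_eq_one_or _).resolve_left fun h => hnot ⟨G, MonoidHom.mem_ker.2 h, rfl⟩
    have hp2 : p = 2 := by
      by_contra hne
      obtain ⟨j, hj⟩ := hp.out.odd_of_ne_two hne
      refine hnot ⟨G ^ (2 * (j + 1)), MonoidHom.mem_ker.2 (by rw [map_pow, pow_mul, Int.units_sq, one_pow]), ?_⟩
      rw [map_pow, show 2 * (j + 1) = p + 1 by omega, pow_succ, ← hord, pow_orderOf_eq_one, one_mul]
    subst hp2
    have h2 : (2 : F) ≠ 0 := fun h => hpF (by exact_mod_cast h)
    refine iff_of_false (fun h => h (graph_core_eq_bot (space_minus hm2 hab) h2 (by omega) hgam G hchi hord A hle))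
      fun ⟨hcl, _⟩ => ?_
    obtain ⟨σ', g', h', hσ', e⟩ := minusClass_semi hm2 hab hgam hcl
    rw [simAut_eq] at e
    exact hσ' (semiAut_field _ h' S.nondeg S.five e).symm
  · obtain ⟨hoσ, G, hG, he, hN1⟩ := exists_normProd_one hg S.nondeg S.five hσ hp.out (pow_eq_one_of_orderOf hord)
    rw [← he] at hord ⊢
    have hf := fixedBy_subtype σ
    letI : Fintype (Descent.fixedField σ) := Fintype.ofFinite _
    have hN' : normProd (gmap σ) G (orderOf σ) = 1 := by rw [hoσ]; exact hN1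
    set e := (Descent.fixedField σ).subtype with he'
    obtain ⟨hodd, ζ, hζ, D, hD⟩ := descends_minus hm2 hab hf hp.out hoσ hG hN'
    have hab' : BinAniso (e 1) (e ζ) := binAniso_map_of_odd hf (hoσ ▸ hodd) hζ
    let Bt := D.between (baseMinus e m 1 ζ)
    have hfix : Fixed (formMinus F m (e 1) (e ζ)) σ := fixed_minus (hf.apply 1) (hf.apply ζ)
    have hBt : semiAut G σ hG = Bt.autIso (fld σ hfix) :=
      semiAut_eq_autIso_fld hfix Bt hG fun z => hD.semilinear hf z
    have hclass : Cfsg.IsFieldAutClassPOmegaMinus m (semiAut G σ hG) := by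
      refine ⟨e 1, e ζ, Bt.iso.symm, σ, hab', hσ, hf.apply 1, hf.apply ζ, ?_⟩
      have hψ : (Bt.iso.symm.symm.trans (semiAut G σ hG)).trans Bt.iso.symm = fld σ hfix := MulEquiv.ext fun z => by
        show Bt.iso.symm (semiAut G σ hG (Bt.iso z)) = _
        rw [hBt, Bt.autIso_apply, MulEquiv.symm_apply_apply]
      show Cfsg.IsFieldAutPOmegaOf ⇑(formMinus F m (e 1) (e ζ)) σ _
      exact hψ ▸ isFieldAut_fld hfix
    rw [core_iff hf hD S.nondeg S.five hgam hG hN' hpF hord hσ A hle]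
    exact ⟨fun h => ⟨hclass, h⟩, fun h => h.2⟩

end Cfsg.Agent.H58.OrthoField
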