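import Mathlib
import Cfsg.Agent.H27.D4
import Cfsg.Agent.H56.ChevAut.Counts
import Cfsg.Agent.H58.OrthoField.Parts

/-!
# The inner-diagonal group of the plus type is normal, triality included

In dimension eight the inner-diagonal group is transported from the Chevalley group of type `D₄`,
where it is the group of inner and diagonal automorphisms.
-/

set_option autoImplicit false
set_option linter.unusedSectionVars false

namespace Cfsg.Agent.H58.OrthoField

open Matrix Cfsg.Agent.Orthogonal Cfsg.Agent.H58.OrthoAut Cfsg.Agent.H58.OrthoKlein Cfsg.Agent.H58.Twist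
  Cfsg.Agent.H58.OrthoOuter Cfsg.Lie
open Cfsg.Agent.H27.SplitOrtho (elGroup elMat op el_val omega_eq)
open Cfsg.Agent.H27.D4 (ra rb rs xr xe root_ne adD4 adD4_range adD4_ker adHom_xe)

universe u

variable {F : Type u} [Field F] [Fintype F]

/-- The elementary group is `Ω`. -/
noncomputable def elToOmega : elGroup 4 F ≃* Cfsg.Omega F ⇑(formPlus F 4) :=
  MulEquiv.subgroupCongr (omega_eq (by norm_num : 3 ≤ 4)).symm

/-- The group of type `D₄` as a quotient of the elementary group. -/
noncomputable def elQuot : (elGroup 4 F ⧸ Subgroup.center (elGroup 4 F)) ≃* ↥(chevD4.group F) :=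
  ((QuotientGroup.quotientMulEquivOfEq (adD4_ker (F := F)).symm).trans
    (QuotientGroup.quotientKerEquivRange adD4)).trans (MulEquiv.subgroupCongr adD4_range)

theorem elQuot_mk (g : elGroup 4 F) : ((elQuot (QuotientGroup.mk g) : ↥(chevD4.group F)) : GL chevD4.Idx F) = adD4 g :=
  rfl

/-- `D₄(F) ≅ PΩ⁺₈(F)`, as a map. -/
noncomputable def d4Iso : ↥(chevD4.group F) ≃* Cfsg.POmega F ⇑(formPlus F 4) :=
  elQuot.symm.trans (QuotientGroup.congr _ _ elToOmega (by
    ext x
    obtain ⟨y, rfl⟩ := (elToOmega (F := F)).surjective x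
    rw [show (elToOmega (F := F)) y = (elToOmega (F := F)).toMonoidHom y from rfl]
    refine (Subgroup.mem_map_iff_mem (f := (elToOmega (F := F)).toMonoidHom) (MulEquiv.injective _)).trans ?_
    rw [Subgroup.mem_center_iff, Subgroup.mem_center_iff]
    refine ⟨fun h z => ?_, fun h z => (elToOmega (F := F)).injective ?_⟩
    · obtain ⟨z, rfl⟩ := (elToOmega (F := F)).surjective z
      exact (map_mul _ z y).symm.trans ((congrArg _ (h z)).trans (map_mul _ y z))
    · exact (map_mul _ z y).trans ((h _).trans (map_mul _ y z).symm)))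

theorem d4Iso_mk (g : elGroup 4 F) {x : ↥(chevD4.group F)} (hx : (x : GL chevD4.Idx F) = adD4 g) :
    d4Iso x = QuotientGroup.mk (elToOmega g) := by
  rw [show x = elQuot (QuotientGroup.mk g) from Subtype.ext hx, d4Iso, MulEquiv.trans_apply,
    MulEquiv.symm_apply_apply]
  rfl

theorem d4Iso_root (S : H56.ChevAut.Setup chevD4 F) (r : Fin 24) (t : F) :
    d4Iso (H37.RootSys.xG S.Q.K F r.val t) = QuotientGroup.mk (elToOmega (xe r t)) := by
  refine d4Iso_mk _ (Units.ext ?_)
  have hr : r.val < chevD4.nroots := r.isLt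
  show chevD4.x F r.val t = _
  rw [ChevalleyDatum.x, dif_pos hr]
  exact (adHom_xe r t).symm

/-- Conjugation of an elementary matrix by a diagonal one. -/
theorem diagonal_conj_elMat {d : Fin 4 ⊕ Fin 4 → F} {a b : Fin 4 ⊕ Fin 4} {χ : F}
    (ha : d a = χ * d (op b)) (hb : d b = χ * d (op a)) (s : F) :
    Matrix.diagonal d * elMat a b s = elMat a b (χ * s) * Matrix.diagonal d := by
  have h1 : ∀ (i j : Fin 4 ⊕ Fin 4) (x : F), Matrix.diagonal d * Matrix.single i j x = Matrix.single i j (d i * x) :=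
    fun i j x => by
      ext k l
      rw [Matrix.diagonal_mul, Matrix.single_apply, Matrix.single_apply]
      split_ifs with h
      · rw [h.1]
      · rw [mul_zero]
  have h2 : ∀ (i j : Fin 4 ⊕ Fin 4) (x : F), Matrix.single i j x * Matrix.diagonal d = Matrix.single i j (x * d j) :=
    fun i j x => by
      ext k l
      rw [Matrix.mul_diagonal, Matrix.single_apply, Matrix.single_apply]
      split_ifs with h
      · rw [h.2]
      · rw [zero_mul]
  rw [elMat, elMat, mul_sub, mul_add, mul_one, sub_mul, add_mul, one_mul, h1, h1, h2, h2, ha, hb]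
  rw [show χ * d (op b) * s = χ * s * d (op b) by ring, show χ * d (op a) * s = χ * s * d (op a) by ring]

/-- The value of the character of a diagonal similitude at a root. -/
def diagVal (a b : Fin 4 → Fˣ) (μ : Fˣ) (r : Fin 24) : Fˣ :=
  Sum.elim a b (ra r) * Sum.elim a b (rb r) * μ⁻¹

theorem simAut_root (S : H56.ChevAut.Setup chevD4 F) {a b : Fin 4 → Fˣ} {μ : Fˣ} (h : ∀ i, a i * b i = μ)
    (r : Fin 24) (t : F) :
    simAut (formPlus F 4) (diagSim h) (d4Iso (H37.RootSys.xG S.Q.K F r.val t)) =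
      d4Iso (H37.RootSys.xG S.Q.K F r.val ((diagVal a b μ r : F) * t)) := by
  rw [d4Iso_root, d4Iso_root, simAut_mk]
  refine congrArg QuotientGroup.mk (Subtype.ext (Subtype.ext ?_))
  rw [omegaConj_val, mul_inv_eq_iff_eq_mul]
  refine Units.ext ?_
  show Matrix.diagonal _ * elMat (ra r) (rb r) ((rs r : F) * t)
    = elMat (ra r) (rb r) ((rs r : F) * ((diagVal a b μ r : F) * t)) * Matrix.diagonal _
  have hop : ∀ j : Fin 4 ⊕ Fin 4, (μ : F) = Sum.elim (fun i => (a i : F)) (fun i => (b i : F)) j *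
      Sum.elim (fun i => (a i : F)) (fun i => (b i : F)) (op j) := by
    rintro (i | i) <;> simp [op, ← h i, mul_comm]
  have hv : (diagVal a b μ r : F) = Sum.elim (fun i => (a i : F)) (fun i => (b i : F)) (ra r) *
      Sum.elim (fun i => (a i : F)) (fun i => (b i : F)) (rb r) * (μ : F)⁻¹ := by
    simp only [diagVal, Units.val_mul, Units.val_inv_eq_inv_val]
    congr 2 <;> [cases ra r; cases rb r] <;> rfl
  rw [mul_left_comm]
  refine diagonal_conj_elMat ?_ ?_ _
  · rw [hv]
    have := μ.ne_zero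
    field_simp
    rw [hop (rb r)]
    ring
  · rw [hv]
    have := μ.ne_zero
    field_simp
    rw [hop (ra r)]
    ring

/-- The simple roots of `D₄` and their negatives in the table. -/
def simpleRoot : Fin 4 → Fin 24 := ![18, 14, 13, 12]

/-- The negatives of the simple roots. -/
def negRoot : Fin 4 → Fin 24 := ![5, 9, 10, 11]

theorem simple_eq : ∀ i : Fin 4, chevD4.simple i.val = (simpleRoot i).val ∧
    chevD4.neg (chevD4.simple i.val) = (negRoot i).val := by decide +kernel

theorem diagVal_neg {a b : Fin 4 → Fˣ} {μ : Fˣ} (h : ∀ i, a i * b i = μ) (i : Fin 4) :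
    diagVal a b μ (negRoot i) = (diagVal a b μ (simpleRoot i))⁻¹ := by
  rw [eq_inv_iff_mul_eq_one]
  have e : ∀ j : Fin 4 ⊕ Fin 4, Sum.elim a b j * Sum.elim a b (op j) = μ := by
    rintro (j | j) <;> simp [op, ← h j, mul_comm]
  have hop : ∀ i : Fin 4, (ra (negRoot i) = op (ra (simpleRoot i)) ∧ rb (negRoot i) = op (rb (simpleRoot i))) ∨
      (ra (negRoot i) = op (rb (simpleRoot i)) ∧ rb (negRoot i) = op (ra (simpleRoot i))) := by decide +kernel
  simp only [diagVal]
  rcases hop i with ⟨h1, h2⟩ | ⟨h1, h2⟩ <;> rw [h1, h2]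
  · calc _ = (Sum.elim a b (ra (simpleRoot i)) * Sum.elim a b (op (ra (simpleRoot i)))) * μ⁻¹ *
          ((Sum.elim a b (rb (simpleRoot i)) * Sum.elim a b (op (rb (simpleRoot i)))) * μ⁻¹) := by
            simp only [mul_comm, mul_left_comm, mul_assoc]
      _ = 1 := by rw [e, e, mul_inv_cancel, one_mul]
  · calc _ = (Sum.elim a b (ra (simpleRoot i)) * Sum.elim a b (op (ra (simpleRoot i)))) * μ⁻¹ *
          ((Sum.elim a b (rb (simpleRoot i)) * Sum.elim a b (op (rb (simpleRoot i)))) * μ⁻¹) := by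
            simp only [mul_comm, mul_left_comm, mul_assoc]
      _ = 1 := by rw [e, e, mul_inv_cancel, one_mul]

/-- A diagonal similitude acts as a diagonal automorphism. -/
theorem congr_diagHom (S : H56.ChevAut.Setup chevD4 F) {a b : Fin 4 → Fˣ} {μ : Fˣ} (h : ∀ i, a i * b i = μ) :
    MulAut.congr (d4Iso (F := F)) (S.diagHom fun i => diagVal a b μ (simpleRoot i))
      = simAut (formPlus F 4) (diagSim h) := by
  refine (MulEquiv.eq_symm_apply _).1 (S.aut_ext (fun i t => ?_) (fun i t => ?_))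
  · show _ = d4Iso.symm (simAut (formPlus F 4) (diagSim h) (d4Iso _))
    rw [MulEquiv.eq_symm_apply, S.diagHom_apply, S.diagAut_xs]
    show d4Iso (H37.RootSys.xG S.Q.K F (chevD4.simple i.val) _) = simAut (formPlus F 4) (diagSim h) (d4Iso (H37.RootSys.xG S.Q.K F (chevD4.simple i.val) t))
    rw [(simple_eq i).1, simAut_root]
  · show _ = d4Iso.symm (simAut (formPlus F 4) (diagSim h) (d4Iso _))
    rw [MulEquiv.eq_symm_apply, S.diagHom_apply, S.diagAut_ys]
    show d4Iso (H37.RootSys.xG S.Q.K F (chevD4.neg (chevD4.simple i.val)) _)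
      = simAut (formPlus F 4) (diagSim h) (d4Iso (H37.RootSys.xG S.Q.K F (chevD4.neg (chevD4.simple i.val)) t))
    rw [(simple_eq i).2, simAut_root]
    exact congrArg (fun u : Fˣ => d4Iso (H37.RootSys.xG S.Q.K F (negRoot (Fin.mk i.val i.isLt)).val ((u : F) * t)))
      (diagVal_neg h (Fin.mk i.val i.isLt)).symm

theorem exists_diag (c : Fin 4 → Fˣ) :
    ∃ (a b : Fin 4 → Fˣ) (μ : Fˣ), (∀ i, a i * b i = μ) ∧ (fun i => diagVal a b μ (simpleRoot i)) = c := by
  let μ : Fˣ := c 2 * (c 3)⁻¹
  let a : Fin 4 → Fˣ := ![c 0 * c 1 * c 2, c 1 * c 2, c 2, 1]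
  refine ⟨a, fun i => μ * (a i)⁻¹, μ, fun i => by show a i * (μ * (a i)⁻¹) = μ; rw [mul_comm μ, mul_inv_cancel_left], funext fun i => ?_⟩
  fin_cases i <;>
    simp [diagVal, simpleRoot, ra, rb, a, μ, mul_comm, mul_left_comm, mul_assoc]

theorem map_inn {G H : Type*} [Group G] [Group H] (e : G ≃* H) :
    (Cfsg.Inn G).map (MulAut.congr e).toMonoidHom = Cfsg.Inn H := by
  ext y
  constructor
  · rintro ⟨_, ⟨g, rfl⟩, rfl⟩
    exact ⟨e g, MulEquiv.ext fun z => by simp [MulAut.congr, MulAut.conj_apply]⟩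
  · rintro ⟨z, rfl⟩
    obtain ⟨g, rfl⟩ := e.surjective z
    exact ⟨_, ⟨g, rfl⟩, MulEquiv.ext fun z => by simp [MulAut.congr, MulAut.conj_apply]⟩

theorem chi_diagSim {m : ℕ} (S : Space (formPlus F m) m) (hm : 0 < m) (h2 : (2 : F) ≠ 0) {a b : Fin m → Fˣ} {μ : Fˣ}
    (h : ∀ i, a i * b i = μ) : chi S (diagSim h) = 1 := by
  rw [chi_odd S h2, dsign, if_pos]
  rw [det_diagSim h, mu_diagSim hm h]

/-- Normality in dimension eight. -/
theorem chiKer_normal_four : (chiKer (space_plus (K := F) (show 3 ≤ 4 by omega))).Normal := by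
  have S' := space_plus (K := F) (show 3 ≤ 4 by omega)
  by_cases h2 : (2 : F) = 0
  · rw [chiKer_eq_inn_two _ h2]
    exact inferInstance
  obtain ⟨S⟩ := H56.ChevAut.exists_setup (D := chevD4) (by simp) F
  let q := QuotientGroup.mk' (Cfsg.Inn ↥(chevD4.group F))
  let Δ := S.diagOut.range.comap q
  have hΔn : Δ.Normal := S.normal_diagOut.comap q
  have hΔ : Δ = Cfsg.Inn ↥(chevD4.group F) ⊔ S.diagHom.range := by
    show (S.diagOut.range).comap q = _
    rw [show S.diagOut.range = S.diagHom.range.map q from MonoidHom.range_comp _ _, Subgroup.comap_map_eq,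
      QuotientGroup.ker_mk', sup_comm]
  have hP : Δ.map (MulAut.congr (d4Iso (F := F))).toMonoidHom = chiKer (space_plus (K := F) (show 3 ≤ 4 by omega)) := by
    rw [hΔ, Subgroup.map_sup, map_inn]
    have hdiag : ∀ {a b : Fin 4 → Fˣ} {μ : Fˣ} (h : ∀ i, a i * b i = μ),
        simAut (formPlus F 4) (diagSim h) ∈ S.diagHom.range.map (MulAut.congr (d4Iso (F := F))).toMonoidHom :=
      fun {a b μ} h => ⟨_, ⟨_, rfl⟩, congr_diagHom S h⟩
    refine le_antisymm (sup_le (inn_le_chiKer _) ?_) ?_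
    · rintro _ ⟨_, ⟨c, rfl⟩, rfl⟩
      obtain ⟨a, b, μ, h, hc⟩ := exists_diag (F := F) c
      rw [← hc]
      exact ⟨diagSim h, MonoidHom.mem_ker.2 (chi_diagSim _ (by omega) h2 h), (congr_diagHom S h).symm⟩
    · have H : Setup (formPlus F 4) 4 := ⟨S'.nondeg, h2, S'.card, S'.five⟩
      obtain ⟨ν, hν⟩ := FiniteField.exists_nonsquare (F := F) (fun h => h2 (by rw [← Nat.cast_two, ← h, ringChar.Nat.cast_ringChar]))
      have hν0 : ν ≠ 0 := fun h => hν (h ▸ IsSquare.zero)
      have hg : ∀ _i : Fin 4, (1 : Fˣ) * Units.mk0 ν hν0 = Units.mk0 ν hν0 := fun _ => one_mul _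
      refine chiKer_le_of_witness H _ _ le_sup_left (g := diagSim hg) ?_ (ds_diagSim H (by omega) hg)
        (Subgroup.mem_sup_right (hdiag hg)) (t := torus (Pi.mulSingle 0 (Units.mk0 ν hν0))) (dt_torus H _) ?_ ?_
      · rw [sg_diagSim H (by omega) hg]
        exact sqSign_of_not_isSquare hν
      · rw [th_torus H, Finset.prod_eq_single (0 : Fin 4) (fun j _ hj => by
          rw [Pi.mulSingle_eq_of_ne hj]; exact sqSign_of_isSquare IsSquare.one) (by simp), Pi.mulSingle_eq_same]
        exact sqSign_of_not_isSquare hν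
      · set τ : Fin 4 → Fˣ := Pi.mulSingle 0 (Units.mk0 ν hν0)
        refine Subgroup.mem_sup_right ?_
        rw [show toSim (formPlus F 4) (torus τ) = diagSim (a := τ) (b := τ⁻¹) (μ := 1) (fun i => mul_inv_cancel _) from
          Subtype.ext rfl]
        exact hdiag _
  rw [← hP]
  exact hΔn.map _ (MulAut.congr (d4Iso (F := F))).surjective

/-- The inner-diagonal group of the plus type is normal. -/
theorem chiKer_plus_normal {m : ℕ} (hm : 4 ≤ m) :
    (chiKer (space_plus (K := F) (show 3 ≤ m by omega))).Normal := by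
  rcases eq_or_lt_of_le hm with rfl | h
  · exact chiKer_normal_four
  · exact chiKer_normal _ (gamma_plus h)

end Cfsg.Agent.H58.OrthoField
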