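import Mathlib
import Cfsg.Agent.H58.OrthoField.D4Normal

/-!
# Field automorphisms of the plus type in every dimension at least eight
-/

set_option autoImplicit false
set_option linter.unusedSectionVars false

namespace Cfsg.Agent.H58.OrthoField

open Matrix Module Cfsg.Agent.Orthogonal Cfsg.Agent.H58.OrthoAut Cfsg.Agent.H58.OrthoKlein Cfsg.Agent.H58.Twist
  Cfsg.Agent.H58.OrthoOuter

variable {F : Type*} [Field F] [Fintype F] {m : ℕ}

theorem field_plus_all (hm : 4 ≤ m) {p f : ℕ} [Fact p.Prime] (hF : Fintype.card F = p ^ f) (hf : 1 ≤ f)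
    {x : MulAut (Cfsg.POmega F ⇑(formPlus F m))} (hx : Cfsg.IsFieldAutClassPOmega ⇑(formPlus F m) x) {r : ℕ}
    (hr : r.Prime) (hxr : orderOf x = r) (F₀ : Type*) [Field F₀] [Fintype F₀]
    (hF₀ : Fintype.card F₀ = p ^ (f / r)) :
    r ∣ f ∧ Nonempty (↥(chiKer (space_plus (K := F) (show 3 ≤ m by omega)) ⊓ Subgroup.centralizer {x}) ≃*
        ↥(chiKer (space_plus (K := F₀) (show 3 ≤ m by omega)))) ∧
      ((Odd r ∨ p = 2) → Cfsg.splitClassCount (chiKer (space_plus (K := F) (show 3 ≤ m by omega)))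
        (Cfsg.Inn (Cfsg.POmega F ⇑(formPlus F m))) x = 1) ∧
      ((r = 2 ∧ p ≠ 2 ∧ Odd m ∧ p ^ (f / 2) % 4 = 1) →
        Cfsg.splitClassCount (chiKer (space_plus (K := F) (show 3 ≤ m by omega)))
        (Cfsg.Inn (Cfsg.POmega F ⇑(formPlus F m))) x = 2) ∧
      ((r = 2 ∧ p ≠ 2 ∧ ¬ (Odd m ∧ p ^ (f / 2) % 4 = 1)) →
        Cfsg.splitClassCount (chiKer (space_plus (K := F) (show 3 ≤ m by omega)))
        (Cfsg.Inn (Cfsg.POmega F ⇑(formPlus F m))) x = 4) := by
  have hm3 : 3 ≤ m := by omega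
  have S := space_plus (K := F) hm3
  have : (chiKer (space_plus (K := F) hm3)).Normal := chiKer_plus_normal hm
  obtain ⟨α, φ, σ, hσ, hφ, e0⟩ := hx
  obtain rfl := eq_fld (Q := formPlus F m) fixed_plus hφ
  set y : MulAut (Cfsg.POmega F ⇑(formPlus F m)) := fld σ fixed_plus with hy
  have hyr : orderOf y = r := by rw [← e0, orderOf_conj, hxr]
  obtain ⟨hord, -⟩ := normalise (σ := σ) (Q := formPlus F m) fixed_plus S.nondeg S.five hσ hr 1
    (pow_eq_one_of_orderOf hyr)
  obtain ⟨hd, e, he⟩ := exists_fixedBy (σ := σ) hF hord hF₀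
  have hN' : normProd (gmap σ) (1 : GL (Fin m ⊕ Fin m) F) (orderOf σ) = 1 := by
    generalize orderOf σ = k
    induction k with
    | zero => rfl
    | succ k ih => rw [normProd_succ, ih, map_one, one_mul]
  have hD := descends_one (F := F) (m := m) he
  have hcount : Cfsg.splitClassCount (chiKer (space_plus (K := F) hm3)) (Cfsg.Inn (Cfsg.POmega F ⇑(formPlus F m))) x
      = Cfsg.splitClassCount (chiKer (space_plus (K := F) hm3)) (Cfsg.Inn (Cfsg.POmega F ⇑(formPlus F m)))
        (semiAut 1 σ semi_one_plus) := by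
    rw [← splitClassCount_conj α x, e0]
    rfl
  obtain ⟨i₁⟩ := nonempty_centralizer_conj (H := chiKer (space_plus (K := F) hm3)) α x
  rw [e0] at i₁
  obtain ⟨i₂⟩ := chiKer_centralizer_iso (space_plus (K := F) hm3) (space_plus (K := F₀) hm3) he hD
    semi_one_plus hN'
  refine ⟨hd, ⟨i₁.trans i₂⟩, fun h => ?_, fun h => ?_, fun h => ?_⟩
  · by_cases h2 : (2 : F) = 0
    · exact count_two_char _ h2 _
    · have hodd : Odd (orderOf σ) := hord ▸ h.resolve_right (fun hp => h2 ((two_eq_zero_iff hF hf).1 hp))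
      have H : Setup (formPlus F m) m := ⟨S.nondeg, h2, S.card, S.five⟩
      have h20 : Odd (Fintype.card F₀) := by
        rw [← Nat.card_eq_fintype_card]
        exact odd_natCard_of_two_ne_zero fun h0 => h2 (by rw [← map_ofNat e, h0, map_zero])
      obtain ⟨z, -, -, hz, hzd, -⟩ := OrthoWitness.plus h20 (setup_sub H (basePlus e m))
      rw [hcount]
      exact count_odd_order H _ he hD _ hodd hz hzd
  all_goals
    obtain ⟨rfl, hp, hc⟩ := h
    have h2 : (2 : F) ≠ 0 := fun h0 => hp ((two_eq_zero_iff hF hf).2 h0)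
    rw [hcount, count_plus_two hm ⟨S.nondeg, h2, S.card, S.five⟩ he hord, hF₀]
  · rw [if_pos hc]
  · rw [if_neg hc]

end Cfsg.Agent.H58.OrthoField
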